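import Cfsg.Agent.Lib.FTDeps.Row0516
import Cfsg.Agent.Lib.Linear.Order
import Cfsg.Agent.S0205
import Mathlib.LinearAlgebra.Matrix.GeneralLinearGroup.Defs
import Mathlib.GroupTheory.QuotientGroup.Basic

/-!
# Simple groups acting on a group of order dividing `r ^ 2` or centrally on `r ^ 3` (helper79)
-/

set_option autoImplicit false
set_option linter.style.haveILetI false
set_option linter.unusedSectionVars false

namespace Cfsg.Agent.Lib.CentralType79

open Subgroup
open scoped commutatorElement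

universe u v w

theorem comm_of_surjective {A B : Type*} [Group A] [Group B] (g : A →* B)
    (hg : Function.Surjective g) (h : ∀ x y : A, g (x * y) = g (y * x)) : IsMulCommutative B :=
  ⟨⟨fun a b => by
    obtain ⟨x, rfl⟩ := hg a
    obtain ⟨y, rfl⟩ := hg b
    rw [← map_mul, h, map_mul]⟩⟩

/-- Endomorphisms of a group of order `r ^ 2` and exponent `r` as matrices. -/
theorem exists_matrix_rep {r : ℕ} [Fact r.Prime] {Y : Type u} [CommGroup Y] [Finite Y]
    (hcard : Nat.card Y = r ^ 2) (hexp : ∀ y : Y, y ^ r = 1) :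
    ∃ g : MulAut Y →* GL (Fin 2) (ZMod r), Function.Injective g := by
  have hA : ∀ y : Additive Y, r • y = 0 := fun y =>
    congrArg Additive.ofMul (hexp (Additive.toMul y))
  letI : Module (ZMod r) (Additive Y) := AddCommGroup.zmodModule hA
  haveI hMod : Module (ZMod r) (Additive Y) := inferInstance
  haveI : Module.Finite (ZMod r) (Additive Y) :=
    Module.Finite.of_finite (R := ZMod r) (M := Additive Y)
  have hdim : Module.finrank (ZMod r) (Additive Y) = 2 := by
    have h1 : Nat.card (Additive Y) = Nat.card (ZMod r) ^ Module.finrank (ZMod r) (Additive Y) :=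
      Module.natCard_eq_pow_finrank
    rw [Nat.card_zmod, Nat.card_congr (Additive.toMul (α := Y)), hcard] at h1
    exact (Nat.pow_right_injective (Fact.out : r.Prime).two_le h1).symm
  let b := Module.finBasisOfFinrankEq (ZMod r) (Additive Y) hdim
  let E : MulAut Y → (Additive Y →ₗ[ZMod r] Additive Y) := fun α =>
    AddMonoidHom.toZModLinearMap r (MonoidHom.toAdditive α.toMonoidHom)
  have hE : ∀ (α : MulAut Y) (y : Y), E α (Additive.ofMul y) = Additive.ofMul (α y) := fun _ _ => rfl
  let m : MulAut Y →* Matrix (Fin 2) (Fin 2) (ZMod r) :=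
    { toFun := fun α => LinearMap.toMatrixAlgEquiv b (E α)
      map_one' := by
        rw [show E 1 = 1 from LinearMap.ext fun y => rfl, map_one]
      map_mul' := fun α β => by
        rw [show E (α * β) = E α * E β from LinearMap.ext fun y => rfl, map_mul] }
  refine ⟨m.toHomUnits, fun α β h => MulEquiv.ext fun y => ?_⟩
  have h2 : E α = E β := (LinearMap.toMatrixAlgEquiv b).injective (congrArg Units.val h)
  exact Additive.ofMul.injective (by rw [← hE, ← hE, h2])

/-- An involution of `SL(2, r)`, `r` odd, is central. -/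
theorem central_of_involution {K : Type*} [Field K] (h2 : (2 : K) ≠ 0)
    (A : Matrix (Fin 2) (Fin 2) K) (hA : A * A = 1) (hdet : A.det = 1)
    (B : Matrix (Fin 2) (Fin 2) K) : A * B = B * A := by
  have h00 := congrFun (congrFun hA 0) 0
  have h01 := congrFun (congrFun hA 0) 1
  have h10 := congrFun (congrFun hA 1) 0
  have h11 := congrFun (congrFun hA 1) 1
  simp only [Matrix.mul_apply, Fin.sum_univ_two, Matrix.one_apply_eq,
    Matrix.one_apply_ne (show (0 : Fin 2) ≠ 1 by decide),
    Matrix.one_apply_ne (show (1 : Fin 2) ≠ 0 by decide)] at h00 h01 h10 h11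
  rw [Matrix.det_fin_two] at hdet
  have ht : A 0 0 + A 1 1 ≠ 0 := fun h => h2 (by linear_combination -h00 - hdet + A 0 0 * h)
  have hb : A 0 1 = 0 := by
    refine (mul_eq_zero.1 ?_).resolve_right ht
    linear_combination h01
  have hc : A 1 0 = 0 := by
    refine (mul_eq_zero.1 ?_).resolve_right ht
    linear_combination h10
  have hd : A 0 0 = A 1 1 := by
    rw [hb, zero_mul, sub_zero] at hdet
    rw [hb, zero_mul, add_zero] at h00
    have ha : A 0 0 ≠ 0 := fun e => by simp [e] at h00
    exact mul_left_cancel₀ ha (h00.trans hdet.symm)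
  ext i j
  fin_cases i <;> fin_cases j <;> simp [Matrix.mul_apply, Fin.sum_univ_two, hb, hc, hd] <;> ring

variable {r : ℕ} [hr : Fact r.Prime] {S : Type w} [Group S] [Finite S] [IsSimpleGroup S]

theorem image_eq_bot_or_top {L : Type*} [Group L] (π : L →* S) (hπ : Function.Surjective π)
    (K : Subgroup L) [hK : K.Normal] : K.map π = ⊥ ∨ K.map π = ⊤ :=
  IsSimpleGroup.eq_bot_or_eq_top_of_normal _ (hK.map π hπ)

/-- No large simple section acts on a group of order dividing `r ^ 2`. -/
theorem no_small_action (hr2 : r ≠ 2) (hS : ¬ IsMulCommutative S)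
    (hbig : r * (r * r - 1) < 2 * Nat.card S) {Y : Type u} [Group Y] [Finite Y]
    (hY : Nat.card Y ∣ r ^ 2) {L : Type v} [Group L] [Finite L] (a : L →* MulAut Y) (π : L →* S)
    (hπ : Function.Surjective π) (hker : a.ker ≤ π.ker) : False := by
  classical
  have hcomm_false : (∀ x y : L, a (x * y) = a (y * x)) → False := fun h =>
    hS (comm_of_surjective π hπ fun x y => by
      have hm : (y * x)⁻¹ * (x * y) ∈ π.ker :=
        hker (by rw [MonoidHom.mem_ker, map_mul, h, ← map_mul, inv_mul_cancel, map_one])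
      rw [MonoidHom.mem_ker, map_mul, map_inv, inv_mul_eq_one] at hm
      exact hm.symm)
  by_cases hcyc : IsCyclic Y
  · refine hcomm_false fun x y => ?_
    refine (IsCyclic.mulAutMulEquiv (G := Y)).injective ?_
    rw [map_mul, map_mul, map_mul, map_mul, mul_comm]
  obtain ⟨k, hk, hk'⟩ := (Nat.dvd_prime_pow hr.out).1 hY
  have hk2 : k = 2 := by
    by_contra hne
    apply hcyc
    rcases (show k = 0 ∨ k = 1 by omega) with rfl | rfl
    · haveI : Subsingleton Y := (Nat.card_eq_one_iff_unique.1 (by rw [hk', pow_zero])).1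
      exact isCyclic_of_subsingleton
    · exact isCyclic_of_prime_card (p := r) (by rw [hk', pow_one])
  subst hk2
  have hcommY : ∀ x y : Y, x * y = y * x := IsPGroup.commutative_of_card_eq_prime_sq hk'
  letI : CommGroup Y := { (inferInstance : Group Y) with mul_comm := hcommY }
  have hexp : ∀ y : Y, y ^ r = 1 := fun y => by
    obtain ⟨j, hj, hj'⟩ := (Nat.dvd_prime_pow hr.out).1 (hk' ▸ orderOf_dvd_natCard y)
    rcases (show j ≤ 1 ∨ j = 2 by omega) with h1 | rfl
    · exact orderOf_dvd_iff_pow_eq_one.1 (hj' ▸ (pow_dvd_pow r h1).trans (dvd_of_eq (pow_one r)))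
    · exact absurd (isCyclic_of_orderOf_eq_card y (hj'.trans hk'.symm)) hcyc
  obtain ⟨g, hg⟩ := exists_matrix_rep hk' hexp
  set L₀ : Subgroup L := (Matrix.GeneralLinearGroup.det.comp (g.comp a)).ker with hL₀
  have hsurj : Function.Surjective (π.comp L₀.subtype) := by
    rw [← MonoidHom.range_eq_top, MonoidHom.range_comp, Subgroup.range_subtype]
    refine (image_eq_bot_or_top π hπ L₀).resolve_left fun h => hS (comm_of_surjective π hπ ?_)
    intro x y
    have hm : (y * x)⁻¹ * (x * y) ∈ L₀ := by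
      rw [hL₀, MonoidHom.mem_ker]
      simp only [map_mul, map_inv]
      rw [mul_comm ((Matrix.GeneralLinearGroup.det.comp (g.comp a)) x)]
      group
    have : π ((y * x)⁻¹ * (x * y)) ∈ L₀.map π := mem_map_of_mem π hm
    rw [h, Subgroup.mem_bot, map_mul, map_inv, inv_mul_eq_one] at this
    exact this.symm
  let sl : L₀ →* Matrix.SpecialLinearGroup (Fin 2) (ZMod r) :=
    { toFun := fun x => (⟨(g (a x) : Matrix (Fin 2) (Fin 2) (ZMod r)),
        congrArg Units.val (MonoidHom.mem_ker.1 x.2)⟩ :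
          Matrix.SpecialLinearGroup (Fin 2) (ZMod r))
      map_one' := Subtype.ext (show (g (a ((1 : L₀) : L)) : Matrix (Fin 2) (Fin 2) (ZMod r)) = 1 by
        rw [OneMemClass.coe_one, map_one, map_one, Units.val_one])
      map_mul' := fun x y => Subtype.ext (show (g (a ((x * y : L₀) : L)) : Matrix (Fin 2) (Fin 2) (ZMod r)) =
          (g (a x) : Matrix (Fin 2) (Fin 2) (ZMod r)) * (g (a y) : Matrix (Fin 2) (Fin 2) (ZMod r)) by
        rw [Subgroup.coe_mul, map_mul, map_mul, Units.val_mul]) }
  have hker' : sl.ker ≤ (π.comp L₀.subtype).ker := fun x hx => by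
    refine hker (MonoidHom.mem_ker.2 (hg ?_))
    rw [map_one]
    have hx' : sl x = 1 := MonoidHom.mem_ker.1 hx
    exact Units.ext (congrArg (fun z : Matrix.SpecialLinearGroup (Fin 2) (ZMod r) =>
      (z : Matrix (Fin 2) (Fin 2) (ZMod r))) hx')
  let Γ := sl.range
  let π' : Γ →* S := sl.rangeRestrict.liftOfSurjective sl.rangeRestrict_surjective
    ⟨π.comp L₀.subtype, by rw [MonoidHom.ker_rangeRestrict]; exact hker'⟩
  have hπ' : Function.Surjective π' := fun s => by
    obtain ⟨x, rfl⟩ := hsurj s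
    exact ⟨sl.rangeRestrict x, sl.rangeRestrict.liftOfRightInverse_comp_apply _ _ _ x⟩
  have hcardΓ : Nat.card Γ ∣ r * (r * r - 1) := by
    refine (Subgroup.card_subgroup_dvd_card Γ).trans (dvd_of_eq ?_)
    rw [Lib.Linear.card_SL_two, ZMod.card]
    obtain ⟨j, rfl⟩ := Nat.exists_eq_add_of_le hr.out.one_le
    rw [Nat.add_sub_cancel_left, show (1 + j) * (1 + j) - 1 = j * (1 + j + 1) by
      rw [show (1 + j) * (1 + j) = 1 + j * (1 + j + 1) by ring, Nat.add_sub_cancel_left], mul_assoc]
  have hSeven : 2 ∣ Nat.card S := by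
    refine (Nat.not_odd_iff_even.1 (FTDeps.Row0516.even_card
      (fun H _ _ h => Cfsg.Agent.S0205.result h) hS)).two_dvd
  haveI : Fact (Nat.Prime 2) := ⟨Nat.prime_two⟩
  obtain ⟨t, ht⟩ := exists_prime_orderOf_dvd_card' (G := Γ) 2
    (hSeven.trans (Subgroup.card_dvd_of_surjective π' hπ'))
  have h2 : (2 : ZMod r) ≠ 0 := by
    intro h
    have : ((2 : ℕ) : ZMod r) = 0 := by exact_mod_cast h
    exact hr2 ((Nat.prime_dvd_prime_iff_eq hr.out Nat.prime_two).1 ((ZMod.natCast_eq_zero_iff _ _).1 this))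
  have htc : ∀ x : Γ, t * x = x * t := fun x => by
    refine Subtype.ext (Subtype.ext ?_)
    refine central_of_involution h2 (t : Matrix.SpecialLinearGroup (Fin 2) (ZMod r)).1 ?_
      (t : Matrix.SpecialLinearGroup (Fin 2) (ZMod r)).2 _
    have h1 : t * t = 1 := by
      have h0 := pow_orderOf_eq_one t
      rwa [ht, sq] at h0
    exact congrArg (fun z : Γ => (z : Matrix.SpecialLinearGroup (Fin 2) (ZMod r)).1) h1
  have htker : t ∈ π'.ker := by
    have hc : π' t ∈ Subgroup.center S := mem_center_iff.2 fun s => by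
      obtain ⟨x, rfl⟩ := hπ' s
      rw [← map_mul, ← map_mul, htc]
    rcases IsSimpleGroup.eq_bot_or_eq_top_of_normal (Subgroup.center S) inferInstance with e | e
    · rw [e, Subgroup.mem_bot] at hc; exact hc
    · exact absurd ⟨⟨fun x y => (mem_center_iff.1 (e ▸ mem_top y) x)⟩⟩ hS
  have h2k : 2 ∣ Nat.card π'.ker :=
    (dvd_of_eq ht.symm).trans (Subgroup.orderOf_dvd_natCard _ htker)
  have hidx : π'.ker.index = Nat.card S := by
    rw [Subgroup.index_ker, MonoidHom.range_eq_top.2 hπ', Subgroup.card_top]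
  have h3 : 2 * Nat.card S ∣ r * (r * r - 1) := by
    refine (Nat.mul_dvd_mul_right h2k _).trans ?_
    rw [← hidx, Subgroup.card_mul_index]
    exact hcardΓ
  have hpos : 0 < r * (r * r - 1) := by
    have := hr.out.two_le
    have h4 : 4 ≤ r * r := by nlinarith
    exact Nat.mul_pos (by omega) (by omega)
  exact absurd (Nat.le_of_dvd hpos h3) (not_le.2 hbig)

/-- No large simple section acts on a group of order dividing `r ^ 3` fixing a central subgroup
other than the trivial ones. -/
theorem no_series_action (hr2 : r ≠ 2) (hS : ¬ IsMulCommutative S)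
    (hbig : r * (r * r - 1) < 2 * Nat.card S) {Y : Type u} [Group Y] [Finite Y]
    (hY : Nat.card Y ∣ r ^ 3) (T : Subgroup Y) (hTc : T ≤ Subgroup.center Y) (hT1 : T ≠ ⊥)
    (hT2 : T ≠ ⊤) {L : Type v} [Group L] [Finite L] (a : L →* MulAut Y)
    (hinv : ∀ l, ∀ t ∈ T, a l t ∈ T) (π : L →* S) (hπ : Function.Surjective π)
    (hker : a.ker ≤ π.ker) : False := by
  classical
  haveI : T.Normal := ⟨fun t ht g => by
    rw [(mem_center_iff.1 (hTc ht) g), mul_inv_cancel_right]; exact ht⟩
  have hinv' : ∀ l, T.map (a l).toMonoidHom = T := fun l => by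
    refine le_antisymm ?_ fun t ht => ⟨a l⁻¹ t, hinv l⁻¹ t ht, ?_⟩
    · rintro _ ⟨t, ht, rfl⟩; exact hinv l t ht
    · show a l (a l⁻¹ t) = t
      rw [← MulAut.mul_apply, ← map_mul, mul_inv_cancel, map_one, MulAut.one_apply]
  obtain ⟨i, hi, hi'⟩ := (Nat.dvd_prime_pow hr.out).1 hY
  obtain ⟨j, hj, hj'⟩ := (Nat.dvd_prime_pow hr.out).1
    ((Subgroup.card_subgroup_dvd_card T).trans (dvd_of_eq hi'))
  have hj0 : 0 < j := Nat.pos_of_ne_zero fun h => hT1 (Subgroup.card_eq_one.1 (by rw [hj', h, pow_zero]))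
  have hji : j < i := lt_of_le_of_ne hj fun h => hT2 (Subgroup.eq_top_of_card_eq _ (by rw [hj', hi', h]))
  have hTdvd : Nat.card T ∣ r ^ 2 := hj' ▸ pow_dvd_pow r (by omega)
  have hQdvd : Nat.card (Y ⧸ T) ∣ r ^ 2 := by
    have h1 : Nat.card T * Nat.card (Y ⧸ T) = r ^ j * r ^ (i - j) := by
      rw [← pow_add, Nat.add_sub_cancel' hji.le, ← hi', ← Subgroup.index_eq_card]
      exact T.card_mul_index
    rw [hj'] at h1
    rw [Nat.eq_of_mul_eq_mul_left (pow_pos hr.out.pos j) h1]
    exact pow_dvd_pow r (by omega)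
  let a1 : L →* MulAut T :=
    { toFun := fun l => ((a l).subgroupMap T).trans (MulEquiv.subgroupCongr (hinv' l))
      map_one' := MulEquiv.ext fun t => Subtype.ext (show a 1 (t : Y) = t by
        rw [map_one, MulAut.one_apply])
      map_mul' := fun x y => MulEquiv.ext fun t => Subtype.ext (show a (x * y) (t : Y) = a x (a y t) by
        rw [map_mul, MulAut.mul_apply]) }
  let a2 : L →* MulAut (Y ⧸ T) :=
    { toFun := fun l => QuotientGroup.congr T T (a l) (hinv' l)
      map_one' := MulEquiv.ext fun t => by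
        induction t using QuotientGroup.induction_on with
        | H t =>
          show QuotientGroup.mk (a 1 t) = (QuotientGroup.mk t : Y ⧸ T)
          rw [map_one, MulAut.one_apply]
      map_mul' := fun x y => MulEquiv.ext fun t => by
        induction t using QuotientGroup.induction_on with
        | H t =>
          show QuotientGroup.mk (a (x * y) t) = (QuotientGroup.mk (a x (a y t)) : Y ⧸ T)
          rw [map_mul, MulAut.mul_apply] }
  rcases image_eq_bot_or_top π hπ a1.ker with h | h
  · exact no_small_action hr2 hS hbig hTdvd a1 π hπ ((Subgroup.map_eq_bot_iff _).1 h)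
  set B : Subgroup L := a1.ker ⊓ a2.ker with hB
  have hfixT : ∀ l ∈ B, ∀ t ∈ T, a l t = t := fun l hl t ht =>
    congrArg Subtype.val (MulEquiv.congr_fun (MonoidHom.mem_ker.1 hl.1) ⟨t, ht⟩)
  have hmove : ∀ l ∈ B, ∀ y : Y, y⁻¹ * a l y ∈ T := fun l hl y => by
    have := MulEquiv.congr_fun (MonoidHom.mem_ker.1 hl.2) (QuotientGroup.mk y)
    exact QuotientGroup.eq.1 (this.symm)
  have hBcomm : ∀ x ∈ B, ∀ y ∈ B, π (x * y) = π (y * x) := by
    intro x hx y hy
    have hxy : a (x * y) = a (y * x) := MulEquiv.ext fun z => by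
      rw [map_mul, map_mul, MulAut.mul_apply, MulAut.mul_apply]
      have h1 : a x z = z * (z⁻¹ * a x z) := (mul_inv_cancel_left _ _).symm
      have h2 : a y z = z * (z⁻¹ * a y z) := (mul_inv_cancel_left _ _).symm
      have h3 : a x (a y z) = a x z * (z⁻¹ * a y z) := by
        conv_lhs => rw [h2, map_mul, hfixT x hx _ (hmove y hy z)]
      have h4 : a y (a x z) = a y z * (z⁻¹ * a x z) := by
        conv_lhs => rw [h1, map_mul, hfixT y hy _ (hmove x hx z)]
      have h5 : (z⁻¹ * a x z) * (z⁻¹ * a y z) = (z⁻¹ * a y z) * (z⁻¹ * a x z) :=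
        mem_center_iff.1 (hTc (hmove y hy z)) _
      rw [h3, h4]
      calc a x z * (z⁻¹ * a y z) = z * ((z⁻¹ * a x z) * (z⁻¹ * a y z)) := by group
        _ = z * ((z⁻¹ * a y z) * (z⁻¹ * a x z)) := by rw [h5]
        _ = a y z * (z⁻¹ * a x z) := by group
    have hm : (y * x)⁻¹ * (x * y) ∈ π.ker :=
      hker (by rw [MonoidHom.mem_ker, map_mul, hxy, ← map_mul, inv_mul_cancel, map_one])
    rw [MonoidHom.mem_ker, map_mul, map_inv, inv_mul_eq_one] at hm
    exact hm.symm
  have hBbot : B.map π = ⊥ := (image_eq_bot_or_top π hπ B).resolve_right fun e =>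
    hS ⟨⟨fun s s' => by
      obtain ⟨x, hx, rfl⟩ := e.symm ▸ Subgroup.mem_top s
      obtain ⟨y, hy, rfl⟩ := e.symm ▸ Subgroup.mem_top s'
      rw [← map_mul, hBcomm x hx y hy, map_mul]⟩⟩
  refine no_small_action hr2 hS hbig hQdvd (a2.comp a1.ker.subtype) (π.comp a1.ker.subtype) ?_ ?_
  · rw [← MonoidHom.range_eq_top, MonoidHom.range_comp, Subgroup.range_subtype]; exact h
  · intro x hx
    have : π (x : L) ∈ B.map π := mem_map_of_mem π ⟨x.2, MonoidHom.mem_ker.1 hx⟩
    rwa [hBbot, Subgroup.mem_bot] at this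

end Cfsg.Agent.Lib.CentralType79
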