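import Cfsg.Agent.Lib.CentralType79.OddCase
import Cfsg.Agent.Lib.AllAbelian80.Aut.PSL
import Cfsg.Agent.Lib.AutPSL.Card
import Cfsg.Agent.Lib.NumberTheory.Zsigmondy
import Cfsg.Agent.Lib.SU3Max96.SmallAut
import Cfsg.Agent.Lib.Linear.SL2

/-!
# Good primes for `PSL(2,q)` and `A₇` (helper79)
-/

set_option autoImplicit false
set_option linter.style.haveILetI false
set_option linter.unusedSectionVars false

namespace Cfsg.Agent.Lib.CentralType79

open Subgroup

universe u v

variable {F : Type} [Field F] [Fintype F]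

local notation "PSL2" => Matrix.ProjectiveSpecialLinearGroup (Fin 2) F

theorem psl_cyclic {p : ℕ} [Fact p.Prime] [CharP F p] {r : ℕ} [Fact r.Prime] (hr2 : r ≠ 2)
    (hrp : r ≠ p) (U : Subgroup PSL2) (hU : IsPGroup r U) : IsCyclic U := by
  let m : Matrix.SpecialLinearGroup (Fin 2) F →* PSL2 :=
    QuotientGroup.mk' (Subgroup.center (Matrix.SpecialLinearGroup (Fin 2) F))
  let g := m.subgroupComap U
  have hg : Function.Surjective g :=
    m.subgroupComap_surjective_of_surjective U (QuotientGroup.mk'_surjective _)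
  obtain ⟨R⟩ : Nonempty (Sylow r (U.comap m)) := inferInstance
  haveI hRc : IsCyclic (R : Subgroup (U.comap m)) := by
    haveI := Cfsg.Agent.Lib.Linear.isCyclic_of_isPGroup p r hr2 hrp
      ((R : Subgroup (U.comap m)).map (U.comap m).subtype) (R.2.map _)
    exact ((R : Subgroup (U.comap m)).equivMapOfInjective _ (U.comap m).subtype_injective).isCyclic.2 ‹_›
  have htop : (R : Subgroup (U.comap m)).map g = ⊤ := by
    show ((R.mapSurjective hg : Sylow r U) : Subgroup U) = ⊤
    exact ((R.mapSurjective hg).3 (hU.of_equiv Subgroup.topEquiv.symm) le_top).symm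
  refine isCyclic_of_surjective (g.comp (R : Subgroup (U.comap m)).subtype) fun y => ?_
  obtain ⟨x, hx, rfl⟩ := (htop.ge (mem_top y) : y ∈ (R : Subgroup (U.comap m)).map g)
  exact ⟨⟨x, hx⟩, rfl⟩

theorem psl_inner_of_field {p f : ℕ} [Fact p.Prime] (hF : Fintype.card F = p ^ f) {r : ℕ}
    [hr : Fact r.Prime] (hr2 : r ≠ 2) (hrf : ¬ r ∣ f) (α : MulAut PSL2) (k : ℕ) (hα : α ^ r ^ k = 1) :
    ∃ s : PSL2, MulAut.conj s = α := by
  obtain ⟨g, σ, rfl⟩ := AllAbelian80.exists_semilinear_eq α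
  have h1 := AllAbelian80.orderOf_field_dvd hα
  have h2 : orderOf σ ∣ f := by
    rw [← AutPSL.card_fieldAuts hF]
    exact orderOf_dvd_natCard σ
  have hσ : σ = 1 := orderOf_eq_one_iff.1 (Nat.eq_one_of_dvd_coprimes
    (Nat.Coprime.pow_left k (hr.out.coprime_iff_not_dvd.2 hrf)) h1 h2)
  subst hσ
  rw [map_one, mul_one] at hα ⊢
  obtain ⟨s, hs⟩ := AllAbelian80.inner_of_odd ((hr.out.odd_of_ne_two hr2).pow) hα
  exact ⟨s, hs⟩

/-- A good prime of `PSL(2,q)`. -/
theorem good_psl (hq : 4 ≤ Fintype.card F) : ∃ r, Good r PSL2 := by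
  obtain ⟨p, hp⟩ := CharP.exists F
  haveI := hp
  obtain ⟨⟨f, hf0⟩, hpp, hF⟩ := FiniteField.card F p
  have hF' : Fintype.card F = p ^ f := hF
  haveI : Fact p.Prime := ⟨hpp⟩
  have hcard := Linear.gcd_mul_card_PSL_two (F := F)
  set q := Fintype.card F
  have hgcd : Nat.gcd 2 (q - 1) ≤ 2 := Nat.le_of_dvd two_pos (Nat.gcd_dvd_left _ _)
  have h2S : q * (q - 1) * (q + 1) ≤ 2 * Nat.card PSL2 :=
    hcard ▸ Nat.mul_le_mul_right _ hgcd
  have hdvd : ∀ r : ℕ, r.Prime → r ≠ 2 → r ∣ q * (q - 1) * (q + 1) → r ∣ Nat.card PSL2 := by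
    intro r hr hr2 hd
    rw [← hcard] at hd
    exact (hr.dvd_mul.1 hd).resolve_left fun h => hr2
      ((Nat.prime_dvd_prime_iff_eq hr Nat.prime_two).1 (h.trans (Nat.gcd_dvd_left _ _)))
  have mk : ∀ r : ℕ, r.Prime → r ≠ 2 → r ≠ p → r ∣ q * (q - 1) * (q + 1) → ¬ r ∣ f →
      r * (r * r - 1) < 2 * Nat.card PSL2 → Good r PSL2 := fun r hr hr2 hrp hd hrf hbig => by
    haveI : Fact r.Prime := ⟨hr⟩
    exact ⟨hr, hr2, hdvd r hr hr2 hd, psl_cyclic hr2 hrp,
      psl_inner_of_field hF' hr2 hrf, hbig⟩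
  by_cases hf1 : f = 1
  · subst hf1
    rw [pow_one] at hF'
    have hp5 : 5 ≤ p := by
      rcases (show p = 4 ∨ 5 ≤ p by omega) with rfl | h
      · exact absurd hpp (by norm_num)
      · exact h
    refine ⟨3, mk 3 Nat.prime_three (by norm_num) (by omega) ?_ (by norm_num) ?_⟩
    · refine Nat.dvd_of_mod_eq_zero ?_
      obtain ⟨k, hk⟩ : ∃ k, q = k + 1 := ⟨q - 1, by omega⟩
      rw [hk, Nat.add_sub_cancel]
      have : k % 3 = 0 ∨ k % 3 = 1 ∨ k % 3 = 2 := by omega
      rcases this with e | e | e <;> simp [Nat.mul_mod, Nat.add_mod, e]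
    · refine lt_of_lt_of_le ?_ h2S
      calc 3 * (3 * 3 - 1) < 5 * 4 * 6 := by norm_num
        _ ≤ q * (q - 1) * (q + 1) := Nat.mul_le_mul (Nat.mul_le_mul (by omega) (by omega)) (by omega)
  by_cases h4 : q = 4
  · have hpf : p ^ f = 4 := hF'.symm.trans h4
    have hp2 : p = 2 := (Nat.prime_dvd_prime_iff_eq hpp Nat.prime_two).1
      (hpp.dvd_of_dvd_pow (show p ∣ 2 ^ 2 by
        rw [show (2 : ℕ) ^ 2 = p ^ f by rw [hpf]; norm_num]; exact dvd_pow_self p (by omega)))
    subst hp2
    have hf2 : f = 2 := Nat.pow_right_injective le_rfl (hpf.trans (by norm_num))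
    subst hf2
    refine ⟨3, mk 3 Nat.prime_three (by norm_num) (by norm_num) (by rw [h4]; norm_num)
      (by norm_num) (lt_of_lt_of_le ?_ h2S)⟩
    rw [h4]; norm_num
  by_cases h8 : q = 8
  · have hpf : p ^ f = 8 := hF'.symm.trans h8
    have hp2 : p = 2 := (Nat.prime_dvd_prime_iff_eq hpp Nat.prime_two).1
      (hpp.dvd_of_dvd_pow (show p ∣ 2 ^ 3 by
        rw [show (2 : ℕ) ^ 3 = p ^ f by rw [hpf]; norm_num]; exact dvd_pow_self p (by omega)))
    subst hp2
    have hf3 : f = 3 := Nat.pow_right_injective le_rfl (hpf.trans (by norm_num))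
    subst hf3
    refine ⟨7, mk 7 (by norm_num) (by norm_num) (by norm_num) (by rw [h8]; norm_num)
      (by norm_num) (lt_of_lt_of_le ?_ h2S)⟩
    rw [h8]; norm_num
  have hf2 : 2 ≤ f := by omega
  obtain ⟨r, hr, hord⟩ := NumberTheory.exists_primitive_prime (q := p) (n := 2 * f) hpp.two_le
    (by omega) (fun h => h8 (by rw [hF', h.1, show f = 3 by omega]; norm_num))
    (fun h => by omega)
  haveI : Fact r.Prime := ⟨hr⟩
  have hp0 : (p : ZMod r) ≠ 0 := fun h => by
    rw [h, orderOf_eq_zero] at hord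
    · omega
    · rw [isOfFinOrder_iff_pow_eq_one]
      rintro ⟨n, hn, hn1⟩
      rw [zero_pow hn.ne'] at hn1
      exact zero_ne_one hn1
  have hrp : r ≠ p := fun h => hp0 (by rw [← h]; exact ZMod.natCast_self r)
  have hdiv : 2 * f ∣ r - 1 := hord ▸ ZMod.orderOf_dvd_card_sub_one hp0
  have hr1 : 2 * f < r := by
    have h1 := Nat.le_of_dvd (by have := hr.two_le; omega) hdiv
    omega
  have hr2 : r ≠ 2 := by omega
  have hq1 : (q : ZMod r) + 1 = 0 := by
    have h1 : (q : ZMod r) * q = 1 := by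
      rw [hF', Nat.cast_pow, ← pow_add, ← two_mul, ← hord, pow_orderOf_eq_one]
    have h2 : (q : ZMod r) ≠ 1 := fun h => by
      rw [hF', Nat.cast_pow] at h
      have := Nat.le_of_dvd (by omega) (hord ▸ orderOf_dvd_of_pow_eq_one h)
      omega
    rcases mul_self_eq_one_iff.1 h1 with h | h
    · exact absurd h h2
    · rw [h, neg_add_cancel]
  have hrq : r ∣ q + 1 := (ZMod.natCast_eq_zero_iff _ _).1 (by push_cast; exact hq1)
  refine ⟨r, mk r hr hr2 hrp (hrq.mul_left _) (fun h => absurd (Nat.le_of_dvd (by omega) h)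
    (by omega)) (lt_of_lt_of_le ?_ (le_refl _))⟩
  have hrle : r ≤ q + 1 := Nat.le_of_dvd (by omega) hrq
  have hq5 : 5 ≤ q := by omega
  obtain ⟨k, hk⟩ : ∃ k, q = k + 1 := ⟨q - 1, by omega⟩
  rcases Nat.lt_or_ge r (q + 1) with hlt | hge
  · have hrq' : r < q := by
      rcases (show r < q ∨ r = q by omega) with h | h
      · exact h
      · rw [h] at hrq
        have := Nat.eq_one_of_dvd_coprimes (Nat.coprime_self_add_right.2 (Nat.coprime_one_right q))
          (dvd_refl q) hrq
        omega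
    refine lt_of_lt_of_le ?_ h2S
    have h1 : r * r - 1 < (q - 1) * (q + 1) := by
      rw [hk, Nat.add_sub_cancel]
      have : r * r ≤ k * k := Nat.mul_le_mul (by omega) (by omega)
      have : k * (k + 1 + 1) = k * k + 2 * k := by ring
      omega
    calc r * (r * r - 1) < q * ((q - 1) * (q + 1)) := Nat.mul_lt_mul'' hrq' h1
      _ = q * (q - 1) * (q + 1) := (mul_assoc _ _ _).symm
  · have hreq : r = q + 1 := le_antisymm hrle hge
    have heven : Even q := by
      have := hr.odd_of_ne_two hr2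
      rw [hreq] at this
      rcases Nat.even_or_odd q with h | h
      · exact h
      · exact absurd this (Nat.not_odd_iff_even.2 h.add_one)
    rw [Linear.card_PSL_two_of_even heven, hreq]
    show (q + 1) * ((q + 1) * (q + 1) - 1) < 2 * (q * (q - 1) * (q + 1))
    rw [hk, Nat.add_sub_cancel]
    have e : (k + 1 + 1) * (k + 1 + 1) - 1 = (k + 1) * (k + 3) := by
      have : (k + 1 + 1) * (k + 1 + 1) = (k + 1) * (k + 3) + 1 := by ring
      omega
    rw [e]
    have : k + 3 < 2 * k := by omega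
    calc (k + 1 + 1) * ((k + 1) * (k + 3)) < (k + 1 + 1) * ((k + 1) * (2 * k)) :=
        Nat.mul_lt_mul_of_pos_left (Nat.mul_lt_mul_of_pos_left this (by omega)) (by omega)
      _ = 2 * ((k + 1) * k * (k + 1 + 1)) := by ring

/-- A good prime of `A₇`. -/
theorem good_A7 : Good 5 (alternatingGroup (Fin 7)) := by
  haveI : Fact (Nat.Prime 5) := ⟨by norm_num⟩
  have hcard : Nat.card (alternatingGroup (Fin 7)) = 2520 := by
    rw [nat_card_alternatingGroup, Nat.card_fin]
    rfl
  refine ⟨by norm_num, by norm_num, by rw [hcard]; norm_num, fun U hU => ?_, fun α k hα => ?_,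
    by rw [hcard]; norm_num⟩
  · obtain ⟨j, hj⟩ := IsPGroup.iff_card.1 hU
    have h1 : 5 ^ j ∣ 2520 := hj ▸ hcard ▸ Subgroup.card_subgroup_dvd_card U
    rcases (show j = 0 ∨ j = 1 ∨ 2 ≤ j by omega) with rfl | rfl | h2
    · haveI : Subsingleton U := (Nat.card_eq_one_iff_unique.1 hj).1
      exact isCyclic_of_subsingleton
    · exact isCyclic_of_prime_card (p := 5) (by rw [hj, pow_one])
    · exact absurd ((pow_dvd_pow 5 h2).trans h1) (by norm_num)
  · set Inn := (MulAut.conj : alternatingGroup (Fin 7) →* MulAut (alternatingGroup (Fin 7))).range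
      with hInn
    have hinj : Function.Injective
        (MulAut.conj : alternatingGroup (Fin 7) →* MulAut (alternatingGroup (Fin 7))) := by
      haveI : IsSimpleGroup (alternatingGroup (Fin 7)) := alternatingGroup.isSimpleGroup (by simp)
      rw [← MonoidHom.ker_eq_bot_iff]
      refine (IsSimpleGroup.eq_bot_or_eq_top_of_normal _ inferInstance).resolve_right fun e => ?_
      have hc : IsMulCommutative (alternatingGroup (Fin 7)) := ⟨⟨fun a b => by
        have h1 := MulEquiv.congr_fun (MonoidHom.mem_ker.1 (e ▸ mem_top a : a ∈ MonoidHom.ker _)) b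
        rw [MulAut.conj_apply, MulAut.one_apply, mul_inv_eq_iff_eq_mul] at h1
        exact h1⟩⟩
      have := (Group.is_simple_iff_prime_card (α := alternatingGroup (Fin 7))).1 inferInstance
      rw [hcard] at this
      norm_num at this
    have hcardI : Nat.card Inn = 2520 := by
      rw [hInn, ← Nat.card_congr (MonoidHom.ofInjective hinj).toEquiv, hcard]
    have hidx : Inn.index ∣ 2 := by
      have h1 : Inn.index * 2520 ∣ 2 * 2520 := by
        rw [← hcardI, Subgroup.index_mul_card, hcardI]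
        exact SU3Max96.SmallAut.card_mulAut_A7.trans (by norm_num)
      exact Nat.dvd_of_mul_dvd_mul_right (by norm_num) h1
    have h2 : α ^ 2 ∈ Inn := by
      obtain ⟨c, hc⟩ := hidx
      rw [hc, pow_mul]
      haveI : Inn.Normal := Cfsg.innNormal _
      exact pow_mem (Subgroup.pow_index_mem Inn α) c
    obtain ⟨j, hj⟩ : Odd (5 ^ k) := (Nat.odd_iff.2 (by norm_num)).pow
    have h3 : α = (α ^ 2) ^ (j + 1) := by
      rw [← pow_mul, show 2 * (j + 1) = 5 ^ k + 1 by omega, pow_succ, hα, one_mul]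
    obtain ⟨s, hs⟩ : α ∈ Inn := h3 ▸ pow_mem h2 _
    exact ⟨s, hs⟩

/-- Good primes transfer along isomorphisms. -/
theorem Good.congr {r : ℕ} {S : Type u} {T : Type v} [Group S] [Group T] (e : S ≃* T) (h : Good r T) :
    Good r S where
  prime := h.prime
  odd := h.odd
  dvd := Nat.card_congr e.toEquiv ▸ h.dvd
  cyclic U hU := (U.equivMapOfInjective e.toMonoidHom e.injective).isCyclic.2 (h.cyclic _ (hU.map _))
  inner α k hα := by
    obtain ⟨t, ht⟩ := h.inner (MulAut.congr e α) k (by rw [← map_pow, hα, map_one])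
    refine ⟨e.symm t, (MulAut.congr e).injective (ht ▸ MulEquiv.ext fun x => ?_)⟩
    show e (e.symm t * e.symm x * (e.symm t)⁻¹) = t * x * t⁻¹
    simp
  big := Nat.card_congr e.toEquiv ▸ h.big

end Cfsg.Agent.Lib.CentralType79
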