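import Cfsg.Agent.Lib.CentralType79.SylowTwo
import Cfsg.Agent.Lib.Walter.Main
import Cfsg.Agent.Lib.BenderOne.Final

/-!
# A factor of Janko–Ree type is impossible (helper79)
-/

set_option autoImplicit false
set_option linter.style.haveILetI false
set_option linter.unusedSectionVars false

namespace Cfsg.Agent.Lib.CentralType79

open Subgroup

universe u

variable {G : Type u} [Group G] [Finite G] (D : PData G)

include D in
theorem jr_false (hG : SmallSylows G) {R : Subgroup G} [R.Normal] {N S : Subgroup (G ⧸ R)}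
    (htop : Top R N S) (hJ : Walter.IsJR S) : False := by
  classical
  haveI : Fact (Nat.Prime 2) := ⟨Nat.prime_two⟩
  haveI := htop.simple
  have hfacts : Walter.KnownFacts S :=
    (Walter.knownFacts BenderOne.propSplitFinal).1 S (Or.inr (Or.inr hJ))
  obtain ⟨W, iW, fW, f, q, Y, h, -⟩ := exists_loc htop 2
  haveI := h.Yn
  haveI := h.Nn
  obtain ⟨P⟩ : Nonempty (Sylow 2 G) := inferInstance
  set P' : Sylow 2 W := h.sylow P with hP'
  have hP'c : Nat.card (P' : Subgroup W) = Nat.card (P : Subgroup G) := h.modulo.card_map P.2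
  have hYall : ∀ U : Sylow 2 W, Y ≤ (U : Subgroup W) := by
    intro U
    obtain ⟨U₁, hU₁⟩ := h.Yp.exists_le_sylow
    obtain ⟨g, hg⟩ := MulAction.exists_smul_eq W U₁ U
    intro y hy
    rw [← hg, Sylow.coe_subgroup_smul]
    have hy' : g⁻¹ * y * g ∈ U₁ := hU₁ (by simpa using h.Yn.conj_mem y hy g⁻¹)
    have := Subgroup.smul_mem_pointwise_smul _ (MulAut.conj g) _ hy'
    simpa [mul_assoc] using this
  have h2S : 2 ∣ Nat.card S := by
    obtain ⟨Q⟩ : Nonempty (Sylow 2 S) := inferInstance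
    exact (show 2 ∣ 8 by norm_num).trans (hJ.card_sylow Q ▸ (Q : Subgroup S).card_subgroup_dvd_card)
  have hPcases := comm_or_card D hG P
  -- a nonabelian Sylow subgroup leaves room for at most two elements in `Y`
  have hY2 : Nat.card (P : Subgroup G) = 2 ^ 4 → Nat.card Y ≤ 2 := by
    intro h4
    obtain ⟨Q⟩ : Nonempty (Sylow 2 S) := inferInstance
    let P'' : Sylow 2 (G ⧸ R) := P'.mapSurjective h.qsurj
    obtain ⟨P₂, hP₂⟩ := (Q.2.map S.subtype).exists_le_sylow
    have h8 : 8 ≤ Nat.card ((P' : Subgroup W).map q) := by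
      rw [← hJ.card_sylow Q, ← card_map_of_injective S.subtype_injective (K := (Q : Subgroup S))]
      refine (card_le_of_le hP₂).trans (le_of_eq ?_)
      exact Nat.card_congr (Sylow.equiv P₂ P'').toEquiv
    let g := q.subgroupMap (P' : Subgroup W)
    have h1 := g.ker.card_mul_index
    rw [Subgroup.index_ker, MonoidHom.range_eq_top.2 (q.subgroupMap_surjective _), Subgroup.card_top,
      hP'c, h4] at h1
    have hYk : Nat.card Y ≤ Nat.card g.ker := by
      refine Nat.card_le_card_of_injective (fun y : Y => (⟨⟨y, hYall P' y.2⟩,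
        Subtype.ext (MonoidHom.mem_ker.1 (h.Yker y.2))⟩ : g.ker)) fun a b hab => ?_
      exact Subtype.ext (congrArg (fun z : g.ker => ((z : (P' : Subgroup W)) : W)) hab)
    by_contra hgt
    have : 3 * 8 ≤ Nat.card g.ker * Nat.card ((P' : Subgroup W).map q) :=
      Nat.mul_le_mul ((Nat.lt_of_not_le hgt : 2 < Nat.card Y).trans_le hYk) h8
    omega
  have hcenter : Nat.card Y ≤ 2 → ∀ y ∈ Y, ∀ w : W, w * y = y * w := by
    intro hle y hy w
    by_cases hy1 : y = 1
    · rw [hy1, one_mul, mul_one]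
    have hwy : w * y * w⁻¹ ∈ Y := h.Yn.conj_mem y hy w
    by_cases hwe : w * y * w⁻¹ = y
    · exact mul_inv_eq_iff_eq_mul.1 hwe
    exfalso
    haveI := Fintype.ofFinite Y
    rw [Nat.card_eq_fintype_card] at hle
    have h3 : 2 < Fintype.card Y := Fintype.two_lt_card_iff.2 ⟨⟨y, hy⟩, ⟨_, hwy⟩, 1,
      fun e => hwe (congrArg Subtype.val e).symm, fun e => hy1 (congrArg Subtype.val e),
      fun e => hy1 (conj_eq_one_iff.1 (congrArg Subtype.val e))⟩
    omega
  -- the central case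
  have hc : S ≤ (centralizer (Y : Set W)).map q := by
    rcases hPcases with hab | h4
    · refine h.dichotomy.resolve_right fun hcent => ?_
      have h1 : ¬ 2 ∣ (P' : Subgroup W).relIndex (N.comap q) := fun hd =>
        P'.not_dvd_index (hd.trans (relIndex_dvd_index _ _))
      apply h1
      have hle : (P' : Subgroup W) ⊓ N.comap q ≤ q.ker := fun x hx => by
        refine h.Yker (hcent (mem_inf.2 ⟨mem_centralizer_iff.2 fun y hy => ?_, hx.2⟩))
        obtain ⟨y₀, hy₀, rfl⟩ := hYall P' hy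
        obtain ⟨x₀, hx₀, rfl⟩ := hx.1
        rw [← map_mul, hab y₀ hy₀ x₀ hx₀, map_mul]
      rw [← inf_relIndex_right, ← relIndex_mul_relIndex _ _ (N.comap q) hle
        (fun x hx => show q x ∈ N by rw [MonoidHom.mem_ker.1 hx]; exact one_mem N)]
      refine dvd_mul_of_dvd_right (h2S.trans ?_) _
      rw [← MonoidHom.comap_bot, relIndex_comap, map_comap_eq_self_of_surjective h.qsurj,
        relIndex_bot_left]
      exact card_dvd_of_le h.SN
    · intro s hs
      obtain ⟨w, rfl⟩ := h.qsurj s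
      exact ⟨w, mem_centralizer_iff.2 fun y hy => (hcenter (hY2 h4) y hy w).symm, rfl⟩
  -- the 2-subgroups over the factor centralising `Y` are abelian
  set C := centralizer (Y : Set W) ⊓ S.comap q with hC
  have hab' : ∀ U : Subgroup W, U ≤ C → IsPGroup 2 U → IsMulCommutative U := by
    intro U hU hUp
    rcases hPcases with hab | h4
    · obtain ⟨U₁, hU₁⟩ := hUp.exists_le_sylow
      obtain ⟨g, hg⟩ := MulAction.exists_smul_eq W U₁ P'
      refine ⟨⟨fun a b => Subtype.ext ?_⟩⟩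
      have key : ∀ c : U, g * c * g⁻¹ ∈ (P' : Subgroup W) := fun c => by
        rw [← hg, Sylow.coe_subgroup_smul]
        exact Subgroup.smul_mem_pointwise_smul _ (MulAut.conj g) _ (hU₁ c.2)
      obtain ⟨a', ha', ha''⟩ := key a
      obtain ⟨b', hb', hb''⟩ := key b
      apply (MulAut.conj g).injective
      show g * ((a : W) * b) * g⁻¹ = g * ((b : W) * a) * g⁻¹
      calc g * ((a : W) * b) * g⁻¹ = g * a * g⁻¹ * (g * b * g⁻¹) := by group
        _ = g * b * g⁻¹ * (g * a * g⁻¹) := by rw [← ha'', ← hb'', ← map_mul, hab a' ha' b' hb', map_mul]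
        _ = _ := by group
    -- the Sylow subgroup of the centraliser
    have hY := hY2 h4
    obtain ⟨U₀, hU₀⟩ := (hUp.comap_subtype (K := C)).exists_le_sylow
    suffices hcomm : ∀ a b : (U₀ : Subgroup C), a * b = b * a by
      refine ⟨⟨fun a b => Subtype.ext ?_⟩⟩
      exact congrArg (fun z : (U₀ : Subgroup C) => ((z : C) : W))
        (hcomm ⟨⟨a, hU a.2⟩, hU₀ a.2⟩ ⟨⟨b, hU b.2⟩, hU₀ b.2⟩)
    let π : C →* S := (q.comp C.subtype).codRestrict S fun x => x.2.2
    have hπ : Function.Surjective π := fun s => by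
      obtain ⟨w, hw, hws⟩ := hc s.2
      exact ⟨⟨w, hw, by show q w ∈ S; rw [hws]; exact s.2⟩, Subtype.ext hws⟩
    have hkY : ∀ z : C, π z = 1 → (z : W) ∈ Y := fun z hz =>
      h.Ycent (mem_inf.2 ⟨congrArg Subtype.val hz, z.2.1⟩)
    have hkcen : ∀ z : C, π z = 1 → ∀ c : C, c * z = z * c := fun z hz c =>
      Subtype.ext (hcenter hY _ (hkY z hz) (c : W))
    have hkU : ∀ z : C, π z = 1 → z ∈ U₀ := by
      intro z hz
      have h1 : Y.subgroupOf C ≤ U₀ := by
        obtain ⟨U₁, hU₁⟩ := (h.Yp.comap_subtype (K := C)).exists_le_sylow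
        obtain ⟨g, hg⟩ := MulAction.exists_smul_eq C U₁ U₀
        intro y hy
        rw [← hg, Sylow.coe_subgroup_smul]
        have hy' : g⁻¹ * y * g ∈ U₁ := hU₁ (by
          simpa using (inferInstance : (Y.subgroupOf C).Normal).conj_mem y hy g⁻¹)
        have := Subgroup.smul_mem_pointwise_smul _ (MulAut.conj g) _ hy'
        simpa [mul_assoc] using this
      exact h1 (hkY z hz)
    let V₀ : Sylow 2 S := U₀.mapSurjective hπ
    obtain ⟨n, hn, -, htrans⟩ := hfacts.torus V₀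
    obtain ⟨n₀, rfl⟩ := hπ n
    have hel := hfacts.elementary V₀
    have hsq : ∀ u ∈ (U₀ : Subgroup C), π (u * u) = 1 := fun u hu => by
      rw [map_mul, ← sq]
      exact hel.2 _ ⟨u, hu, rfl⟩
    -- squares are constant outside the kernel
    have hconst : ∀ u ∈ (U₀ : Subgroup C), ∀ v ∈ (U₀ : Subgroup C), π u ≠ 1 → π v ≠ 1 → u * u = v * v := by
      intro u hu v hv hu1 hv1
      obtain ⟨k, hk⟩ := htrans (π u) ⟨u, hu, rfl⟩ hu1 (π v) ⟨v, hv, rfl⟩ hv1
      rw [← map_pow, ← map_inv, ← map_mul, ← map_mul] at hk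
      set u' := n₀ ^ k * u * (n₀ ^ k)⁻¹ with hu'
      have hz : π (u'⁻¹ * v) = 1 := by rw [map_mul, map_inv, hk, inv_mul_cancel]
      have hzz : u'⁻¹ * v * (u'⁻¹ * v) = 1 := by
        have hmem := hkY _ hz
        refine Subtype.ext ?_
        show (((u'⁻¹ * v : C) : W) * ((u'⁻¹ * v : C) : W)) = 1
        rw [← sq]
        have h3 : (⟨_, hmem⟩ : Y) ^ Nat.card Y = 1 := pow_card_eq_one'
        rcases (show Nat.card Y = 1 ∨ Nat.card Y = 2 by
          have := Nat.card_pos (α := Y); omega) with e | e <;> rw [e] at h3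
        · rw [pow_one] at h3; rw [show ((u'⁻¹ * v : C) : W) = 1 from congrArg Subtype.val h3, one_pow]
        · exact congrArg Subtype.val h3
      have huu : u' * u' = u * u := by
        rw [hu', show n₀ ^ k * u * (n₀ ^ k)⁻¹ * (n₀ ^ k * u * (n₀ ^ k)⁻¹) =
          n₀ ^ k * (u * u) * (n₀ ^ k)⁻¹ by group, hkcen _ (hsq u hu) (n₀ ^ k), mul_inv_cancel_right]
      have hzc := hkcen _ hz
      calc u * u = u' * u' := huu.symm
        _ = u' * u' * (u'⁻¹ * v * (u'⁻¹ * v)) := by rw [hzz, mul_one]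
        _ = u' * (u'⁻¹ * v) * (u' * (u'⁻¹ * v)) := by
            rw [show u' * (u'⁻¹ * v) * (u' * (u'⁻¹ * v)) = u' * ((u'⁻¹ * v) * u') * (u'⁻¹ * v) by group,
              ← hzc u']
            group
        _ = v * v := by rw [mul_inv_cancel_left]
    by_cases hall : ∀ u ∈ (U₀ : Subgroup C), π u ≠ 1 → u * u = 1
    · intro a b
      by_cases ha : π a = 1
      · exact Subtype.ext (hkcen _ ha b).symm
      by_cases hb : π b = 1
      · exact Subtype.ext (hkcen _ hb a)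
      by_cases habp : π ((a : C) * b) = 1
      · refine Subtype.ext ?_
        show (a : C) * b = b * a
        have h1 : (b : C) = (a : C)⁻¹ * ((a : C) * b) := (inv_mul_cancel_left _ _).symm
        conv_rhs => rw [h1, mul_assoc, ← hkcen _ habp (a : C), ← mul_assoc, inv_mul_cancel, one_mul]
      have hinv : ∀ c ∈ (U₀ : Subgroup C), π c ≠ 1 → c⁻¹ = c := fun c hc1 hc2 =>
        inv_eq_of_mul_eq_one_right (hall c hc1 hc2)
      refine Subtype.ext ?_
      show (a : C) * b = b * a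
      conv_lhs => rw [← hinv _ (mul_mem a.2 b.2) habp, mul_inv_rev, hinv _ a.2 ha, hinv _ b.2 hb]
    exfalso
    push Not at hall
    obtain ⟨u₀, hu₀, hu₀1, hu₀2⟩ := hall
    set z := u₀ * u₀
    have hz1 : π z = 1 := hsq u₀ hu₀
    have hsz : ∀ u ∈ (U₀ : Subgroup C), π u ≠ 1 → u * u = z := fun u hu hu1 =>
      hconst u hu u₀ hu₀ hu1 hu₀1
    have hz2 : z * z = 1 := by
      refine Subtype.ext ?_
      have hmem := hkY _ hz1
      have h3 : (⟨_, hmem⟩ : Y) ^ Nat.card Y = 1 := pow_card_eq_one'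
      rcases (show Nat.card Y = 1 ∨ Nat.card Y = 2 by
        have := Nat.card_pos (α := Y); omega) with e | e <;> rw [e] at h3
      · rw [pow_one] at h3
        show (z : W) * z = 1
        rw [show (z : W) = 1 from congrArg Subtype.val h3, one_mul]
      · show (z : W) * z = 1
        rw [← sq]; exact congrArg Subtype.val h3
    have hswap : ∀ u ∈ (U₀ : Subgroup C), ∀ v ∈ (U₀ : Subgroup C), π u ≠ 1 → π v ≠ 1 →
        π (u * v) ≠ 1 → v * u = u * v * z := by
      intro u hu v hv hu1 hv1 huv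
      have h1 : u⁻¹ = u * z := inv_eq_of_mul_eq_one_right (by
        rw [← mul_assoc, hsz u hu hu1, hz2])
      have h2 : v⁻¹ = v * z := inv_eq_of_mul_eq_one_right (by
        rw [← mul_assoc, hsz v hv hv1, hz2])
      calc v * u = u⁻¹ * (u * v * (u * v)) * v⁻¹ := by group
        _ = u * z * z * (v * z) := by rw [hsz _ (mul_mem hu hv) huv, h1, h2]
        _ = u * v * z := by rw [mul_assoc u z z, hz2, mul_one, mul_assoc]
    -- three independent elements
    have hcard8 : Nat.card (V₀ : Subgroup S) = 8 := hJ.card_sylow V₀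
    have hout : ∀ a b : S, ∃ c ∈ (V₀ : Subgroup S), c ≠ 1 ∧ c ≠ a ∧ c ≠ b ∧ c ≠ a * b := by
      intro a b
      exact exists_outside (G := S) hcard8 a b
    obtain ⟨_, ⟨v₀, hv₀, rfl⟩, hv1, hv2, -, -⟩ := hout (π u₀) 1
    obtain ⟨_, ⟨w₀, hw₀, rfl⟩, hw1, hw2, hw3, hw4⟩ := hout (π u₀) (π v₀)
    have hinvS : ∀ u ∈ (U₀ : Subgroup C), (π u)⁻¹ = π u := fun u hu =>
      inv_eq_of_mul_eq_one_right (by rw [← map_mul]; exact hsq u hu)
    have huv : π (u₀ * v₀) ≠ 1 := fun e => hv2 (by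
      rw [map_mul] at e
      rw [← inv_eq_of_mul_eq_one_right e, hinvS u₀ hu₀])
    have huw : π (u₀ * w₀) ≠ 1 := fun e => hw2 (by
      rw [map_mul] at e
      rw [← inv_eq_of_mul_eq_one_right e, hinvS u₀ hu₀])
    have hvw : π (v₀ * w₀) ≠ 1 := fun e => hw3 (by
      rw [map_mul] at e
      rw [← inv_eq_of_mul_eq_one_right e, hinvS v₀ hv₀])
    have huvw : π (u₀ * v₀ * w₀) ≠ 1 := fun e => hw4 (by
      rw [map_mul] at e
      rw [← inv_eq_of_mul_eq_one_right e, hinvS (u₀ * v₀) (mul_mem hu₀ hv₀), map_mul])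
    have e1 := hswap u₀ hu₀ w₀ hw₀ hu₀1 hw1 huw
    have e2 := hswap v₀ hv₀ w₀ hw₀ hv1 hw1 hvw
    have e3 := hswap (u₀ * v₀) (mul_mem hu₀ hv₀) w₀ hw₀ huv hw1 huvw
    have e4 : w₀ * (u₀ * v₀) = u₀ * v₀ * w₀ := by
      calc w₀ * (u₀ * v₀) = u₀ * w₀ * z * v₀ := by rw [← mul_assoc, e1]
        _ = u₀ * (w₀ * v₀) * z := by rw [mul_assoc (u₀ * w₀), ← hkcen z hz1 v₀]; group
        _ = u₀ * v₀ * w₀ * (z * z) := by rw [e2]; group
        _ = _ := by rw [hz2, mul_one]
    rw [e4, left_eq_mul] at e3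
    exact hu₀2 e3
  obtain ⟨M, hM⟩ := h.exists_comp hc hab'
  -- the Sylow subgroup of the component
  set V := (P' : Subgroup W) ⊓ M with hV
  let VS : Subgroup S := (V.subgroupOf M).map hM.equiv.toMonoidHom
  have hVS2 : IsPGroup 2 VS := (P'.2.to_le inf_le_left).comap_subtype.map _
  have hVSidx : ¬ 2 ∣ VS.index := by
    rw [show VS.index = (V.subgroupOf M).index from index_map_equiv _ hM.equiv]
    show ¬ 2 ∣ V.relIndex M
    rw [hV, inf_relIndex_right]
    exact hM.not_dvd_relIndex' h P'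
  let V₁ : Sylow 2 S := hVS2.toSylow hVSidx
  have hV8 : Nat.card V = 8 := by
    rw [← hJ.card_sylow V₁]
    show Nat.card V = Nat.card VS
    rw [card_map_of_injective hM.equiv.injective,
      Nat.card_congr (Subgroup.subgroupOfEquivOfLe (inf_le_right : V ≤ M)).toEquiv]
  obtain ⟨n, hn, -, htrans⟩ := hfacts.torus V₁
  obtain ⟨⟨n₁, hn₁⟩, rfl⟩ := hM.equiv.surjective n
  have hmemVS : ∀ (x : W) (hx : x ∈ M), hM.equiv ⟨x, hx⟩ ∈ VS ↔ x ∈ V := fun x hx => by
    constructor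
    · rintro ⟨y, hy, hyx⟩
      have h1 : y = ⟨x, hx⟩ := hM.equiv.injective hyx
      subst h1
      exact hy
    · exact fun hxV => ⟨⟨x, hx⟩, hxV, rfl⟩
  have hnV : ∀ x : W, x ∈ V → n₁ * x * n₁⁻¹ ∈ V := fun x hx => by
    have h1 := (mem_normalizer_iff.1 hn (hM.equiv ⟨x, hx.2⟩)).1 ((hmemVS x hx.2).2 hx)
    rw [← map_inv, ← map_mul, ← map_mul] at h1
    exact (hmemVS _ _).1 h1
  have htr : ∀ x ∈ V, x ≠ 1 → ∀ y ∈ V, y ≠ 1 → ∃ k : ℕ, n₁ ^ k * x * (n₁ ^ k)⁻¹ = y := by
    intro x hx hx1 y hy hy1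
    obtain ⟨k, hk⟩ := htrans _ ((hmemVS x hx.2).2 hx)
      (fun e => hx1 (congrArg Subtype.val (hM.equiv.injective (e.trans (map_one hM.equiv).symm))))
      _ ((hmemVS y hy.2).2 hy)
      (fun e => hy1 (congrArg Subtype.val (hM.equiv.injective (e.trans (map_one hM.equiv).symm))))
    rw [← map_pow, ← map_inv, ← map_mul, ← map_mul] at hk
    exact ⟨k, congrArg Subtype.val (hM.equiv.injective hk)⟩
  have hV2 : ∀ x ∈ V, x * x = 1 := fun x hx => by
    have h1 := (hfacts.elementary V₁).2 (hM.equiv ⟨x, hx.2⟩) ((hmemVS x hx.2).2 hx)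
    rw [sq, ← map_mul, ← map_one hM.equiv] at h1
    exact congrArg Subtype.val (hM.equiv.injective h1)
  -- the lift
  set E : Subgroup G := (P : Subgroup G) ⊓ V.comap f with hE
  have hEV : ∀ x ∈ V, ∃ a ∈ E, f a = x := fun x hx => by
    obtain ⟨a, ha, hax⟩ := hx.1
    exact ⟨a, mem_inf.2 ⟨ha, show f a ∈ V by rw [hax]; exact hx⟩, hax⟩
  have hEc : Nat.card E = 8 := by
    rw [← hV8, ← h.modulo.card_map (P.2.to_le (inf_le_left : E ≤ P))]
    congr 2
    ext x
    exact ⟨fun ⟨a, ha, hax⟩ => hax ▸ ha.2, fun hx => hEV x hx⟩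
  have hE2 : ∀ a ∈ E, a * a = 1 := fun a ha =>
    h.modulo.inj P.2 (mul_mem ha.1 ha.1) (one_mem _) (by rw [map_mul, map_one]; exact hV2 _ ha.2)
  have hEcomm : ∀ a ∈ E, ∀ b ∈ E, Commute a b := fun a ha b hb => by
    have h1 := hE2 _ (mul_mem ha hb)
    have h2 : (a * b)⁻¹ = a * b := inv_eq_of_mul_eq_one_right h1
    show a * b = b * a
    rw [← h2, mul_inv_rev, inv_eq_of_mul_eq_one_right (hE2 a ha),
      inv_eq_of_mul_eq_one_right (hE2 b hb)]
  have hnkV : ∀ (k : ℕ) (x : W), x ∈ V → n₁ ^ k * x * (n₁ ^ k)⁻¹ ∈ V := by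
    intro k
    induction k with
    | zero => intro x hx; simpa using hx
    | succ k ih =>
      intro x hx
      have := hnV _ (ih x hx)
      rwa [show n₁ * (n₁ ^ k * x * (n₁ ^ k)⁻¹) * n₁⁻¹ = n₁ ^ (k + 1) * x * (n₁ ^ (k + 1))⁻¹ by
        rw [pow_succ']; group] at this
  have hiso : ∀ a ∈ E, ∀ b ∈ E, D.beta a b = 1 := by
    by_contra hne
    obtain ⟨ρ, hρ, hρ1, hρb, -⟩ := exists_radical_of D hEc hE2 hne
    apply hne
    intro a ha b hb
    by_cases ha1 : a = 1
    · rw [ha1, D.beta_one_left]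
    have hf1 : ∀ c ∈ E, c ≠ 1 → f c ≠ 1 := fun c hc hc1 e =>
      hc1 (h.modulo.inj P.2 hc.1 (one_mem _) (e.trans (map_one f).symm))
    obtain ⟨k, hk⟩ := htr _ hρ.2 (hf1 ρ hρ hρ1) _ ha.2 (hf1 a ha ha1)
    obtain ⟨b', hb', hbb⟩ := hEV _ (show (n₁ ^ k)⁻¹ * f b * n₁ ^ k ∈ V by
      by_cases hb1 : f b = 1
      · rw [hb1, mul_one, inv_mul_cancel]; exact one_mem V
      obtain ⟨j, hj⟩ := htr _ hρ.2 (hf1 ρ hρ hρ1) _ hb.2 hb1
      -- conjugation by `n₁ ^ k` is onto on the finite set `V`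
      have hmap : V.map (MulAut.conj (n₁ ^ k)).toMonoidHom = V := eq_of_le_of_card_ge
        (by rintro _ ⟨x, hx, rfl⟩; exact hnkV k x hx)
        (by rw [card_map_of_injective (MulAut.conj (n₁ ^ k)).injective])
      exact map_conj_mem_iff.1 (hmap.symm ▸ hb.2 : f b ∈ V.map _))
    rw [h.modulo.beta_fused D P.2 hρ.1 hb'.1 ha.1 hb.1 (hEcomm ρ hρ b' hb') (w := n₁ ^ k) hk
      (by rw [hbb]; group)]
    exact hρb b' hb'
  have hab : ∀ a ∈ (P : Subgroup G), ∀ b ∈ (P : Subgroup G), a * b = b * a :=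
    hPcases.resolve_right fun h4 => not_cube_dvd D h4
      ((dvd_of_eq (by rw [hEc]; norm_num)).trans (D.card_dvd_of_isotropic E hEcomm hiso))
  have habW : ∀ a ∈ (P' : Subgroup W), ∀ b ∈ (P' : Subgroup W), a * b = b * a := by
    rintro _ ⟨a, ha, rfl⟩ _ ⟨b, hb, rfl⟩
    rw [← map_mul, hab a ha b hb, map_mul]
  have hnorm := hM.normalizes_of_comm h h2S P' habW
  -- a representative of the torus normalising the Sylow subgroup
  obtain ⟨n', hn'M, hn'P, hn'V⟩ : ∃ n' : W, n' ∈ M ∧ (∀ x ∈ (P' : Subgroup W), n' * x * n'⁻¹ ∈ (P' : Subgroup W)) ∧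
      ∀ x ∈ V, n' * x * n'⁻¹ = n₁ * x * n₁⁻¹ := by
    set X := (M ⊔ (P' : Subgroup W)) ⊓ centralizer (V : Set W) with hX
    have hPX : (P' : Subgroup W) ≤ X := le_inf le_sup_right fun p hp =>
      mem_centralizer_iff.2 fun v hv => habW v hv.1 p hp
    have hPnX : (P' : Subgroup W).map (MulAut.conj n₁).toMonoidHom ≤ X := by
      rintro _ ⟨p, hp, rfl⟩
      refine mem_inf.2 ⟨mul_mem (mul_mem (mem_sup_left hn₁) (mem_sup_right hp))
        (inv_mem (mem_sup_left hn₁)), mem_centralizer_iff.2 fun v hv => ?_⟩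
      have hmap : V.map (MulAut.conj n₁).toMonoidHom = V := eq_of_le_of_card_ge
        (by rintro _ ⟨x, hx, rfl⟩; exact hnV x hx)
        (by rw [card_map_of_injective (MulAut.conj n₁).injective])
      obtain ⟨v', hv', rfl⟩ := (hmap.symm ▸ hv : v ∈ V.map (MulAut.conj n₁).toMonoidHom)
      show (MulAut.conj n₁) v' * (MulAut.conj n₁) p = (MulAut.conj n₁) p * (MulAut.conj n₁) v'
      rw [← map_mul, habW v' hv'.1 p hp, map_mul]
    let P₁ : Sylow 2 X := P'.subtype hPX
    let P₂ : Sylow 2 X := (n₁ • P').subtype (by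
      rw [Sylow.coe_subgroup_smul, Subgroup.pointwise_smul_def]; exact hPnX)
    obtain ⟨c, hcP⟩ := MulAction.exists_smul_eq X P₁ P₂
    obtain ⟨m, hm, p, hp, hmp⟩ : ∃ m ∈ M, ∃ p ∈ (P' : Subgroup W), (c : W) = m * p := by
      have h1 : (c : W) ∈ ((M ⊔ (P' : Subgroup W) : Subgroup W) : Set W) := c.2.1
      rw [Subgroup.coe_mul_of_right_le_normalizer_left M (P' : Subgroup W) hnorm] at h1
      obtain ⟨m, hm, p, hp, e⟩ := h1
      exact ⟨m, hm, p, hp, e.symm⟩
    have hmC : ∀ v ∈ V, v * m = m * v := fun v hv => by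
      have h1 := mem_centralizer_iff.1 c.2.2 v hv
      rw [hmp] at h1
      have h2 := habW v hv.1 p hp
      rw [← mul_assoc, mul_assoc m p v, ← h2, ← mul_assoc] at h1
      exact mul_right_cancel h1
    refine ⟨m⁻¹ * n₁, mul_mem (inv_mem hm) hn₁, fun x hx => ?_, fun x hx => ?_⟩
    · have hx2 : (⟨n₁ * x * n₁⁻¹, hPnX ⟨x, hx, rfl⟩⟩ : X) ∈ ((c • P₁ : Sylow 2 X) : Subgroup X) := by
        rw [hcP]
        show n₁ * x * n₁⁻¹ ∈ ((n₁ • P' : Sylow 2 W) : Subgroup W)
        rw [Sylow.coe_subgroup_smul]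
        exact Subgroup.smul_mem_pointwise_smul _ (MulAut.conj n₁) _ hx
      rw [Sylow.coe_subgroup_smul, Subgroup.mem_pointwise_smul_iff_inv_smul_mem] at hx2
      have hx3 : (c : W)⁻¹ * (n₁ * x * n₁⁻¹) * c ∈ (P' : Subgroup W) := by
        simpa [P₁, Subgroup.mem_subgroupOf] using hx2
      rw [hmp] at hx3
      have hy := mul_mem (mul_mem hp hx3) (inv_mem hp)
      convert hy using 1
      group
    · have hv := hnV x hx
      calc m⁻¹ * n₁ * x * (m⁻¹ * n₁)⁻¹ = m⁻¹ * ((n₁ * x * n₁⁻¹) * m) := by group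
        _ = m⁻¹ * (m * (n₁ * x * n₁⁻¹)) := by rw [hmC _ hv]
        _ = _ := inv_mul_cancel_left _ _
  -- elements of `E` pair trivially with the Sylow subgroup
  have key : ∀ y ∈ (P : Subgroup G), ∀ a ∈ E, D.beta a y = 1 := by
    intro y hy a ha
    have step : ∀ a ∈ E, ∀ b ∈ E, n₁ * f a * n₁⁻¹ = f b → D.beta b y = D.beta a y := by
      intro a ha b hb hab'
      obtain ⟨y', hy', hyy⟩ := hn'P (f y) ⟨y, hy, rfl⟩
      have hvM : f (y⁻¹ * y') ∈ M := by
        rw [map_mul, map_inv, hyy, show (f y)⁻¹ * (n' * f y * n'⁻¹) =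
          ((f y)⁻¹ * n' * f y) * n'⁻¹ by group]
        refine mul_mem ?_ (inv_mem hn'M)
        have h1 := (mem_normalizer_iff.1 (hnorm (inv_mem ⟨y, hy, rfl⟩ : (f y)⁻¹ ∈ (P' : Subgroup W))) n').1 hn'M
        rwa [inv_inv] at h1
      have hvE : y⁻¹ * y' ∈ E :=
        mem_inf.2 ⟨mul_mem (inv_mem hy) hy', mem_inf.2 ⟨mem_map_of_mem f (mul_mem (inv_mem hy) hy'), hvM⟩⟩
      have h1 := h.modulo.beta_fused D P.2 ha.1 hy hb.1 hy' (hab a ha.1 y hy) (w := n')
        (by rw [hn'V _ ha.2]; exact hab') hyy.symm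
      rw [← h1]
      conv_rhs => rw [← mul_inv_cancel_left y y', D.beta_mul (hab b hb.1 y hy)
        (hEcomm b hb _ hvE), hiso b hb _ hvE, mul_one]
    have hconst : ∀ (k : ℕ) (a b : G), a ∈ E → b ∈ E → n₁ ^ k * f a * (n₁ ^ k)⁻¹ = f b →
        D.beta b y = D.beta a y := by
      intro k
      induction k with
      | zero =>
        intro a b ha hb e
        rw [pow_zero, one_mul, inv_one, mul_one] at e
        rw [h.modulo.inj P.2 ha.1 hb.1 e]
      | succ k ih =>
        intro a b ha hb e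
        obtain ⟨c, hc, hfc⟩ := hEV _ (hnkV k (f a) ha.2)
        rw [← ih a c ha hc hfc.symm]
        refine step c hc b hb ?_
        rw [hfc, ← e, pow_succ']
        group
    have hf1 : ∀ c ∈ E, c ≠ 1 → f c ≠ 1 := fun c hc hc1 e =>
      hc1 (h.modulo.inj P.2 hc.1 (one_mem _) (e.trans (map_one f).symm))
    have hsame : ∀ c ∈ E, ∀ d ∈ E, c ≠ 1 → d ≠ 1 → D.beta d y = D.beta c y := by
      intro c hc d hd hc1 hd1
      obtain ⟨k, hk⟩ := htr _ hc.2 (hf1 c hc hc1) _ hd.2 (hf1 d hd hd1)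
      exact hconst k c d hc hd hk
    by_cases ha1 : a = 1
    · rw [ha1, D.beta_one_left]
    obtain ⟨b, hb, hb1, hba, -, -⟩ := exists_outside hEc a 1
    have hab1 : a * b ≠ 1 := fun e => hba (by
      rw [← inv_eq_of_mul_eq_one_right e, inv_eq_of_mul_eq_one_right (hE2 a ha)])
    have h1 : D.beta (a * b) y = D.beta a y * D.beta b y :=
      D.beta_mul_left (hab a ha.1 y hy) (hab b hb.1 y hy)
    rw [hsame a ha (a * b) (mul_mem ha hb) ha1 hab1, hsame a ha b hb ha1 hb1] at h1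
    exact (mul_eq_left₀ (D.beta_ne_zero a y)).1 h1.symm
  obtain ⟨a, ha, ha1⟩ := (bot_or_exists_ne_one E).resolve_left fun e => by
    rw [e, Subgroup.card_bot] at hEc
    omega
  exact ha1 (D.eq_one_of_beta_sylow P ha.1 (fun y hy => hab a ha.1 y hy) (fun y hy => key y hy a ha))

end Cfsg.Agent.Lib.CentralType79
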