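import Cfsg.Agent.Lib.CentralType79.Pairing

/-!
# The pairing modulo a normal subgroup of order prime to `r` (helper79)
-/

set_option autoImplicit false
set_option linter.style.haveILetI false
set_option linter.unusedSectionVars false

namespace Cfsg.Agent.Lib.CentralType79

open Subgroup

universe u v

variable {G : Type u} [Group G] [Finite G] {W : Type v} [Group W]

/-- A homomorphism onto, with kernel of order prime to `r`. -/
structure Modulo (r : ℕ) (f : G →* W) : Prop where
  surj : Function.Surjective f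
  ker : ¬ r ∣ Nat.card f.ker

variable {r : ℕ} [hr : Fact r.Prime] {f : G →* W}

theorem Modulo.inj (hM : Modulo r f) {A : Subgroup G} (hA : IsPGroup r A) {a b : G} (ha : a ∈ A)
    (hb : b ∈ A) (h : f a = f b) : a = b := by
  have hmem : a * b⁻¹ ∈ f.ker := by rw [MonoidHom.mem_ker, map_mul, map_inv, h, mul_inv_cancel]
  obtain ⟨k, hk⟩ := IsPGroup.iff_orderOf.1 hA ⟨a * b⁻¹, mul_mem ha (inv_mem hb)⟩
  rw [Subgroup.orderOf_mk] at hk
  rcases Nat.eq_zero_or_pos k with rfl | hk0
  · rw [pow_zero, orderOf_eq_one_iff, mul_inv_eq_one] at hk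
    exact hk
  · exact absurd ((dvd_pow_self r hk0.ne').trans (hk ▸ Subgroup.orderOf_dvd_natCard f.ker hmem)) hM.ker

theorem Modulo.card_map (hM : Modulo r f) {A : Subgroup G} (hA : IsPGroup r A) :
    Nat.card (A.map f) = Nat.card A :=
  (Nat.card_congr (Equiv.ofBijective (f.subgroupMap A)
    ⟨fun _ _ h => Subtype.ext (hM.inj hA (Subtype.prop _) (Subtype.prop _) (congrArg Subtype.val h)),
      f.subgroupMap_surjective A⟩)).symm

/-- An `r`-subgroup `A` is conjugate to any `r`-subgroup `B` with a conjugate image, by an element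
over the given one. -/
theorem Modulo.exists_conj (hM : Modulo r f) {A B : Subgroup G} (hA : IsPGroup r A)
    (hB : IsPGroup r B) (w : W) (h : B.map f = (A.map f).map (MulAut.conj w).toMonoidHom) :
    ∃ y, f y = w ∧ A.map (MulAut.conj y).toMonoidHom = B := by
  classical
  haveI : Finite W := Finite.of_surjective _ hM.surj
  obtain ⟨y₀, rfl⟩ := hM.surj w
  set A' := A.map (MulAut.conj y₀).toMonoidHom with hA'
  have hA'p : IsPGroup r A' := hA.map _
  have hA'f : A'.map f = B.map f := by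
    rw [h, hA', Subgroup.map_map, Subgroup.map_map]
    congr 1
    ext x
    simp
  set L := (B.map f).comap f with hL
  have hBL : B ≤ L := fun b hb => ⟨b, hb, rfl⟩
  have hAL : A' ≤ L := fun a ha => by
    show f a ∈ B.map f
    rw [← hA'f]
    exact ⟨a, ha, rfl⟩
  have key : ∀ C : Subgroup G, C ≤ L → IsPGroup r C → C.map f = B.map f →
      ∃ Q : Sylow r L, (Q : Subgroup L).map L.subtype = C := by
    intro C hC hCp hCf
    obtain ⟨Q, hQ⟩ := (hCp.comap_subtype (K := L)).exists_le_sylow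
    refine ⟨Q, (eq_of_le_of_card_ge ?_ ?_).symm⟩
    · intro c hc
      exact ⟨⟨c, hC hc⟩, hQ hc, rfl⟩
    · rw [← hM.card_map (Q.2.map L.subtype), ← hM.card_map hCp, hCf]
      refine card_le_of_le ?_
      rintro _ ⟨_, ⟨q, _, rfl⟩, rfl⟩
      exact q.2
  obtain ⟨Q₁, hQ₁⟩ := key A' hAL hA'p hA'f
  obtain ⟨Q₂, hQ₂⟩ := key B hBL hB rfl
  obtain ⟨l, hl⟩ := MulAction.exists_smul_eq L Q₁ Q₂
  obtain ⟨b, hb, hbl⟩ := (l.2 : f (l : G) ∈ B.map f)
  refine ⟨b⁻¹ * l * y₀, by rw [map_mul, map_mul, map_inv, hbl, inv_mul_cancel, one_mul], ?_⟩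
  have hlA : A'.map (MulAut.conj (l : G)).toMonoidHom = B := by
    rw [← hQ₁, ← hQ₂, ← hl, Sylow.coe_subgroup_smul, Subgroup.pointwise_smul_def, Subgroup.map_map]
    refine Eq.trans ?_ (Subgroup.map_map _ L.subtype _).symm
    rfl
  rw [show (MulAut.conj (b⁻¹ * (l : G) * y₀)).toMonoidHom =
      (MulAut.conj b⁻¹).toMonoidHom.comp ((MulAut.conj (l : G)).toMonoidHom.comp
        (MulAut.conj y₀).toMonoidHom) by ext x; simp [mul_assoc],
    ← Subgroup.map_map, ← Subgroup.map_map, ← hA', hlA]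
  ext x
  constructor
  · rintro ⟨c, hc, rfl⟩
    simpa using mul_mem (mul_mem (inv_mem hb) hc) hb
  · intro hx
    exact ⟨b * x * b⁻¹, mul_mem (mul_mem hb hx) (inv_mem hb), by simp [mul_assoc]⟩

/-- Conjugation modulo the kernel lifts on `r`-subgroups. -/
theorem Modulo.exists_lift (hM : Modulo r f) {A B : Subgroup G} (hA : IsPGroup r A)
    (hB : IsPGroup r B) (w : W) (h : B.map f = (A.map f).map (MulAut.conj w).toMonoidHom) :
    ∃ y, f y = w ∧ ∀ a ∈ A, ∀ b ∈ B, w * f a * w⁻¹ = f b → y * a * y⁻¹ = b := by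
  obtain ⟨y, hy, hyA⟩ := hM.exists_conj hA hB w h
  refine ⟨y, hy, fun a ha b hb hab => hM.inj hB (hyA ▸ ⟨a, ha, rfl⟩) hb ?_⟩
  rw [map_mul, map_mul, map_inv, hy, hab]

/-- The centraliser of an `r`-element maps onto the centraliser of its image. -/
theorem Modulo.map_centralizer (hM : Modulo r f) {A : Subgroup G} (hA : IsPGroup r A) {x : G}
    (hx : x ∈ A) :
    centralizer ({f x} : Set W) ≤ (centralizer ({x} : Set G)).map f := by
  intro w hw
  have hwx : w * f x * w⁻¹ = f x := by
    rw [mul_inv_eq_iff_eq_mul]; exact mem_centralizer_singleton_iff.1 hw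
  have hAx : IsPGroup r (zpowers x) := hA.to_le (zpowers_le.2 hx)
  obtain ⟨y, hy, hyA⟩ := hM.exists_lift hAx hAx w (by
    rw [MonoidHom.map_zpowers, MonoidHom.map_zpowers]
    show zpowers (f x) = zpowers (w * f x * w⁻¹)
    rw [hwx])
  exact ⟨y, mem_centralizer_singleton_iff.2
    (mul_inv_eq_iff_eq_mul.1 (hyA x (mem_zpowers x) x (mem_zpowers x) hwx)), hy⟩

variable (D : PData G)

/-- Pairs of an `r`-subgroup fused modulo the kernel pair equally. -/
theorem Modulo.beta_fused (hM : Modulo r f) {P : Subgroup G} (hP : IsPGroup r P) {a b a' b' : G}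
    (ha : a ∈ P) (hb : b ∈ P) (ha' : a' ∈ P) (hb' : b' ∈ P) (hab : Commute a b) {w : W}
    (h1 : w * f a * w⁻¹ = f a') (h2 : w * f b * w⁻¹ = f b') : D.beta a' b' = D.beta a b := by
  have hA : IsPGroup r (closure ({a, b} : Set G)) :=
    hP.to_le (by rw [closure_le, Set.pair_subset_iff]; exact ⟨ha, hb⟩)
  have hB : IsPGroup r (closure ({a', b'} : Set G)) :=
    hP.to_le (by rw [closure_le, Set.pair_subset_iff]; exact ⟨ha', hb'⟩)
  obtain ⟨y, -, hy⟩ := hM.exists_lift hA hB w (by
    rw [MonoidHom.map_closure, MonoidHom.map_closure, MonoidHom.map_closure, Set.image_pair,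
      Set.image_pair, Set.image_pair]
    show _ = closure ({w * f a * w⁻¹, w * f b * w⁻¹} : Set W)
    rw [h1, h2])
  rw [← hy a (subset_closure (Set.mem_insert _ _)) a' (subset_closure (Set.mem_insert _ _)) h1,
    ← hy b (subset_closure (Set.mem_insert_of_mem _ rfl)) b'
      (subset_closure (Set.mem_insert_of_mem _ rfl)) h2]
  exact D.beta_conj y hab

/-- Elements of an `r`-subgroup pair trivially when, modulo the kernel, one lies in a perfect
subgroup centralised by the other. -/
theorem Modulo.beta_perfect (hM : Modulo r f) {P : Subgroup G} (hP : IsPGroup r P) {x a : G}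
    (hx : x ∈ P) (ha : a ∈ P) (hxa : Commute x a) {M : Subgroup W} (hMp : M ≤ ⁅M, M⁆)
    (hMx : ∀ m ∈ M, m * f x = f x * m) (ham : f a ∈ M) : D.beta x a = 1 := by
  set C := centralizer ({x} : Set G)
  have hsub : M ≤ C.map f := fun m hm =>
    hM.map_centralizer hP hx (mem_centralizer_singleton_iff.2 (hMx m hm))
  have hcomm : f a ∈ (⁅C, C⁆).map f := by
    rw [Subgroup.map_commutator]
    exact commutator_mono hsub hsub (hMp ham)
  obtain ⟨a', ha', hfa⟩ := hcomm
  have haC : a ∈ C := mem_centralizer_singleton_iff.2 hxa.symm.eq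
  have ha'C : a' ∈ C := (commutator_le_self C) ha'
  have ho : a'⁻¹ * a ∈ f.ker := by
    rw [MonoidHom.mem_ker, map_mul, map_inv, hfa, inv_mul_cancel]
  have hoC : Commute x (a'⁻¹ * a) :=
    (mem_centralizer_singleton_iff.1 (mul_mem (inv_mem ha'C) haC)).symm
  have hcop : (orderOf x).Coprime (orderOf (a'⁻¹ * a)) := by
    obtain ⟨k, hk⟩ := IsPGroup.iff_orderOf.1 hP ⟨x, hx⟩
    rw [Subgroup.orderOf_mk] at hk
    rw [hk]
    exact Nat.Coprime.pow_left k ((hr.out.coprime_iff_not_dvd).2 fun hd =>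
      hM.ker (hd.trans (Subgroup.orderOf_dvd_natCard f.ker ho)))
  have hxa' : Commute x a' := (mem_centralizer_singleton_iff.1 ha'C).symm
  conv_lhs => rw [← mul_inv_cancel_left a' a]
  rw [D.beta_mul hxa' hoC, D.beta_commutator ha', D.beta_coprime hoC hcop, one_mul]

end Cfsg.Agent.Lib.CentralType79
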