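import Cfsg.Agent.Lib.CentralType79.Lift
import Cfsg.Agent.Lib.Multiplier.Sylow

/-!
# A non-abelian minimal normal section seen modulo the `r'`-core of the solvable radical (helper79)
-/

set_option autoImplicit false
set_option linter.style.haveILetI false
set_option linter.unusedSectionVars false

namespace Cfsg.Agent.Lib.CentralType79

open Subgroup
open scoped commutatorElement

universe u

variable {G W Q : Type u} [Group G] [Finite G] [Group W] [Finite W] [Group Q] [Finite Q]
  {r : ℕ} [hr : Fact r.Prime] {f : G →* W} {q : W →* Q} {Y : Subgroup W} {N S : Subgroup Q}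

/-- The local situation at `r`. -/
structure Loc (r : ℕ) (f : G →* W) (q : W →* Q) (Y : Subgroup W) (N S : Subgroup Q) : Prop where
  modulo : Modulo r f
  qsurj : Function.Surjective q
  Yn : Y.Normal
  Yp : IsPGroup r Y
  Yker : Y ≤ q.ker
  Ycent : q.ker ⊓ centralizer (Y : Set W) ≤ Y
  Nn : N.Normal
  Nmin : ∀ L : Subgroup Q, L.Normal → L ≤ N → L = ⊥ ∨ L = N
  SN : S ≤ N
  simple : IsSimpleGroup S
  nonab : ¬ IsMulCommutative S
  Snorm : N ≤ normalizer (S : Set Q)

/-- A perfect subgroup over the simple factor centralising `Y`. -/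
structure Comp (q : W →* Q) (Y : Subgroup W) (N S : Subgroup Q) (M : Subgroup W) : Prop where
  perfect : M ≤ ⁅M, M⁆
  map : M.map q = S
  inf : M ⊓ q.ker = ⊥
  cent : M ≤ centralizer (Y : Set W)
  norm : N.comap q ≤ normalizer (M : Set W)
  moves : ∀ g : W, g ∉ normalizer (M : Set W) →
    M ⊓ M.map (MulAut.conj g).toMonoidHom = ⊥ ∧
      ∀ a ∈ M, ∀ b ∈ M.map (MulAut.conj g).toMonoidHom, a * b = b * a

omit [Finite G] [Finite Q] in
theorem map_conj_mem_iff {M : Subgroup W} {g x : W} :
    x ∈ M.map (MulAut.conj g).toMonoidHom ↔ g⁻¹ * x * g ∈ M := by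
  constructor
  · rintro ⟨a, ha, rfl⟩
    simpa [mul_assoc] using ha
  · intro hx
    exact ⟨_, hx, by simp [mul_assoc]⟩

omit [Finite G] [Finite Q] in
theorem mem_normalizer_of_map_eq {M : Subgroup W} {g : W}
    (h : M.map (MulAut.conj g).toMonoidHom = M) : g ∈ normalizer (M : Set W) :=
  mem_normalizer_iff.2 fun x => by
    conv_rhs => rw [← h, map_conj_mem_iff]
    simp [mul_assoc]

theorem relIndex_dvd_index {X : Type*} [Group X] [Finite X] (P K : Subgroup X) [K.Normal] :
    P.relIndex K ∣ P.index := by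
  have h1 : (P ⊓ K).relIndex K * K.relIndex (P ⊔ K) = (P ⊓ K).relIndex P * P.relIndex (P ⊔ K) := by
    rw [relIndex_mul_relIndex _ _ _ inf_le_right le_sup_right,
      relIndex_mul_relIndex _ _ _ inf_le_left le_sup_left]
  rw [inf_relIndex_right, relIndex_sup_right, inf_relIndex_left, mul_comm] at h1
  rw [Nat.eq_of_mul_eq_mul_left (Nat.pos_of_ne_zero
    (index_ne_zero_of_finite : (K.subgroupOf P).index ≠ 0)) h1]
  exact relIndex_dvd_index_of_le le_sup_left

/-- A Sylow subgroup meets a subnormal subgroup of depth two in a Sylow subgroup. -/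
theorem not_dvd_relIndex (P : Sylow r W) {K M : Subgroup W} [hK : K.Normal] (hMK : M ≤ K)
    (hKM : K ≤ normalizer (M : Set W)) : ¬ r ∣ (P : Subgroup W).relIndex M := by
  intro h
  have h1 : ¬ r ∣ (P : Subgroup W).relIndex K := fun hd =>
    P.not_dvd_index (hd.trans (relIndex_dvd_index _ _))
  apply h1
  haveI hMn : (M.subgroupOf K).Normal := normal_subgroupOf_of_le_normalizer hKM
  have h2 : ((P : Subgroup W).subgroupOf K).relIndex (M.subgroupOf K) =
      (P : Subgroup W).relIndex M := Subgroup.relIndex_subgroupOf hMK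
  rw [← h2] at h
  exact h.trans (relIndex_dvd_index _ _)

theorem Loc.dichotomy (h : Loc r f q Y N S) :
    S ≤ (centralizer (Y : Set W)).map q ∨ centralizer (Y : Set W) ⊓ N.comap q ≤ Y := by
  haveI := h.Yn
  haveI := h.Nn
  rcases h.Nmin ((centralizer (Y : Set W) ⊓ N.comap q).map q) (Subgroup.Normal.map inferInstance q h.qsurj)
    (map_le_iff_le_comap.2 inf_le_right) with e | e
  · right
    intro x hx
    refine h.Ycent ⟨MonoidHom.mem_ker.2 ?_, hx.1⟩
    have : q x ∈ (centralizer (Y : Set W) ⊓ N.comap q).map q := ⟨x, hx, rfl⟩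
    rwa [e, mem_bot] at this
  · left
    exact (h.SN.trans e.ge).trans (map_mono inf_le_left)

theorem Loc.exists_comp (h : Loc r f q Y N S) (hc : S ≤ (centralizer (Y : Set W)).map q)
    (hab : ∀ U : Subgroup W, U ≤ centralizer (Y : Set W) ⊓ S.comap q → IsPGroup r U →
      IsMulCommutative U) : ∃ M : Subgroup W, Comp q Y N S M := by
  classical
  haveI := h.Yn
  haveI := h.simple
  set C := centralizer (Y : Set W) ⊓ S.comap q with hC
  have hCS : C.map q = S := le_antisymm (map_le_iff_le_comap.2 inf_le_right) fun s hs => by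
    obtain ⟨c, hc', hcs⟩ := hc hs
    exact ⟨c, ⟨hc', by show q c ∈ S; rwa [hcs]⟩, hcs⟩
  have hker : C ⊓ q.ker ≤ Y := fun x hx => h.Ycent ⟨hx.2, hx.1.1⟩
  have hcen : ∀ z ∈ C ⊓ q.ker, ∀ c ∈ C, c * z = z * c := fun z hz c hcc =>
    (mem_centralizer_iff.1 hcc.1 z (hker hz)).symm
  set M := ⁅C, C⁆ with hM
  have hMC : M ≤ C := commutator_le_self C
  have hMS : M.map q = S := by
    rw [hM, Subgroup.map_commutator, hCS]
    refine le_antisymm (commutator_le_self S) ?_
    by_contra hle
    have hn : (⁅S, S⁆.subgroupOf S).Normal := by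
      rw [← Subgroup.map_subtype_commutator, subgroupOf, comap_map_eq_self_of_injective S.subtype_injective]
      infer_instance
    rcases IsSimpleGroup.eq_bot_or_eq_top_of_normal _ hn with e | e
    · rw [← Subgroup.map_subtype_commutator, subgroupOf,
        comap_map_eq_self_of_injective S.subtype_injective] at e
      exact h.nonab ⟨⟨fun a b => commutatorElement_eq_one_iff_mul_comm.1 (by
        rw [← mem_bot, ← e]; exact commutator_mem_commutator (mem_top a) (mem_top b))⟩⟩
    · exact hle (subgroupOf_eq_top.1 e)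
  have hperf : M ≤ ⁅M, M⁆ := by
    conv_lhs => rw [hM]
    rw [commutator_le]
    intro a ha b hb
    have hdec : ∀ c ∈ C, ∃ m ∈ M, ∃ z ∈ C ⊓ q.ker, c = m * z := by
      intro c hcc
      have hqc : q c ∈ S := hcc.2
      rw [← hMS] at hqc
      obtain ⟨m, hm, hmc⟩ := hqc
      exact ⟨m, hm, m⁻¹ * c, mem_inf.2 ⟨mul_mem (inv_mem (hMC hm)) hcc,
        show q (m⁻¹ * c) = 1 by rw [map_mul, map_inv, hmc, inv_mul_cancel]⟩,
        (mul_inv_cancel_left m c).symm⟩
    obtain ⟨m, hm, z, hz, rfl⟩ := hdec a ha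
    obtain ⟨n, hn, w, hw, rfl⟩ := hdec b hb
    have hz' : Commute z n := (hcen z hz n (hMC hn)).symm
    have hw' : Commute w m := (hcen w hw m (hMC hm)).symm
    have hzw : Commute z w := (hcen z hz w hw.1).symm
    have : ⁅m * z, n * w⁆ = ⁅m, n⁆ := by
      rw [commutatorElement_def, commutatorElement_def]
      calc m * z * (n * w) * (m * z)⁻¹ * (n * w)⁻¹
          = m * (z * n) * w * z⁻¹ * m⁻¹ * w⁻¹ * n⁻¹ := by group
        _ = m * n * (z * w) * z⁻¹ * m⁻¹ * w⁻¹ * n⁻¹ := by rw [hz'.eq]; group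
        _ = m * n * (w * m⁻¹) * w⁻¹ * n⁻¹ := by rw [hzw.eq]; group
        _ = m * n * m⁻¹ * n⁻¹ := by rw [hw'.inv_right.eq]; group
    rw [this]
    exact commutator_mem_commutator hm hn
  have hinf : M ⊓ q.ker = ⊥ := by
    rw [eq_bot_iff]
    rintro z ⟨hzM, hzk⟩
    have hzC : z ∈ C ⊓ q.ker := ⟨hMC hzM, hzk⟩
    let z' : C := ⟨z, hzC.1⟩
    obtain ⟨k, hk⟩ := h.Yp ⟨z, hker hzC⟩
    have hk' : z ^ r ^ k = 1 := congrArg Subtype.val hk
    obtain ⟨P⟩ : Nonempty (Sylow r C) := inferInstance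
    have hzcen : z' ∈ Subgroup.center C :=
      mem_center_iff.2 fun c => Subtype.ext (hcen z hzC c c.2)
    have hzd : z' ∈ commutator C := by
      have : z ∈ (commutator C).map C.subtype := by rw [Subgroup.map_subtype_commutator]; exact hzM
      obtain ⟨a, ha, ha'⟩ := this
      rwa [show z' = a from Subtype.ext ha'.symm]
    have hzP := Multiplier.central_pElement_mem_sylow P z' hzcen (k := k) (Subtype.ext hk')
    have hmem := Multiplier.mem_commutator_sylow P z' hzcen hzd hzP
    have hUab := hab ((P : Subgroup C).map C.subtype) (map_subtype_le _) (P.2.map _)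
    have hbot : ⁅(P : Subgroup C), (P : Subgroup C)⁆ = ⊥ := by
      rw [commutator_eq_bot_iff_le_centralizer]
      intro a ha
      exact mem_centralizer_iff.2 fun b hb => Subtype.ext (show (b : W) * a = a * b from
        congrArg Subtype.val (hUab.is_comm.comm
          (⟨(b : W), mem_map_of_mem C.subtype hb⟩ : ((P : Subgroup C).map C.subtype : Subgroup W))
          ⟨(a : W), mem_map_of_mem C.subtype ha⟩))
    rw [hbot, mem_bot] at hmem
    exact mem_bot.2 (congrArg Subtype.val hmem)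
  have hconj : ∀ g : W, M.map (MulAut.conj g).toMonoidHom =
      ⁅centralizer (Y : Set W) ⊓ (S.map (MulAut.conj (q g)).toMonoidHom).comap q,
        centralizer (Y : Set W) ⊓ (S.map (MulAut.conj (q g)).toMonoidHom).comap q⁆ := by
    intro g
    rw [hM, Subgroup.map_commutator]
    suffices hs : C.map (MulAut.conj g).toMonoidHom =
        centralizer (Y : Set W) ⊓ (S.map (MulAut.conj (q g)).toMonoidHom).comap q by rw [hs]
    ext x
    rw [map_conj_mem_iff]
    constructor
    · rintro ⟨h1, h2⟩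
      refine ⟨?_, ⟨q (g⁻¹ * x * g), h2, by simp [mul_assoc]⟩⟩
      have := (inferInstance : (centralizer (Y : Set W)).Normal).conj_mem _ h1 g
      simpa [mul_assoc] using this
    · rintro ⟨h1, ⟨s, hs, hsx⟩⟩
      refine ⟨by simpa using (inferInstance : (centralizer (Y : Set W)).Normal).conj_mem x h1 g⁻¹, ?_⟩
      show q (g⁻¹ * x * g) ∈ S
      have hsx' : q g * s * (q g)⁻¹ = q x := hsx
      rw [map_mul, map_mul, map_inv, ← hsx']
      simpa [mul_assoc] using hs
  have hfix : ∀ g : W, S.map (MulAut.conj (q g)).toMonoidHom = S → g ∈ normalizer (M : Set W) := by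
    intro g hg
    refine mem_normalizer_of_map_eq ?_
    rw [hconj g, hg]
  have hnorm : N.comap q ≤ normalizer (M : Set W) := fun g hg => hfix g (by
    have hn := mem_normalizer_iff.1 (h.Snorm (show q g ∈ N from hg))
    ext x
    constructor
    · rintro ⟨s, hs, rfl⟩
      exact (hn s).1 hs
    · intro hx
      refine ⟨(q g)⁻¹ * x * q g, (hn _).2 (by simpa [mul_assoc] using hx), ?_⟩
      simp [mul_assoc])
  refine ⟨M, hperf, hMS, hinf, hMC.trans inf_le_left, hnorm, fun g hg => ?_⟩
  set M' := M.map (MulAut.conj g).toMonoidHom with hM'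
  set S' := S.map (MulAut.conj (q g)).toMonoidHom with hS'
  have hM'S : M'.map q = S' := by
    rw [hM', hS', ← hMS, Subgroup.map_map, Subgroup.map_map]
    congr 1
    ext x
    simp
  have hS'N : S' ≤ N := by
    rintro _ ⟨s, hs, rfl⟩
    exact h.Nn.conj_mem s (h.SN hs) (q g)
  have hbot : S ⊓ S' = ⊥ := by
    have hS'n : (S'.subgroupOf S).Normal := by
      refine normal_subgroupOf_of_le_normalizer (h.SN.trans fun n hn => ?_)
      rw [hS']
      refine mem_normalizer_iff.2 fun x => ?_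
      have h1 := mem_normalizer_iff.1 (h.Snorm (h.Nn.conj_mem n hn (q g)⁻¹)) ((q g)⁻¹ * x * q g)
      rw [map_conj_mem_iff, map_conj_mem_iff]
      refine h1.trans (Iff.of_eq ?_)
      congr 1
      group
    rcases IsSimpleGroup.eq_bot_or_eq_top_of_normal _ hS'n with e | e
    · exact disjoint_iff.1 (subgroupOf_eq_bot.1 e).symm
    · refine absurd (hfix g (eq_of_le_of_card_ge (subgroupOf_eq_top.1 e) ?_).symm) hg
      rw [hS', Subgroup.card_map_of_injective (MulAut.conj (q g)).injective]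
  have hinf' : M ⊓ M' = ⊥ := by
    rw [eq_bot_iff]
    rintro x ⟨hx, hx'⟩
    have h1 : q x ∈ S ⊓ S' := ⟨hMS ▸ mem_map_of_mem q hx, hM'S ▸ mem_map_of_mem q hx'⟩
    rw [hbot, mem_bot] at h1
    rw [← hinf]
    exact ⟨hx, h1⟩
  refine ⟨hinf', fun a ha b hb => ?_⟩
  have haK : a ∈ N.comap q := h.SN (hMS ▸ mem_map_of_mem q ha)
  have hbK : b ∈ N.comap q := hS'N (hM'S ▸ mem_map_of_mem q hb)
  have h1 : a * b * a⁻¹ * b⁻¹ ∈ M' := by
    refine mul_mem ?_ (inv_mem hb)
    rw [hM', map_conj_mem_iff]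
    rw [hM', map_conj_mem_iff] at hb
    haveI := h.Nn
    have haK' : g⁻¹ * a * g⁻¹⁻¹ ∈ N.comap q := (inferInstance : (N.comap q).Normal).conj_mem a haK g⁻¹
    rw [inv_inv] at haK'
    have := (mem_normalizer_iff.1 (hnorm haK') _).1 hb
    simpa [mul_assoc] using this
  have h2 : a * b * a⁻¹ * b⁻¹ ∈ M := by
    have := mul_mem ha ((mem_normalizer_iff.1 (hnorm hbK) _).1 (inv_mem ha))
    simpa [mul_assoc] using this
  have h3 : a * b * a⁻¹ * b⁻¹ = 1 := by rw [← mem_bot, ← hinf']; exact ⟨h2, h1⟩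
  exact mul_inv_eq_iff_eq_mul.1 (mul_inv_eq_one.1 h3)

/-- The isomorphism onto the simple factor. -/
theorem Comp.bijective {M : Subgroup W} (hM : Comp q Y N S M) :
    Function.Bijective (fun m : M => (⟨q m, hM.map ▸ mem_map_of_mem q m.2⟩ : S)) := by
  constructor
  · intro a b hab
    have h1 : (a : W) * (b : W)⁻¹ ∈ M ⊓ q.ker := mem_inf.2 ⟨mul_mem a.2 (inv_mem b.2),
      show q ((a : W) * (b : W)⁻¹) = 1 by
        rw [map_mul, map_inv, show q a = q b from congrArg Subtype.val hab, mul_inv_cancel]⟩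
    rw [hM.inf, mem_bot, mul_inv_eq_one] at h1
    exact Subtype.ext h1
  · rintro ⟨s, hs⟩
    rw [← hM.map] at hs
    obtain ⟨m, hm, rfl⟩ := hs
    exact ⟨⟨m, hm⟩, rfl⟩

/-- The component is isomorphic to the simple factor. -/
noncomputable def Comp.equiv {M : Subgroup W} (hM : Comp q Y N S M) : M ≃* S :=
  MulEquiv.ofBijective
    ({ toFun := fun m => ⟨q m, hM.map ▸ mem_map_of_mem q m.2⟩
       map_one' := Subtype.ext (map_one q)
       map_mul' := fun a b => Subtype.ext (map_mul q _ _) } : M →* S) hM.bijective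

theorem Comp.coe_equiv {M : Subgroup W} (hM : Comp q Y N S M) (m : M) :
    (hM.equiv m : Q) = q m := rfl

theorem Comp.le_comap (hloc : Loc r f q Y N S) {M : Subgroup W} (hM : Comp q Y N S M) :
    M ≤ N.comap q := fun _ hm => hloc.SN (hM.map ▸ mem_map_of_mem q hm)

theorem Comp.not_dvd_relIndex' (hloc : Loc r f q Y N S) {M : Subgroup W} (hM : Comp q Y N S M)
    (P : Sylow r W) : ¬ r ∣ (P : Subgroup W).relIndex M := by
  haveI := hloc.Nn
  exact not_dvd_relIndex P (hM.le_comap hloc) hM.norm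

theorem Comp.sylow_inf_ne_bot (hloc : Loc r f q Y N S) {M : Subgroup W} (hM : Comp q Y N S M)
    (hrS : r ∣ Nat.card S) (P : Sylow r W) : (P : Subgroup W) ⊓ M ≠ ⊥ := by
  intro h
  refine hM.not_dvd_relIndex' hloc P ?_
  rw [← inf_relIndex_right, h, relIndex_bot_left, Nat.card_congr hM.equiv.toEquiv]
  exact hrS

/-- An abelian Sylow subgroup normalises the component. -/
theorem Comp.normalizes_of_comm (hloc : Loc r f q Y N S) {M : Subgroup W} (hM : Comp q Y N S M)
    (hrS : r ∣ Nat.card S) (P : Sylow r W)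
    (hP : ∀ a ∈ (P : Subgroup W), ∀ b ∈ (P : Subgroup W), a * b = b * a) :
    (P : Subgroup W) ≤ normalizer (M : Set W) := by
  intro g hg
  by_contra hgM
  obtain ⟨a, ha, ha1⟩ := (bot_or_exists_ne_one _).resolve_left (hM.sylow_inf_ne_bot hloc hrS P)
  have h2 : a ∈ M.map (MulAut.conj g).toMonoidHom := by
    rw [map_conj_mem_iff, mul_assoc, ← hP g hg a ha.1, ← mul_assoc, inv_mul_cancel, one_mul]
    exact ha.2
  exact ha1 (mem_bot.1 ((hM.moves g hgM).1 ▸ ⟨ha.2, h2⟩))

/-- A Sylow subgroup of the domain gives one of `W`. -/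
noncomputable def Loc.sylow (h : Loc r f q Y N S) (P : Sylow r G) : Sylow r W :=
  P.mapSurjective h.modulo.surj

theorem Loc.coe_sylow (h : Loc r f q Y N S) (P : Sylow r G) :
    ((h.sylow P : Sylow r W) : Subgroup W) = (P : Subgroup G).map f := rfl

theorem Loc.commute_lift (h : Loc r f q Y N S) {P : Sylow r G} {a b : G}
    (ha : a ∈ (P : Subgroup G)) (hb : b ∈ (P : Subgroup G)) (hab : f a * f b = f b * f a) :
    Commute a b :=
  h.modulo.inj P.2 (mul_mem ha hb) (mul_mem hb ha) (by rw [map_mul, map_mul, hab])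

end Cfsg.Agent.Lib.CentralType79
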