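import Cfsg.Agent.Lib.CentralType79.Good
import Cfsg.Agent.Lib.CentralType79.JR
import Cfsg.Agent.Lib.GorensteinWalter.Main

/-!
# A group of central type with small nonabelian Sylow subgroups is solvable (helper79)
-/

set_option autoImplicit false
set_option linter.style.haveILetI false
set_option linter.unusedSectionVars false

namespace Cfsg.Agent.Lib.CentralType79

universe u

variable {G : Type u} [Group G] [Finite G]

theorem solvable (D : PData G) (hG : SmallSylows G) : Group.IsSolvable G := by
  by_contra hns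
  obtain ⟨R, hR, N, S, h⟩ := exists_top hns
  haveI := hR
  suffices hgood : ∃ r, Good r S by
    obtain ⟨r, hr⟩ := hgood
    haveI : Fact r.Prime := ⟨hr.prime⟩
    obtain ⟨W, iW, fW, f, q, Y, hl, -⟩ := exists_loc h r
    exact hl.good_false D hr hG
  have hpsl : ∀ (F : Type) [Field F] [Fintype F], 4 ≤ Fintype.card F →
      (S ≃* Matrix.ProjectiveSpecialLinearGroup (Fin 2) F) → ∃ r, Good r S := fun F _ _ hq e => by
    obtain ⟨r, hr⟩ := good_psl (F := F) hq
    exact ⟨r, hr.congr e⟩
  rcases sylow_two_cases D hG h with hab | hd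
  · rcases Walter.propKnown BenderOne.propSplitFinal GorensteinWalter.propMainFinal S h.simple h.nonab
      hab with he | ho | hJ
    · obtain ⟨n, F, iF, fF, hn, hF, ⟨e⟩⟩ := he
      refine hpsl F ?_ e
      rw [hF]
      calc 4 = 2 ^ 2 := by norm_num
        _ ≤ 2 ^ n := Nat.pow_le_pow_right (by norm_num) (by omega)
    · obtain ⟨F, iF, fF, -, h5, ⟨e⟩⟩ := ho
      exact hpsl F (by omega) e
    · exact (jr_false D hG h hJ).elim
  · rcases GorensteinWalter.known_of_simple S h.simple h.nonab hd with hP | hA
    · obtain ⟨F, iF, fF, -, hq, ⟨e⟩⟩ := hP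
      exact hpsl F (by omega) e
    · obtain ⟨e⟩ := hA
      exact ⟨5, good_A7.congr e⟩

end Cfsg.Agent.Lib.CentralType79
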