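import Cfsg.Agent.Lib.CentralType79.Local
import Cfsg.Agent.Lib.CentralType79.GLTwo
import Mathlib.GroupTheory.NoncommCoprod
import Mathlib.RingTheory.RootsOfUnity.PrimitiveRoots

/-!
# An odd prime with cyclic Sylow subgroups in the simple factor is impossible (helper79)
-/

set_option autoImplicit false
set_option linter.style.haveILetI false
set_option linter.unusedSectionVars false

namespace Cfsg.Agent.Lib.CentralType79

open Subgroup

universe u

/-- What is needed of a prime for the simple group `S`. -/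
structure Good (r : ℕ) (S : Type u) [Group S] : Prop where
  prime : r.Prime
  odd : r ≠ 2
  dvd : r ∣ Nat.card S
  cyclic : ∀ U : Subgroup S, IsPGroup r U → IsCyclic U
  inner : ∀ α : MulAut S, ∀ k : ℕ, α ^ r ^ k = 1 → ∃ s : S, MulAut.conj s = α
  big : r * (r * r - 1) < 2 * Nat.card S

section general

variable {G : Type u} [Group G] [Finite G] (D : PData G)

/-- Sylow subgroups are abelian when their square root exponent is at least three. -/
def SmallSylows (G : Type u) [Group G] : Prop :=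
  ∀ p : ℕ, p.Prime → p ^ 6 ∣ Nat.card G → ∀ P : Sylow p G, IsMulCommutative P

variable {D}

theorem card_sylow_eq_sq {p : ℕ} [hp : Fact p.Prime] (D : PData G) (P : Sylow p G) :
    Nat.card (P : Subgroup G) = p ^ (2 * D.e.factorization p) := by
  rw [P.card_eq_multiplicity, D.card, Nat.factorization_pow, Finsupp.smul_apply, smul_eq_mul]

theorem comm_or_card {p : ℕ} [hp : Fact p.Prime] (D : PData G) (hG : SmallSylows G) (P : Sylow p G) :
    (∀ a ∈ (P : Subgroup G), ∀ b ∈ (P : Subgroup G), a * b = b * a) ∨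
      Nat.card (P : Subgroup G) = p ^ 4 := by
  set k := D.e.factorization p
  have hk : Nat.card (P : Subgroup G) = p ^ (2 * k) := card_sylow_eq_sq D P
  have habel : IsMulCommutative P → ∀ a ∈ (P : Subgroup G), ∀ b ∈ (P : Subgroup G), a * b = b * a :=
    fun h a ha b hb => congrArg Subtype.val (h.is_comm.comm (⟨a, ha⟩ : (P : Subgroup G)) ⟨b, hb⟩)
  rcases Nat.lt_or_ge k 2 with h | h
  · left
    rcases (show k = 0 ∨ k = 1 by omega) with e | e
    · intro a ha b hb
      rw [e, mul_zero, pow_zero, Subgroup.card_eq_one] at hk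
      rw [hk, mem_bot] at ha
      rw [ha, one_mul, mul_one]
    · exact habel ⟨⟨IsPGroup.commutative_of_card_eq_prime_sq (by rw [hk, e, mul_one])⟩⟩
  rcases Nat.eq_or_lt_of_le h with e | h3
  · right
    rw [hk, ← e]
  · left
    refine habel (hG p hp.out ?_ P)
    exact ((pow_dvd_pow p (show 6 ≤ 2 * k by omega)).trans hk.symm.dvd).trans
      (Subgroup.card_subgroup_dvd_card _)

theorem not_cube_dvd {p : ℕ} [hp : Fact p.Prime] (D : PData G) {P : Sylow p G}
    (hP : Nat.card (P : Subgroup G) = p ^ 4) : ¬ p ^ 3 ∣ D.e := by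
  intro h
  have h1 := (Nat.Prime.pow_dvd_iff_le_factorization hp.out D.e_pos.ne').1 h
  rw [card_sylow_eq_sq D P] at hP
  have := Nat.pow_right_injective hp.out.two_le hP
  omega

theorem card_sup {A B : Subgroup G} (hc : ∀ a ∈ A, ∀ b ∈ B, Commute a b) (hd : A ⊓ B = ⊥) :
    Nat.card (A ⊔ B : Subgroup G) = Nat.card A * Nat.card B ∧
      ∀ x ∈ A ⊔ B, ∃ a ∈ A, ∃ b ∈ B, x = a * b := by
  let φ : A × B →* G := A.subtype.noncommCoprod B.subtype fun a b => hc a a.2 b b.2
  have hr : φ.range = A ⊔ B := by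
    refine (MonoidHom.noncommCoprod_range A.subtype B.subtype _).trans ?_
    rw [Subgroup.range_subtype, Subgroup.range_subtype]
  have hinj : Function.Injective φ := by
    refine (injective_iff_map_eq_one φ).2 fun ⟨a, b⟩ h => ?_
    have h1 : (a : G) * b = 1 := h
    have ha : (a : G) ∈ A ⊓ B := mem_inf.2 ⟨a.2, eq_inv_of_mul_eq_one_left h1 ▸ inv_mem b.2⟩
    rw [hd, mem_bot] at ha
    rw [ha, one_mul] at h1
    exact Prod.ext (Subtype.ext ha) (Subtype.ext h1)
  refine ⟨?_, fun x hx => ?_⟩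
  · rw [← hr, ← Nat.card_congr (MonoidHom.ofInjective hinj).toEquiv, Nat.card_prod]
  · rw [← hr] at hx
    obtain ⟨⟨a, b⟩, rfl⟩ := hx
    exact ⟨a, a.2, b, b.2, rfl⟩

theorem beta_sup {A : Subgroup G} {B : Subgroup G} {x : G} (hc : ∀ a ∈ A, ∀ b ∈ B, Commute a b)
    (hd : A ⊓ B = ⊥) (hA : ∀ a ∈ A, Commute x a ∧ D.beta x a = 1)
    (hB : ∀ b ∈ B, Commute x b ∧ D.beta x b = 1) :
    ∀ y ∈ A ⊔ B, Commute x y ∧ D.beta x y = 1 := by
  intro y hy
  obtain ⟨a, ha, b, hb, rfl⟩ := (card_sup hc hd).2 y hy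
  exact ⟨(hA a ha).1.mul_right (hB b hb).1, by
    rw [D.beta_mul (hA a ha).1 (hB b hb).1, (hA a ha).2, (hB b hb).2, one_mul]⟩

theorem beta_zpowers {x a : G} (h : Commute x a) (hb : D.beta x a = 1) :
    ∀ y ∈ zpowers a, Commute x y ∧ D.beta x y = 1 := by
  intro y hy
  obtain ⟨n, rfl⟩ := (isOfFinOrder_of_finite a).mem_powers_iff_mem_zpowers.2 hy
  exact ⟨h.pow_right n, by rw [D.beta_pow h, hb, one_pow]⟩

theorem isotropic_sup {A B : Subgroup G} (hc : ∀ a ∈ A, ∀ b ∈ B, Commute a b) (hd : A ⊓ B = ⊥)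
    (hA : ∀ x ∈ A, ∀ y ∈ A, Commute x y ∧ D.beta x y = 1)
    (hB : ∀ x ∈ B, ∀ y ∈ B, Commute x y ∧ D.beta x y = 1)
    (hAB : ∀ x ∈ A, ∀ y ∈ B, D.beta x y = 1) :
    ∀ x ∈ A ⊔ B, ∀ y ∈ A ⊔ B, Commute x y ∧ D.beta x y = 1 := by
  intro x hx y hy
  have hBA : ∀ b ∈ B, ∀ a ∈ A, Commute b a ∧ D.beta b a = 1 := fun b hb a ha => by
    have := D.beta_swap (hc a ha b hb)
    rw [hAB a ha b hb, one_mul] at this
    exact ⟨(hc a ha b hb).symm, this⟩
  obtain ⟨a, ha, b, hb, rfl⟩ := (card_sup hc hd).2 x hx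
  have h1 := beta_sup hc hd (hA a ha) (fun b' hb' => ⟨hc a ha b' hb', hAB a ha b' hb'⟩) y hy
  have h2 := beta_sup hc hd (hBA b hb) (hB b hb) y hy
  exact ⟨h1.1.mul_left h2.1, by rw [D.beta_mul_left h1.1 h2.1, h1.2, h2.2, one_mul]⟩

end general

variable {G W Q : Type u} [Group G] [Finite G] [Group W] [Finite W] [Group Q] [Finite Q]
  {r : ℕ} [hr : Fact r.Prime] {f : G →* W} {q : W →* Q} {Y : Subgroup W} {N S : Subgroup Q}
  (D : PData G)

include D in
/-- An element of a nonabelian Sylow subgroup moving a component is impossible, `r` odd. -/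
theorem Comp.moving_false (h : Loc r f q Y N S) {M : Subgroup W} (hM : Comp q Y N S M)
    (hr2 : r ≠ 2) (hrS : r ∣ Nat.card S) {P : Sylow r G} (hP : Nat.card (P : Subgroup G) = r ^ 4)
    {g : G} (hg : g ∈ (P : Subgroup G)) (hmove : f g ∉ normalizer (M : Set W)) : False := by
  set P' := (h.sylow P : Sylow r W)
  have hg2 : f g * f g ∉ normalizer (M : Set W) := by
    intro h2
    apply hmove
    obtain ⟨k, hk⟩ := IsPGroup.iff_orderOf.1 P.2 ⟨g, hg⟩
    rw [Subgroup.orderOf_mk] at hk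
    have hodd : Odd (orderOf g) := hk ▸ (hr.out.odd_of_ne_two hr2).pow
    obtain ⟨j, hj⟩ := hodd
    have hgg : g = (g * g) ^ (j + 1) := by
      rw [← sq, ← pow_mul, show 2 * (j + 1) = 2 * j + 1 + 1 by ring, ← hj, pow_succ,
        pow_orderOf_eq_one, one_mul]
    rw [hgg, map_pow, map_mul]
    exact pow_mem h2 _
  -- an element of order `r` of the component in the Sylow subgroup
  obtain ⟨a, ⟨haP, haM⟩, ha⟩ : ∃ a : W, a ∈ (P' : Subgroup W) ⊓ M ∧ orderOf a = r := by
    have hp := P'.2.to_le (inf_le_left : (P' : Subgroup W) ⊓ M ≤ P')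
    obtain ⟨k, hk⟩ := IsPGroup.iff_card.1 hp
    have hk0 : k ≠ 0 := fun e => hM.sylow_inf_ne_bot h hrS P'
      (Subgroup.card_eq_one.1 (by rw [hk, e, pow_zero]))
    obtain ⟨a, ha⟩ := exists_prime_orderOf_dvd_card' (G := ((P' : Subgroup W) ⊓ M : Subgroup W)) r
      (hk ▸ dvd_pow_self r hk0)
    exact ⟨a, a.2, by rwa [Subgroup.orderOf_coe]⟩
  obtain ⟨a₀, ha₀, rfl⟩ := haP
  set b₀ := g * a₀ * g⁻¹ with hb₀
  set c₀ := g * b₀ * g⁻¹ with hc₀
  have hb₀P : b₀ ∈ (P : Subgroup G) := mul_mem (mul_mem hg ha₀) (inv_mem hg)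
  have hc₀P : c₀ ∈ (P : Subgroup G) := mul_mem (mul_mem hg hb₀P) (inv_mem hg)
  set M₁ := M.map (MulAut.conj (f g)).toMonoidHom with hM₁
  set M₂ := M.map (MulAut.conj (f g * f g)).toMonoidHom with hM₂
  have hb : f b₀ ∈ M₁ := ⟨f a₀, haM, by simp [hb₀]⟩
  have hc : f c₀ ∈ M₂ := ⟨f a₀, haM, by simp [hc₀, hb₀, mul_assoc]⟩
  obtain ⟨hd1, hcomm1⟩ := hM.moves _ hmove
  obtain ⟨hd2, hcomm2⟩ := hM.moves _ hg2
  have h12 : M₁ ⊓ M₂ = ⊥ ∧ ∀ x ∈ M₁, ∀ y ∈ M₂, x * y = y * x := by
    have e : M₂ = M₁.map (MulAut.conj (f g)).toMonoidHom := by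
      rw [hM₁, hM₂, Subgroup.map_map]
      congr 1
      ext x
      simp [mul_assoc]
    refine ⟨?_, fun x hx y hy => ?_⟩
    · rw [e, hM₁, ← Subgroup.map_inf _ _ _ (MulAut.conj (f g)).injective, hd1, Subgroup.map_bot]
    · obtain ⟨x', hx', rfl⟩ := hx
      rw [e] at hy
      obtain ⟨y', hy', rfl⟩ := hy
      rw [← map_mul, ← map_mul, hcomm1 x' hx' y' hy']
  have hperf : ∀ w : W, M.map (MulAut.conj w).toMonoidHom ≤
      ⁅M.map (MulAut.conj w).toMonoidHom, M.map (MulAut.conj w).toMonoidHom⁆ := fun w => by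
    rw [← Subgroup.map_commutator]
    exact map_mono hM.perfect
  have cab : Commute a₀ b₀ := h.commute_lift ha₀ hb₀P (hcomm1 _ haM _ hb)
  have cac : Commute a₀ c₀ := h.commute_lift ha₀ hc₀P (hcomm2 _ haM _ hc)
  have cbc : Commute b₀ c₀ := h.commute_lift hb₀P hc₀P (h12.2 _ hb _ hc)
  have βab : D.beta a₀ b₀ = 1 := h.modulo.beta_perfect D P.2 ha₀ hb₀P cab (hperf (f g))
    (fun m hm => (hcomm1 _ haM m hm).symm) hb
  have βac : D.beta a₀ c₀ = 1 := h.modulo.beta_perfect D P.2 ha₀ hc₀P cac (hperf (f g * f g))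
    (fun m hm => (hcomm2 _ haM m hm).symm) hc
  have βbc : D.beta b₀ c₀ = 1 := h.modulo.beta_perfect D P.2 hb₀P hc₀P cbc (hperf (f g * f g))
    (fun m hm => (h12.2 _ hb m hm).symm) hc
  have hord : ∀ x ∈ (P : Subgroup G), orderOf x = orderOf (f x) := fun x hx => by
    refine Nat.dvd_antisymm (orderOf_dvd_of_pow_eq_one ?_) (orderOf_map_dvd f x)
    exact h.modulo.inj P.2 (pow_mem hx _) (one_mem _) (by rw [map_pow, pow_orderOf_eq_one, map_one])
  have oa : orderOf a₀ = r := (hord _ ha₀).trans ha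
  have ob : orderOf b₀ = r := by
    rw [hb₀, show g * a₀ * g⁻¹ = MulAut.conj g a₀ from rfl, MulEquiv.orderOf_eq, oa]
  have oc : orderOf c₀ = r := by
    rw [hc₀, show g * b₀ * g⁻¹ = MulAut.conj g b₀ from rfl, MulEquiv.orderOf_eq, ob]
  have hcz : ∀ {x y : G}, Commute x y → ∀ a ∈ zpowers x, ∀ b ∈ zpowers y, Commute a b := by
    rintro x y hxy _ ⟨i, rfl⟩ _ ⟨j, rfl⟩
    exact hxy.zpow_zpow i j
  have hself : ∀ x : G, ∀ a ∈ zpowers x, ∀ b ∈ zpowers x, Commute a b ∧ D.beta a b = 1 := by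
    intro x a ha' b hb'
    obtain ⟨n, hn⟩ := (isOfFinOrder_of_finite x).mem_powers_iff_mem_zpowers.2 ha'
    have hax : Commute a x := by rw [← hn]; exact Commute.pow_self x n
    refine beta_zpowers hax ?_ b hb'
    rw [← hn]
    have h1 := D.beta_swap (Commute.pow_self x n).symm
    rw [D.beta_pow (Commute.refl x), D.beta_self, one_pow, one_mul] at h1
    exact h1
  have hdab : zpowers a₀ ⊓ zpowers b₀ = ⊥ := by
    rw [eq_bot_iff]
    intro x hx
    have hxP : x ∈ (P : Subgroup G) := zpowers_le.2 ha₀ hx.1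
    refine h.modulo.inj P.2 hxP (one_mem _) ?_
    rw [map_one, ← mem_bot, ← hd1]
    refine mem_inf.2 ⟨?_, ?_⟩
    · exact (zpowers_le.2 (mem_comap.2 haM) : zpowers a₀ ≤ M.comap f) hx.1
    · exact (zpowers_le.2 (mem_comap.2 hb) : zpowers b₀ ≤ M₁.comap f) hx.2
  have hABP : zpowers a₀ ⊔ zpowers b₀ ≤ (P : Subgroup G) :=
    sup_le (zpowers_le.2 ha₀) (zpowers_le.2 hb₀P)
  have hcAB : ∀ x ∈ zpowers a₀ ⊔ zpowers b₀, ∀ y ∈ zpowers c₀, Commute x y := by
    intro x hx y hy
    obtain ⟨i, hi, j, hj, rfl⟩ := (card_sup (hcz cab) hdab).2 x hx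
    exact (hcz cac i hi y hy).mul_left (hcz cbc j hj y hy)
  have hdAB : (zpowers a₀ ⊔ zpowers b₀) ⊓ zpowers c₀ = ⊥ := by
    rw [eq_bot_iff]
    intro x hx
    have hxP : x ∈ (P : Subgroup G) := hABP hx.1
    refine h.modulo.inj P.2 hxP (one_mem _) ?_
    obtain ⟨i, hi, j, hj, hxij⟩ := (card_sup (hcz cab) hdab).2 x hx.1
    have hi' : f i ∈ M := (zpowers_le.2 (mem_comap.2 haM) : zpowers a₀ ≤ M.comap f) hi
    have hj' : f j ∈ M₁ := (zpowers_le.2 (mem_comap.2 hb) : zpowers b₀ ≤ M₁.comap f) hj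
    have hx2 : f x ∈ M₂ := (zpowers_le.2 (mem_comap.2 hc) : zpowers c₀ ≤ M₂.comap f) hx.2
    -- `f x` commutes with `M₂` and lies in it
    have hcen : ∀ m ∈ M₂, f x * m = m * f x := fun m hm => by
      rw [hxij, map_mul, mul_assoc, h12.2 _ hj' m hm, ← mul_assoc, hcomm2 _ hi' m hm, mul_assoc]
    rw [map_one]
    have e1 := hx2
    obtain ⟨s, hs, hsx⟩ := hx2
    have hsc : ∀ m ∈ M, s * m = m * s := by
      intro m hm
      refine (MulAut.conj (f g * f g)).injective ?_
      rw [map_mul (MulAut.conj (f g * f g)) s m, map_mul (MulAut.conj (f g * f g)) m s]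
      have := hcen _ ⟨m, hm, rfl⟩
      rw [← hsx] at this
      exact this
    haveI := h.simple
    have hsS : (⟨q s, hM.map ▸ mem_map_of_mem q hs⟩ : S) ∈ Subgroup.center S := by
      refine mem_center_iff.2 fun t => Subtype.ext ?_
      obtain ⟨m, hm, hmt⟩ := (hM.map.symm ▸ t.2 : (t : Q) ∈ M.map q)
      show (t : Q) * q s = q s * t
      rw [← hmt, ← map_mul, ← map_mul, hsc m hm]
    rcases IsSimpleGroup.eq_bot_or_eq_top_of_normal (Subgroup.center S) inferInstance with e' | e'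
    · rw [e', mem_bot] at hsS
      have : s ∈ M ⊓ q.ker := mem_inf.2 ⟨hs, congrArg Subtype.val hsS⟩
      rw [hM.inf, mem_bot] at this
      rw [← hsx, this, map_one]
    · exact absurd ⟨⟨fun x y => (mem_center_iff.1 (e' ▸ mem_top y) x)⟩⟩ h.nonab
  have hiso1 := isotropic_sup (hcz cab) hdab (hself a₀) (hself b₀) (fun x hx y hy => by
    have h1 : ∀ y' ∈ zpowers b₀, Commute a₀ y' ∧ D.beta a₀ y' = 1 := beta_zpowers cab βab
    obtain ⟨c1, b1⟩ := h1 y hy
    have h2 := D.beta_swap c1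
    rw [b1, one_mul] at h2
    have h3 := beta_zpowers c1.symm h2 x hx
    have h4 := D.beta_swap h3.1
    rw [h3.2, one_mul] at h4
    exact h4)
  have hiso := isotropic_sup hcAB hdAB hiso1 (hself c₀) (fun x hx y hy => by
    have hA : ∀ {z : G}, Commute z c₀ → D.beta z c₀ = 1 → Commute c₀ z ∧ D.beta c₀ z = 1 :=
      fun {z} hz hz' => ⟨hz.symm, by
        have := D.beta_swap hz
        rwa [hz', one_mul] at this⟩
    have h1 : ∀ z ∈ zpowers a₀ ⊔ zpowers b₀, Commute c₀ z ∧ D.beta c₀ z = 1 :=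
      beta_sup (hcz cab) hdab (beta_zpowers (hA cac βac).1 (hA cac βac).2)
        (beta_zpowers (hA cbc βbc).1 (hA cbc βbc).2)
    obtain ⟨c1, b1⟩ := h1 x hx
    have h2 := D.beta_swap c1
    rw [b1, one_mul] at h2
    exact (beta_zpowers c1.symm h2 y hy).2)
  refine not_cube_dvd D hP ?_
  have hcard := (card_sup hcAB hdAB).1
  rw [(card_sup (hcz cab) hdab).1, Nat.card_zpowers, Nat.card_zpowers, Nat.card_zpowers, oa, ob, oc,
    ← pow_three'] at hcard
  rw [← hcard]
  exact D.card_dvd_of_isotropic _ (fun x hx y hy => (hiso x hx y hy).1) fun x hx y hy => (hiso x hx y hy).2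

include D in
/-- With a component the good prime gives a contradiction. -/
theorem Comp.good_false (h : Loc r f q Y N S) (hgood : Good r S) (hG : SmallSylows G) {M : Subgroup W}
    (hM : Comp q Y N S M) : False := by
  classical
  obtain ⟨P⟩ : Nonempty (Sylow r G) := inferInstance
  set P' := (h.sylow P : Sylow r W)
  have hnorm : (P' : Subgroup W) ≤ normalizer (M : Set W) := by
    rcases comm_or_card D hG P with hab | h4
    · refine hM.normalizes_of_comm h hgood.dvd P' ?_
      rintro _ ⟨a, ha, rfl⟩ _ ⟨b, hb, rfl⟩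
      rw [← map_mul, hab a ha b hb, map_mul]
    · rintro _ ⟨g, hg, rfl⟩
      by_contra hmove
      exact hM.moving_false D h hgood.odd hgood.dvd h4 hg hmove
  set A := (P' : Subgroup W) ⊓ M with hA
  have hAcyc : IsCyclic A := by
    have hp : IsPGroup r A := P'.2.to_le inf_le_left
    let A' : Subgroup M := A.subgroupOf M
    have hp' : IsPGroup r A' := hp.comap_subtype
    haveI := hgood.cyclic (A'.map hM.equiv.toMonoidHom) (hp'.map _)
    haveI : IsCyclic A' := (A'.equivMapOfInjective _ hM.equiv.injective).isCyclic.2 ‹_›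
    exact (Subgroup.subgroupOfEquivOfLe (inf_le_right : A ≤ M)).isCyclic.1 ‹_›
  obtain ⟨⟨α, hαA⟩, hgen⟩ := IsCyclic.exists_generator (α := A)
  have hαgen : ∀ x ∈ A, x ∈ zpowers α := by
    intro x hx
    obtain ⟨n, hn⟩ := mem_zpowers_iff.1 (hgen ⟨x, hx⟩)
    exact mem_zpowers_iff.2 ⟨n, congrArg Subtype.val hn⟩
  have hα1 : α ≠ 1 := fun e => hM.sylow_inf_ne_bot h hgood.dvd P' (eq_bot_iff.2 fun x hx => by
    have := hαgen x hx
    rwa [e, zpowers_one_eq_bot] at this)
  obtain ⟨α₀, hα₀, hfα⟩ := hαA.1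
  -- the decomposition of an element of the Sylow subgroup
  have hdec : ∀ y ∈ (P : Subgroup G), ∃ m ∈ (P : Subgroup G), ∃ c ∈ (P : Subgroup G),
      y = m * c ∧ f m ∈ A ∧ ∀ z ∈ M, z * f c = f c * z := by
    intro y hy
    have hyN := hnorm ⟨y, hy, rfl⟩
    let ψ : normalizer (M : Set W) →* MulAut S :=
      (MulAut.congr hM.equiv).toMonoidHom.comp (normalizerMonoidHom M)
    obtain ⟨k, hk⟩ := IsPGroup.iff_orderOf.1 P.2 ⟨y, hy⟩
    rw [Subgroup.orderOf_mk] at hk
    have hyk : ψ ⟨f y, hyN⟩ ^ r ^ k = 1 := by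
      rw [← map_pow, show (⟨f y, hyN⟩ : normalizer (M : Set W)) ^ r ^ k = 1 from
        Subtype.ext (by
          show f y ^ r ^ k = 1
          rw [← map_pow, ← hk, pow_orderOf_eq_one, map_one]), map_one]
    obtain ⟨s, hs⟩ := hgood.inner _ k hyk
    obtain ⟨m, rfl⟩ := hM.equiv.surjective s
    have hym : ∀ z ∈ M, f y * z * (f y)⁻¹ = (m : W) * z * (m : W)⁻¹ := by
      intro z hz
      have h1 := MulEquiv.congr_fun hs (hM.equiv ⟨z, hz⟩)
      change hM.equiv m * hM.equiv ⟨z, hz⟩ * (hM.equiv m)⁻¹ =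
        hM.equiv (normalizerMonoidHom M ⟨f y, hyN⟩ (hM.equiv.symm (hM.equiv ⟨z, hz⟩))) at h1
      rw [MulEquiv.symm_apply_apply, ← map_inv, ← map_mul, ← map_mul] at h1
      exact (congrArg Subtype.val (hM.equiv.injective h1)).symm
    have hm_comm : f y * (m : W) = (m : W) * f y := by
      have := hym m m.2
      rw [mul_inv_cancel_right, mul_inv_eq_iff_eq_mul] at this
      exact this
    have hmr : ∃ j : ℕ, orderOf (m : W) = r ^ j := by
      have h1 : (m : M) ^ r ^ k = 1 := by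
        haveI := h.simple
        have hc : hM.equiv m ^ r ^ k ∈ Subgroup.center S := by
          refine mem_center_iff.2 fun t => ?_
          have : MulAut.conj (hM.equiv m ^ r ^ k) = 1 := by rw [map_pow, hs, hyk]
          have h2 := MulEquiv.congr_fun this t
          rw [MulAut.conj_apply, MulAut.one_apply, mul_inv_eq_iff_eq_mul] at h2
          exact h2.symm
        rcases IsSimpleGroup.eq_bot_or_eq_top_of_normal (Subgroup.center S) inferInstance with e | e
        · rw [e, mem_bot, ← map_pow, map_eq_one_iff _ hM.equiv.injective] at hc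
          exact hc
        · exact absurd ⟨⟨fun x y => (mem_center_iff.1 (e ▸ mem_top y) x)⟩⟩ h.nonab
      obtain ⟨j, -, hj⟩ := (Nat.dvd_prime_pow hr.out).1 (orderOf_dvd_of_pow_eq_one
        (show (m : W) ^ r ^ k = 1 from congrArg Subtype.val h1))
      exact ⟨j, hj⟩
    -- `m` normalises `A`, hence lies in it
    have hmA : (m : W) ∈ A := by
      have hyA : ∀ z ∈ A, (m : W) * z * (m : W)⁻¹ ∈ A := fun z hz => by
        rw [← hym z hz.2]
        exact mem_inf.2 ⟨mul_mem (mul_mem ⟨y, hy, rfl⟩ hz.1) (inv_mem ⟨y, hy, rfl⟩),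
          (mem_normalizer_iff.1 hyN z).1 hz.2⟩
      have hmN : zpowers (m : W) ≤ normalizer (A : Set W) := by
        refine zpowers_le.2 (mem_normalizer_of_map_eq (eq_of_le_of_card_ge ?_ ?_))
        · rintro _ ⟨z, hz, rfl⟩; exact hyA z hz
        · rw [card_map_of_injective (MulAut.conj (m : W)).injective]
      obtain ⟨j, hj⟩ := hmr
      have hS : IsPGroup r (zpowers (m : W) ⊔ A : Subgroup W) :=
        IsPGroup.to_sup_of_normal_right' (IsPGroup.of_card (n := j) (by rw [Nat.card_zpowers, hj]))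
          (P'.2.to_le inf_le_left) hmN
      have hAle : A ≤ zpowers (m : W) ⊔ A := le_sup_right
      suffices A = zpowers (m : W) ⊔ A by rw [this]; exact mem_sup_left (mem_zpowers _)
      by_contra hne
      obtain ⟨i, hi⟩ := IsPGroup.iff_card.1 hS
      have hdvd : r ∣ A.relIndex (zpowers (m : W) ⊔ A) := by
        obtain ⟨l, -, hl⟩ := (Nat.dvd_prime_pow hr.out).1
          (hi ▸ A.relIndex_dvd_card (zpowers (m : W) ⊔ A) : A.relIndex _ ∣ r ^ i)
        rcases Nat.eq_zero_or_pos l with e | e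
        · rw [e, pow_zero, relIndex_eq_one] at hl
          exact absurd (le_antisymm hAle hl) hne
        · rw [hl]; exact dvd_pow_self r e.ne'
      have hle : zpowers (m : W) ⊔ A ≤ M := sup_le (zpowers_le.2 m.2) inf_le_right
      apply hM.not_dvd_relIndex' h P'
      rw [← inf_relIndex_right, ← hA, ← relIndex_mul_relIndex A _ M hAle hle]
      exact hdvd.trans (dvd_mul_right _ _)
    obtain ⟨m₀, hm₀, hfm⟩ := hmA.1
    refine ⟨m₀, hm₀, m₀⁻¹ * y, mul_mem (inv_mem hm₀) hy, (mul_inv_cancel_left _ _).symm,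
      by rw [hfm]; exact hmA, fun z hz => ?_⟩
    rw [map_mul, map_inv, hfm]
    have h1 := hym z hz
    calc z * ((m : W)⁻¹ * f y) = (m : W)⁻¹ * ((m : W) * z * (m : W)⁻¹) * f y := by group
      _ = (m : W)⁻¹ * (f y * z * (f y)⁻¹) * f y := by rw [h1]
      _ = (m : W)⁻¹ * f y * z := by group
  have hAcomm : ∀ x ∈ A, ∀ z ∈ A, x * z = z * x := fun x hx z hz => by
    obtain ⟨i, rfl⟩ := mem_zpowers_iff.1 (hαgen x hx)
    obtain ⟨j, rfl⟩ := mem_zpowers_iff.1 (hαgen z hz)
    exact (Commute.refl α).zpow_zpow i j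
  have key : ∀ y ∈ (P : Subgroup G), Commute α₀ y ∧ D.beta α₀ y = 1 := by
    intro y hy
    obtain ⟨m, hm, c, hc, rfl, hmA, hcM⟩ := hdec y hy
    have cm : Commute α₀ m := h.commute_lift hα₀ hm (by
      rw [hfα]; exact hAcomm α hαA _ hmA)
    have cc : Commute α₀ c := h.commute_lift hα₀ hc (by rw [hfα]; exact hcM α hαA.2)
    refine ⟨cm.mul_right cc, ?_⟩
    have hbm : D.beta α₀ m = 1 := by
      obtain ⟨i, hi⟩ := (isOfFinOrder_of_finite α).mem_powers_iff_mem_zpowers.2 (hαgen _ hmA)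
      have : m = α₀ ^ i := h.modulo.inj P.2 hm (pow_mem hα₀ i) (by rw [map_pow, hfα]; exact hi.symm)
      rw [this, D.beta_pow (Commute.refl α₀), D.beta_self, one_pow]
    have hbc : D.beta c α₀ = 1 := h.modulo.beta_perfect D P.2 hc hα₀ cc.symm hM.perfect hcM
      (hfα ▸ hαA.2)
    have := D.beta_swap cc
    rw [hbc, mul_one] at this
    rw [D.beta_mul cm cc, hbm, this, one_mul]
  have := D.eq_one_of_beta_sylow P hα₀ (fun y hy => (key y hy).1) (fun y hy => (key y hy).2)
  exact hα1 (by rw [← hfα, this, map_one])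

include D in
/-- A good prime is impossible when the factor acts faithfully. -/
theorem Loc.faithful_false (h : Loc r f q Y N S) (hgood : Good r S) (hG : SmallSylows G)
    (hcent : centralizer (Y : Set W) ⊓ N.comap q ≤ Y) : False := by
  classical
  haveI := h.Yn
  haveI := h.Nn
  haveI := h.simple
  obtain ⟨P⟩ : Nonempty (Sylow r G) := inferInstance
  set P' := (h.sylow P : Sylow r W)
  have hYP : Y ≤ (P' : Subgroup W) := by
    obtain ⟨P₁, hP₁⟩ := h.Yp.exists_le_sylow
    obtain ⟨g, hg⟩ := MulAction.exists_smul_eq W P₁ P'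
    intro y hy
    rw [← hg, Sylow.coe_subgroup_smul]
    have hy' : g⁻¹ * y * g ∈ P₁ := hP₁ (by simpa using h.Yn.conj_mem y hy g⁻¹)
    have := Subgroup.smul_mem_pointwise_smul _ (MulAut.conj g) _ hy'
    simpa [mul_assoc] using this
  have h4 : Nat.card (P : Subgroup G) = r ^ 4 := by
    refine (comm_or_card D hG P).resolve_left fun hab => ?_
    have h1 : ¬ r ∣ (P' : Subgroup W).relIndex (N.comap q) := fun hd =>
      P'.not_dvd_index (hd.trans (relIndex_dvd_index _ _))
    apply h1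
    have hle : (P' : Subgroup W) ⊓ N.comap q ≤ q.ker := fun x hx => h.Yker (hcent (mem_inf.2 ⟨?_, hx.2⟩))
    · rw [← inf_relIndex_right, ← relIndex_mul_relIndex _ _ (N.comap q) hle
        (fun x hx => show q x ∈ N by rw [MonoidHom.mem_ker.1 hx]; exact one_mem N)]
      refine dvd_mul_of_dvd_right (hgood.dvd.trans ?_) _
      rw [← MonoidHom.comap_bot, relIndex_comap, map_comap_eq_self_of_surjective h.qsurj,
        relIndex_bot_left]
      exact card_dvd_of_le h.SN
    · refine mem_centralizer_iff.2 fun y hy => ?_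
      obtain ⟨y₀, hy₀, rfl⟩ := hYP hy
      obtain ⟨x₀, hx₀, rfl⟩ := hx.1
      rw [← map_mul, hab y₀ hy₀ x₀ hx₀, map_mul]
  have hcardP' : Nat.card (P' : Subgroup W) = r ^ 4 := (h.modulo.card_map P.2).trans h4
  have hY3 : Nat.card Y ∣ r ^ 3 := by
    obtain ⟨i, hi, hi'⟩ := (Nat.dvd_prime_pow hr.out).1
      ((Subgroup.card_dvd_of_le hYP).trans (dvd_of_eq hcardP'))
    refine hi' ▸ pow_dvd_pow r ?_
    by_contra hlt
    have hYeq : Y = (P' : Subgroup W) :=
      eq_of_le_of_card_ge hYP (by rw [hcardP', hi', show i = 4 by omega])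
    have h2 : ¬ r ∣ Y.index := hYeq ▸ P'.not_dvd_index
    apply h2
    have h3 : q.ker.index ∣ Y.index := index_dvd_of_le h.Yker
    refine (hgood.dvd.trans ?_).trans h3
    rw [Subgroup.index_ker, MonoidHom.range_eq_top.2 h.qsurj, Subgroup.card_top]
    exact Subgroup.card_subgroup_dvd_card S
  -- the action
  let L : Subgroup W := S.comap q
  let act : L →* MulAut Y := (MulAut.conjNormal (H := Y)).comp L.subtype
  let π : L →* S := (q.comp L.subtype).codRestrict S fun x => x.2
  have hπ : Function.Surjective π := fun s => by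
    obtain ⟨w, hw⟩ := h.qsurj s
    exact ⟨⟨w, show q w ∈ S by rw [hw]; exact s.2⟩, Subtype.ext hw⟩
  have hker : act.ker ≤ π.ker := fun l hl => MonoidHom.mem_ker.2 (Subtype.ext (by
    show q (l : W) = 1
    refine MonoidHom.mem_ker.1 (h.Yker (hcent (mem_inf.2 ⟨?_, show q (l : W) ∈ N from h.SN l.2⟩)))
    refine mem_centralizer_iff.2 fun y hy => ?_
    have h1 := congrArg Subtype.val (MulEquiv.congr_fun (MonoidHom.mem_ker.1 hl) ⟨y, hy⟩)
    have h2 : (l : W) * y * (l : W)⁻¹ = y := h1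
    exact (mul_inv_eq_iff_eq_mul.1 h2).symm))
  have hY2 : ¬ Nat.card Y ∣ r ^ 2 := fun h2 =>
    no_small_action hgood.odd h.nonab hgood.big h2 act π hπ hker
  haveI : Nontrivial Y := Finite.one_lt_card_iff_nontrivial.1 (by
    by_contra hle
    exact hY2 (by rw [show Nat.card Y = 1 by have := Nat.card_pos (α := Y); omega]; exact one_dvd _))
  have hYcard : Nat.card Y = r ^ 3 := by
    obtain ⟨i, hi, hi'⟩ := (Nat.dvd_prime_pow hr.out).1 hY3
    by_contra hne
    exact hY2 (hi' ▸ pow_dvd_pow r (by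
      by_contra hlt
      exact hne (by rw [hi', show i = 3 by omega])))
  have series := fun (T : Subgroup Y) (hc : T ≤ Subgroup.center Y) (h1 : T ≠ ⊥) (h2 : T ≠ ⊤)
      (hinv : ∀ l, ∀ t ∈ T, act l t ∈ T) =>
    no_series_action hgood.odd h.nonab hgood.big hY3 T hc h1 h2 act hinv π hπ hker
  have hcenY : Subgroup.center Y = ⊤ := by
    by_contra hne
    refine series _ le_rfl ?_ hne fun l t ht => mem_center_iff.2 fun y => ?_
    · haveI := h.Yp.center_nontrivial
      exact (Subgroup.nontrivial_iff_ne_bot _).1 inferInstance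
    · obtain ⟨y', rfl⟩ := (act l).surjective y
      rw [← map_mul, ← map_mul, mem_center_iff.1 ht y']
  have hYc : ∀ a b : Y, a * b = b * a := fun a b =>
    mem_center_iff.1 (hcenY ▸ mem_top b : b ∈ Subgroup.center Y) a
  let Ω : Subgroup Y :=
    { carrier := {y | y ^ r = 1}
      one_mem' := one_pow r
      mul_mem' := fun {a b} (ha : a ^ r = 1) (hb : b ^ r = 1) => show (a * b) ^ r = 1 by
        rw [(show Commute a b from hYc a b).mul_pow, ha, hb, one_mul]
      inv_mem' := fun {a} (ha : a ^ r = 1) => show a⁻¹ ^ r = 1 by rw [inv_pow, ha, inv_one] }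
  have hΩ : Ω = ⊤ := by
    by_contra hne
    refine series Ω (by rw [hcenY]; exact le_top) ?_ hne fun l t ht => ?_
    · obtain ⟨y, hy⟩ := exists_prime_orderOf_dvd_card' (G := Y) r (hYcard ▸ dvd_pow_self r three_ne_zero)
      intro e
      have : y ∈ Ω := show y ^ r = 1 by rw [← hy, pow_orderOf_eq_one]
      rw [e, mem_bot] at this
      rw [this, orderOf_one] at hy
      exact hr.out.ne_one hy.symm
    · show act l t ^ r = 1
      rw [← map_pow, show t ^ r = 1 from ht, map_one]
  have hexp : ∀ y : Y, y ^ r = 1 := fun y => (hΩ ▸ mem_top y : y ∈ Ω)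
  -- lift to the domain
  choose ℓ hℓP hℓ using fun y : Y => (hYP y.2 : (y : W) ∈ (P : Subgroup G).map f)
  have hℓmul : ∀ x y : Y, ℓ (x * y) = ℓ x * ℓ y := fun x y =>
    h.modulo.inj P.2 (hℓP _) (mul_mem (hℓP x) (hℓP y)) (by rw [map_mul, hℓ, hℓ, hℓ, Subgroup.coe_mul])
  let lift : Y →* G := MonoidHom.mk' ℓ hℓmul
  have hcl : ∀ x y, Commute (ℓ x) (ℓ y) := fun x y => by
    show ℓ x * ℓ y = ℓ y * ℓ x
    rw [← hℓmul, ← hℓmul, hYc]
  let Rad : Subgroup Y :=
    { carrier := {x | ∀ y, D.beta (ℓ x) (ℓ y) = 1}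
      one_mem' := fun y => by rw [show ℓ 1 = 1 from map_one lift, D.beta_one_left]
      mul_mem' := fun {a b} ha hb y => by
        rw [hℓmul, D.beta_mul_left (hcl a y) (hcl b y), ha y, hb y, one_mul]
      inv_mem' := fun {a} ha y => by
        have h1 := D.beta_mul_left (hcl a⁻¹ y) (hcl a y)
        rw [← hℓmul, inv_mul_cancel, show ℓ 1 = 1 from map_one lift, D.beta_one_left, ha y,
          mul_one] at h1
        exact h1.symm }
  have hpow : ∀ x y, D.beta (ℓ x) (ℓ y) ^ r = 1 := fun x y => by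
    rw [← D.beta_pow (hcl x y), show ℓ y ^ r = lift (y ^ r) from (map_pow lift y r).symm, hexp,
      map_one, D.beta_one_right]
  have hRad : Rad ≠ ⊥ := by
    obtain ⟨x, hx⟩ := exists_ne (1 : Y)
    intro hbot
    have hxR : x ∉ Rad := by rw [hbot, mem_bot]; exact hx
    obtain ⟨z, hz⟩ : ∃ z, D.beta (ℓ x) (ℓ z) ≠ 1 := by
      by_contra hall
      push Not at hall
      exact hxR hall
    let φ : Y → Y →* ℂˣ := fun w => MonoidHom.mk'
      (fun y => Units.mk0 (D.beta (ℓ w) (ℓ y)) (D.beta_ne_zero _ _))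
      (fun a b => Units.ext (by
        simp only [Units.val_mk0, Units.val_mul]
        rw [hℓmul, D.beta_mul (hcl w a) (hcl w b)]))
    set K := (φ x).ker
    have hzK : z ∉ K := fun hm => hz (congrArg Units.val (MonoidHom.mem_ker.1 hm))
    have hprim : IsPrimitiveRoot ((φ x z : ℂˣ) : ℂ) r :=
      IsPrimitiveRoot.iff_orderOf.2 (orderOf_eq_prime (hpow x z) hz)
    -- every value is a power of the value at `z`
    have hval : ∀ w y, ∃ i : ℕ, D.beta (ℓ x) (ℓ z) ^ i = D.beta (ℓ w) (ℓ y) := fun w y => by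
      obtain ⟨i, -, hi⟩ := hprim.eq_pow_of_pow_eq_one (hpow w y)
      exact ⟨i, hi⟩
    have hdec : ∀ y : Y, ∃ i : ℕ, ∃ k ∈ K, y = z ^ i * k := fun y => by
      obtain ⟨i, hi⟩ := hval x y
      refine ⟨i, (z ^ i)⁻¹ * y, MonoidHom.mem_ker.2 (Units.ext ?_), (mul_inv_cancel_left _ _).symm⟩
      have h1 : φ x z ^ i = φ x y := Units.ext (by rw [Units.val_pow_eq_pow_val]; exact hi)
      rw [map_mul, map_inv, map_pow, h1, inv_mul_cancel]
    -- an element of the kernel outside the powers of `x`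
    have hxK : x ∈ K := MonoidHom.mem_ker.2 (Units.ext (D.beta_self _))
    obtain ⟨y, hyK, hyx⟩ : ∃ y ∈ K, y ∉ zpowers x := by
      by_contra hall
      push Not at hall
      have hKx : K ≤ zpowers x := hall
      have hsurj : ∀ y : Y, ∃ i ∈ Finset.range r, ∃ j ∈ Finset.range r, y = z ^ i * x ^ j := by
        intro y
        obtain ⟨i, k, hk, rfl⟩ := hdec y
        obtain ⟨j, hj⟩ := (isOfFinOrder_of_finite x).mem_powers_iff_mem_zpowers.2 (hKx hk)
        refine ⟨i % r, Finset.mem_range.2 (Nat.mod_lt _ hr.out.pos), j % r,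
          Finset.mem_range.2 (Nat.mod_lt _ hr.out.pos), ?_⟩
        rw [← pow_eq_pow_mod i (hexp z), ← pow_eq_pow_mod j (hexp x)]
        exact congrArg _ hj.symm
      have hle : Nat.card Y ≤ r * r := by
        haveI := Fintype.ofFinite Y
        rw [Nat.card_eq_fintype_card, ← Finset.card_univ]
        refine (Finset.card_le_card (t := (Finset.range r ×ˢ Finset.range r).image
          fun ij => z ^ ij.1 * x ^ ij.2) fun y _ => ?_).trans (Finset.card_image_le.trans (by simp))
        obtain ⟨i, hi, j, hj, rfl⟩ := hsurj y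
        exact Finset.mem_image.2 ⟨(i, j), Finset.mem_product.2 ⟨hi, hj⟩, rfl⟩
      rw [hYcard] at hle
      have := hr.out.two_le
      nlinarith
    obtain ⟨i, hi⟩ := hval y z
    -- correct `y` by a power of `x`
    set y' := (x ^ i)⁻¹ * y with hy'
    have hy'z : D.beta (ℓ y') (ℓ z) = 1 := by
      have h1 := D.beta_mul_left (hcl (x ^ i) z) (hcl y' z)
      rw [← hℓmul, hy', mul_inv_cancel_left, ← hi, ← hy'] at h1
      have h2 : D.beta (ℓ (x ^ i)) (ℓ z) = D.beta (ℓ x) (ℓ z) ^ i := by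
        clear h1 hi hy'
        induction i with
        | zero => rw [pow_zero, pow_zero, show ℓ 1 = 1 from map_one lift, D.beta_one_left]
        | succ n ih =>
          rw [pow_succ, hℓmul, D.beta_mul_left (hcl _ z) (hcl _ z), ih, pow_succ]
      rw [h2] at h1
      exact mul_left_cancel₀ (pow_ne_zero _ (D.beta_ne_zero _ _)) (by rw [mul_one]; exact h1.symm)
    have hy'K : y' ∈ K := mul_mem (inv_mem (pow_mem hxK i)) hyK
    have hy'R : y' ∈ Rad := by
      intro w
      obtain ⟨j, k, hk, rfl⟩ := hdec w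
      have hzp : D.beta (ℓ y') (ℓ (z ^ j)) = 1 := by
        rw [show ℓ (z ^ j) = ℓ z ^ j from map_pow lift z j, D.beta_pow (hcl _ _), hy'z, one_pow]
      -- the kernel is generated by `x` and `y'`
      have hxy : ∀ k ∈ K, D.beta (ℓ y') (ℓ k) = 1 := by
        have hKle : K ≤ (φ y').ker := by
          have hxk : x ∈ (φ y').ker := MonoidHom.mem_ker.2 (Units.ext (by
            show D.beta (ℓ y') (ℓ x) = 1
            have h1 := D.beta_swap (hcl x y')
            rw [show D.beta (ℓ x) (ℓ y') = 1 from congrArg Units.val (MonoidHom.mem_ker.1 hy'K),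
              one_mul] at h1
            exact h1))
          have hyk : y' ∈ (φ y').ker := MonoidHom.mem_ker.2 (Units.ext (D.beta_self _))
          have hle : zpowers x ⊔ zpowers y' ≤ K := sup_le (zpowers_le.2 hxK) (zpowers_le.2 hy'K)
          suffices K ≤ zpowers x ⊔ zpowers y' from
            this.trans (sup_le (zpowers_le.2 hxk) (zpowers_le.2 hyk))
          have hord : ∀ w : Y, w ≠ 1 → orderOf w = r := fun w hw => orderOf_eq_prime (hexp w) hw
          have hy'x : y' ∉ zpowers x := fun hm => hyx (by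
            have := mul_mem (pow_mem (mem_zpowers x) i) hm
            rwa [hy', mul_inv_cancel_left] at this)
          have hdis : zpowers x ⊓ zpowers y' = ⊥ := by
            rw [eq_bot_iff]
            intro w hw
            by_contra hw1
            have h1 : zpowers w = zpowers y' := eq_of_le_of_card_ge (zpowers_le.2 hw.2) (by
              rw [Nat.card_zpowers, Nat.card_zpowers, hord w hw1,
                hord y' fun e => hy'x (e ▸ one_mem _)])
            exact hy'x (zpowers_le.2 hw.1 (h1 ▸ mem_zpowers y'))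
          have hcard := (card_sup (A := zpowers x) (B := zpowers y')
            (fun a _ b _ => hYc a b) hdis).1
          rw [Nat.card_zpowers, Nat.card_zpowers, hord x hx,
            hord y' fun e => hy'x (e ▸ one_mem _)] at hcard
          refine (eq_of_le_of_card_ge hle ?_).ge
          rw [hcard]
          by_contra hgt
          push Not at hgt
          obtain ⟨l, hl, hl'⟩ := (Nat.dvd_prime_pow hr.out).1
            ((Subgroup.card_subgroup_dvd_card K).trans (dvd_of_eq hYcard))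
          have hK3 : l = 3 := by
            by_contra hne
            have : r ^ l ≤ r ^ 2 := Nat.pow_le_pow_right hr.out.pos (by omega)
            rw [← hl', sq] at this
            omega
          exact hzK ((Subgroup.eq_top_of_card_eq K (by rw [hl', hK3, hYcard])).symm ▸ mem_top z)
        exact fun k hk => congrArg Units.val (MonoidHom.mem_ker.1 (hKle hk))
      rw [hℓmul (z ^ j) k, D.beta_mul (hcl _ _) (hcl _ _), hzp, hxy k hk, one_mul]
    rw [hbot, mem_bot] at hy'R
    refine hyx ?_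
    rw [hy', inv_mul_eq_one] at hy'R
    exact hy'R ▸ pow_mem (mem_zpowers x) i
  have hinvRad : ∀ l, ∀ t ∈ Rad, act l t ∈ Rad := by
    intro l t ht y
    obtain ⟨y', rfl⟩ := (act l).surjective y
    rw [h.modulo.beta_fused D P.2 (hℓP t) (hℓP y') (hℓP _) (hℓP _) (hcl t y') (w := (l : W))
      (by rw [hℓ, hℓ]; rfl) (by rw [hℓ, hℓ]; rfl)]
    exact ht y'
  by_cases htop : Rad = ⊤
  · refine not_cube_dvd D h4 ?_
    have hinj : Function.Injective lift := fun a b hab => Subtype.ext (by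
      rw [← hℓ a, ← hℓ b]
      exact congrArg f hab)
    rw [← hYcard, Nat.card_congr (MonoidHom.ofInjective hinj).toEquiv]
    refine D.card_dvd_of_isotropic _ ?_ ?_
    · rintro _ ⟨a, rfl⟩ _ ⟨b, rfl⟩; exact hcl a b
    · rintro _ ⟨a, rfl⟩ _ ⟨b, rfl⟩; exact (htop ▸ mem_top a : a ∈ Rad) b
  · exact series Rad (by rw [hcenY]; exact le_top) hRad htop hinvRad

include D in
/-- A good prime is impossible. -/
theorem Loc.good_false (h : Loc r f q Y N S) (hgood : Good r S) (hG : SmallSylows G) : False := by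
  haveI := h.Yn
  rcases h.dichotomy with hc | hf
  · have hab : ∀ U : Subgroup W, U ≤ centralizer (Y : Set W) ⊓ S.comap q → IsPGroup r U →
        IsMulCommutative U := by
      intro U hU hUp
      let φ : U →* S := (q.comp U.subtype).codRestrict S fun x => (hU x.2).2
      haveI := hgood.cyclic φ.range (hUp.of_surjective φ.rangeRestrict φ.rangeRestrict_surjective)
      haveI : φ.rangeRestrict.range.FiniteIndex := inferInstance
      exact ⟨⟨commutative_of_cyclic_center_quotient φ.rangeRestrict fun u hu => by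
        rw [MonoidHom.ker_rangeRestrict, MonoidHom.mem_ker] at hu
        have hq : q (u : W) = 1 := congrArg Subtype.val hu
        have huY : (u : W) ∈ Y := h.Ycent (mem_inf.2 ⟨hq, (hU u.2).1⟩)
        exact mem_center_iff.2 fun v => Subtype.ext
          (mem_centralizer_iff.1 (hU v.2).1 u huY).symm⟩⟩
    obtain ⟨M, hM⟩ := h.exists_comp hc hab
    exact hM.good_false D h hgood hG
  · exact h.faithful_false D hgood hG hf

end Cfsg.Agent.Lib.CentralType79
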