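import Cfsg.Agent.Lib.CentralType79.Proj
import Mathlib.GroupTheory.Sylow
import Mathlib.GroupTheory.Commutator.Basic
import Mathlib.RingTheory.IntegralDomain

/-!
# The commutator pairing of a projective representation of central type (helper79)
-/

set_option autoImplicit false
set_option linter.style.haveILetI false
set_option linter.unusedSectionVars false

namespace Cfsg.Agent.Lib.CentralType79

universe u

variable {G : Type u} [Group G] [Finite G] (D : PData G)

namespace PData

theorem e_pos : 0 < D.e := by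
  refine Nat.pos_of_ne_zero fun h => ?_
  have := D.card
  rw [h, zero_pow two_ne_zero] at this
  exact Nat.card_pos.ne' this

theorem mat_one_ne_zero : (1 : Matrix (Fin D.e) (Fin D.e) ℂ) ≠ 0 := by
  intro h
  have := congrFun (congrFun h ⟨0, D.e_pos⟩) ⟨0, D.e_pos⟩
  simp at this

theorem isUnit_A (g : G) : IsUnit (D.A g) := by
  obtain ⟨c, hc, h1⟩ := D.mul g g⁻¹
  rw [mul_inv_cancel, D.one] at h1
  rw [Matrix.isUnit_iff_isUnit_det]
  refine Matrix.isUnit_det_of_right_inverse (B := c⁻¹ • D.A g⁻¹) ?_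
  rw [mul_smul_comm, h1, smul_smul, inv_mul_cancel₀ hc, one_smul]

/-- The value at `g` as a unit. -/
noncomputable def U (g : G) : (Matrix (Fin D.e) (Fin D.e) ℂ)ˣ := (D.isUnit_A g).unit

theorem coe_U (g : G) : (↑(D.U g) : Matrix (Fin D.e) (Fin D.e) ℂ) = D.A g := IsUnit.unit_spec _

/-- The inverse of the value at `g`. -/
noncomputable def V (g : G) : Matrix (Fin D.e) (Fin D.e) ℂ := ↑(D.U g)⁻¹

theorem A_mul_V (g : G) : D.A g * D.V g = 1 := by
  rw [V, ← coe_U, Units.mul_inv]

theorem V_mul_A (g : G) : D.V g * D.A g = 1 := by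
  rw [V, ← coe_U, Units.inv_mul]

theorem V_eq {g : G} {Y : Matrix (Fin D.e) (Fin D.e) ℂ} (h : D.A g * Y = 1) : D.V g = Y := by
  rw [← one_mul Y, ← D.V_mul_A g, mul_assoc, h, mul_one]

theorem A_ne_zero (g : G) : D.A g ≠ 0 := fun h => D.mat_one_ne_zero (by
  have := (D.U g).mul_inv
  rw [coe_U, h, zero_mul] at this
  exact this.symm)

theorem A_mul_ne_zero (x y : G) : D.A x * D.A y ≠ 0 := by
  obtain ⟨c, hc, h⟩ := D.mul x y
  rw [h]
  exact smul_ne_zero hc (D.A_ne_zero _)

/-- The cocycle. -/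
noncomputable def cocycle (x y : G) : ℂ := (D.mul x y).choose

theorem cocycle_ne_zero (x y : G) : D.cocycle x y ≠ 0 := (D.mul x y).choose_spec.1

theorem mul_eq (x y : G) : D.A x * D.A y = D.cocycle x y • D.A (x * y) := (D.mul x y).choose_spec.2

theorem V_smul (g : G) : ∃ c : ℂ, c ≠ 0 ∧ D.V g = c • D.A g⁻¹ := by
  refine ⟨(D.cocycle g g⁻¹)⁻¹, inv_ne_zero (D.cocycle_ne_zero _ _), D.V_eq ?_⟩
  rw [mul_smul_comm, D.mul_eq, mul_inv_cancel, D.one, smul_smul,
    inv_mul_cancel₀ (D.cocycle_ne_zero _ _), one_smul]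

theorem A_conj (g w : G) :
    ∃ k : ℂ, k ≠ 0 ∧ D.A (g * w * g⁻¹) = k • (D.A g * D.A w * D.V g) := by
  obtain ⟨c, hc, hinv⟩ := D.V_smul g
  have ha := D.cocycle_ne_zero g w
  have hb := D.cocycle_ne_zero (g * w) g⁻¹
  refine ⟨c⁻¹ * ((D.cocycle g w)⁻¹ * (D.cocycle (g * w) g⁻¹)⁻¹),
    mul_ne_zero (inv_ne_zero hc) (mul_ne_zero (inv_ne_zero ha) (inv_ne_zero hb)), ?_⟩
  rw [hinv, D.mul_eq g w, smul_mul_assoc, mul_smul_comm, D.mul_eq (g * w), smul_smul,
    smul_smul, smul_smul]
  conv_lhs => rw [← one_smul ℂ (D.A (g * w * g⁻¹))]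
  congr 1
  field_simp

/-- The scalar by which the values at `x` and `y` commute. -/
noncomputable def beta (x y : G) : ℂ := D.cocycle x y / D.cocycle y x

theorem beta_ne_zero (x y : G) : D.beta x y ≠ 0 :=
  div_ne_zero (D.cocycle_ne_zero x y) (D.cocycle_ne_zero y x)

theorem beta_spec {x y : G} (h : Commute x y) :
    D.A x * D.A y = D.beta x y • (D.A y * D.A x) := by
  rw [D.mul_eq x y, D.mul_eq y x, smul_smul, beta, div_mul_cancel₀ _ (D.cocycle_ne_zero y x)]
  exact congrArg (fun w => D.cocycle x y • D.A w) h.eq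

theorem beta_eq {x y : G} (h : Commute x y) {b : ℂ}
    (hb : D.A x * D.A y = b • (D.A y * D.A x)) : D.beta x y = b :=
  smul_left_injective ℂ (D.A_mul_ne_zero y x) ((D.beta_spec h).symm.trans hb)

theorem beta_swap {x y : G} (h : Commute x y) : D.beta x y * D.beta y x = 1 := by
  have h1 := D.beta_spec h
  rw [D.beta_spec h.symm, smul_smul] at h1
  exact (smul_left_injective ℂ (D.A_mul_ne_zero x y)
    (by simpa using h1.symm : (D.beta x y * D.beta y x) • (D.A x * D.A y) = (1 : ℂ) • (D.A x * D.A y)))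

theorem beta_self (x : G) : D.beta x x = 1 :=
  D.beta_eq (Commute.refl x) (one_smul ℂ _).symm

theorem beta_one_right (x : G) : D.beta x 1 = 1 :=
  D.beta_eq (Commute.one_right x) (by rw [D.one, one_mul, mul_one, one_smul])

theorem beta_mul {x y z : G} (hy : Commute x y) (hz : Commute x z) :
    D.beta x (y * z) = D.beta x y * D.beta x z := by
  refine D.beta_eq (hy.mul_right hz) ?_
  obtain ⟨c, hc, h⟩ := D.mul y z
  have hA : D.A (y * z) = c⁻¹ • (D.A y * D.A z) := by
    rw [h, smul_smul, inv_mul_cancel₀ hc, one_smul]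
  rw [hA, mul_smul_comm, ← mul_assoc, D.beta_spec hy, smul_mul_assoc, mul_assoc, D.beta_spec hz,
    mul_smul_comm, ← mul_assoc, smul_mul_assoc, smul_smul, smul_smul, smul_smul]
  congr 1
  ring

theorem beta_one_left (x : G) : D.beta 1 x = 1 :=
  D.beta_eq (Commute.one_left x) (by rw [D.one, one_mul, mul_one, one_smul])

theorem beta_mul_left {x y z : G} (hx : Commute x z) (hy : Commute y z) :
    D.beta (x * y) z = D.beta x z * D.beta y z := by
  have h1 := D.beta_swap (hx.mul_left hy)
  rw [D.beta_mul hx.symm hy.symm] at h1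
  have h2 := D.beta_swap hx
  have h3 := D.beta_swap hy
  calc D.beta (x * y) z
      = D.beta (x * y) z * (D.beta x z * D.beta z x) * (D.beta y z * D.beta z y) := by
        rw [h2, h3, mul_one, mul_one]
    _ = D.beta x z * D.beta y z * (D.beta (x * y) z * (D.beta z x * D.beta z y)) := by ring
    _ = _ := by rw [h1, mul_one]

theorem beta_conj {x y : G} (g : G) (h : Commute x y) :
    D.beta (g * x * g⁻¹) (g * y * g⁻¹) = D.beta x y := by
  obtain ⟨k, -, hk1⟩ := D.A_conj g x
  obtain ⟨l, -, hl1⟩ := D.A_conj g y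
  refine D.beta_eq ?_ ?_
  · show g * x * g⁻¹ * (g * y * g⁻¹) = g * y * g⁻¹ * (g * x * g⁻¹)
    calc g * x * g⁻¹ * (g * y * g⁻¹) = g * (x * y) * g⁻¹ := by group
      _ = g * (y * x) * g⁻¹ := by rw [h.eq]
      _ = _ := by group
  rw [hk1, hl1]
  have hcancel : ∀ X Y : Matrix (Fin D.e) (Fin D.e) ℂ,
      D.A g * X * D.V g * (D.A g * Y * D.V g) = D.A g * (X * Y) * D.V g := fun X Y => by
    calc D.A g * X * D.V g * (D.A g * Y * D.V g)
        = D.A g * X * (D.V g * D.A g) * Y * D.V g := by simp only [mul_assoc]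
      _ = _ := by rw [D.V_mul_A, mul_one]; simp only [mul_assoc]
  simp only [smul_mul_assoc, mul_smul_comm, smul_smul, hcancel]
  rw [D.beta_spec h]
  simp only [smul_mul_assoc, mul_smul_comm, smul_smul]
  congr 1
  ring

theorem beta_pow {x y : G} (h : Commute x y) (n : ℕ) : D.beta x (y ^ n) = D.beta x y ^ n := by
  induction n with
  | zero => rw [pow_zero, pow_zero, D.beta_one_right]
  | succ n ih => rw [pow_succ, D.beta_mul (h.pow_right n) h, ih, pow_succ]

theorem beta_pow_orderOf_right {x y : G} (h : Commute x y) : D.beta x y ^ orderOf y = 1 := by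
  rw [← D.beta_pow h, pow_orderOf_eq_one, D.beta_one_right]

theorem beta_pow_orderOf_left {x y : G} (h : Commute x y) : D.beta x y ^ orderOf x = 1 := by
  have h1 := D.beta_pow_orderOf_right h.symm
  have h2 : (D.beta x y * D.beta y x) ^ orderOf x = 1 := by rw [D.beta_swap h, one_pow]
  rwa [mul_pow, h1, mul_one] at h2

theorem beta_coprime {x y : G} (h : Commute x y) (hc : (orderOf x).Coprime (orderOf y)) :
    D.beta x y = 1 :=
  orderOf_eq_one_iff.1 (Nat.eq_one_of_dvd_coprimes hc
    (orderOf_dvd_of_pow_eq_one (D.beta_pow_orderOf_left h))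
    (orderOf_dvd_of_pow_eq_one (D.beta_pow_orderOf_right h)))

theorem commute_of_mem_centralizer {x : G} (y : Subgroup.centralizer ({x} : Set G)) :
    Commute x (y : G) := (Subgroup.mem_centralizer_singleton_iff.1 y.2).symm

/-- The pairing with `x` on its centraliser. -/
noncomputable def betaHom (x : G) : Subgroup.centralizer ({x} : Set G) →* ℂˣ where
  toFun y := Units.mk0 (D.beta x y) (D.beta_ne_zero x y)
  map_one' := Units.ext (D.beta_one_right x)
  map_mul' y z := Units.ext (D.beta_mul (commute_of_mem_centralizer y) (commute_of_mem_centralizer z))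

theorem coe_betaHom (x : G) (y : Subgroup.centralizer ({x} : Set G)) :
    (D.betaHom x y : ℂ) = D.beta x y := rfl

theorem beta_commutator {x y : G}
    (hy : y ∈ ⁅Subgroup.centralizer ({x} : Set G), Subgroup.centralizer ({x} : Set G)⁆) :
    D.beta x y = 1 := by
  rw [← Subgroup.map_subtype_commutator] at hy
  obtain ⟨y, hy, rfl⟩ := hy
  have := Abelianization.commutator_subset_ker (D.betaHom x) hy
  exact congrArg Units.val (MonoidHom.mem_ker.1 this)

/-- The span of the values is everything. -/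
theorem span_eq_top : Submodule.span ℂ (Set.range D.A) = ⊤ := by
  classical
  haveI := Fintype.ofFinite G
  have hli : LinearIndependent ℂ D.A := by
    rw [Fintype.linearIndependent_iff]
    intro k hk h
    have := congrArg (fun X => (X * D.A h⁻¹).trace) hk
    simp only [Finset.sum_mul, smul_mul_assoc, Matrix.trace_sum, Matrix.trace_smul, zero_mul,
      Matrix.trace_zero] at this
    rw [Finset.sum_eq_single h (fun g _ hg => ?_) (fun hh => absurd (Finset.mem_univ h) hh)] at this
    · obtain ⟨c, hc, hc'⟩ := D.mul h h⁻¹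
      rw [hc', mul_inv_cancel, D.one, Matrix.trace_smul, Matrix.trace_one, smul_eq_mul,
        smul_eq_mul, Fintype.card_fin, mul_eq_zero, mul_eq_zero] at this
      exact this.resolve_right fun e => e.elim hc (Nat.cast_ne_zero.2 D.e_pos.ne')
    · obtain ⟨c, -, hc'⟩ := D.mul g h⁻¹
      rw [hc', Matrix.trace_smul, D.trace_zero _ (fun e => hg (mul_inv_eq_one.1 e)), smul_zero,
        smul_zero]
  refine hli.span_eq_top_of_card_eq_finrank' ?_
  rw [Module.finrank_matrix, Fintype.card_fin, Module.finrank_self, mul_one,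
    ← Nat.card_eq_fintype_card, D.card, sq]

/-- No element other than the identity pairs trivially with its whole centraliser. -/
theorem eq_one_of_beta_centralizer {x : G} (h : ∀ y, Commute x y → D.beta x y = 1) : x = 1 := by
  classical
  by_contra hx
  haveI := Fintype.ofFinite G
  let M : Matrix (Fin D.e) (Fin D.e) ℂ := ∑ g : G, D.A g * D.A x * D.V g
  have hconjA : ∀ a : G, D.A a * M * D.V a = M := by
    intro a
    simp only [M, Finset.mul_sum, Finset.sum_mul]
    refine Fintype.sum_equiv (Equiv.mulLeft a) _ _ fun g => ?_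
    have hc := D.cocycle_ne_zero a g
    have hV : D.V g * D.V a = (D.cocycle a g)⁻¹ • D.V (a * g) := by
      have h1 : D.A a * D.A g * (D.V g * D.V a) = 1 := by
        rw [mul_assoc, ← mul_assoc (D.A g), D.A_mul_V, one_mul, D.A_mul_V]
      rw [D.mul_eq, smul_mul_assoc] at h1
      have h2 := D.V_eq (g := a * g) (Y := D.cocycle a g • (D.V g * D.V a))
        (by rw [mul_smul_comm, h1])
      rw [h2, smul_smul, inv_mul_cancel₀ hc, one_smul]
    simp only [Equiv.coe_mulLeft]
    calc D.A a * (D.A g * D.A x * D.V g) * D.V a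
        = (D.A a * D.A g) * D.A x * (D.V g * D.V a) := by simp only [mul_assoc]
      _ = _ := by rw [D.mul_eq, hV, smul_mul_assoc, smul_mul_assoc, mul_smul_comm, smul_smul,
        mul_inv_cancel₀ hc, one_smul]
  have hall : ∀ X : Matrix (Fin D.e) (Fin D.e) ℂ, X * M = M * X := by
    intro X
    have hX : X ∈ Submodule.span ℂ (Set.range D.A) := D.span_eq_top ▸ Submodule.mem_top
    induction hX using Submodule.span_induction with
    | mem X hX =>
      obtain ⟨a, rfl⟩ := hX
      conv_rhs => rw [← hconjA a]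
      rw [mul_assoc _ (D.V a), D.V_mul_A, mul_one]
    | zero => rw [zero_mul, mul_zero]
    | add X Y _ _ hX hY => rw [add_mul, mul_add, hX, hY]
    | smul c X _ hX => rw [smul_mul_assoc, mul_smul_comm, hX]
  obtain ⟨s, hs⟩ := Matrix.mem_range_scalar_iff_commute_single'.2 fun i j => hall _
  have htrM : M.trace = 0 := by
    simp only [M, Matrix.trace_sum]
    refine Finset.sum_eq_zero fun g _ => ?_
    rw [Matrix.trace_mul_cycle, D.V_mul_A, one_mul, D.trace_zero x hx]
  have hM0 : M = 0 := by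
    rw [← hs] at htrM ⊢
    rw [Matrix.scalar_apply, Matrix.trace_diagonal, Finset.sum_const, Finset.card_univ,
      Fintype.card_fin, nsmul_eq_mul, mul_eq_zero] at htrM
    rw [htrM.resolve_left (Nat.cast_ne_zero.2 D.e_pos.ne'), map_zero]
  have hterm : ∀ g : G, (D.A g * D.A x * D.V g * D.V x).trace =
      if Commute x g then (D.e : ℂ) else 0 := by
    intro g
    by_cases hg : Commute x g
    · rw [if_pos hg]
      have h1 := D.beta_spec hg
      rw [h g hg, one_smul] at h1
      rw [← h1, mul_assoc (D.A x) (D.A g), D.A_mul_V, mul_one, D.A_mul_V,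
        Matrix.trace_one, Fintype.card_fin]
    · rw [if_neg hg]
      obtain ⟨k, hk, hk'⟩ := D.A_conj g x
      obtain ⟨d, hd, hd'⟩ := D.V_smul x
      have h1 : D.A g * D.A x * D.V g = k⁻¹ • D.A (g * x * g⁻¹) := by
        rw [hk', smul_smul, inv_mul_cancel₀ hk, one_smul]
      rw [h1, hd', smul_mul_assoc, mul_smul_comm, D.mul_eq, Matrix.trace_smul, Matrix.trace_smul,
        Matrix.trace_smul,
        D.trace_zero _ fun e => hg (show x * g = g * x from
          (mul_inv_eq_iff_eq_mul.1 (mul_inv_eq_one.1 e)).symm), smul_zero, smul_zero, smul_zero]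
  have h0 : (M * D.V x).trace = 0 := by rw [hM0, zero_mul, Matrix.trace_zero]
  simp only [M, Finset.sum_mul, Matrix.trace_sum, hterm] at h0
  rw [Finset.sum_ite, Finset.sum_const, Finset.sum_const_zero, add_zero, nsmul_eq_mul,
    mul_eq_zero, Nat.cast_eq_zero, Finset.card_eq_zero] at h0
  rcases h0 with h0 | h0
  · exact Finset.notMem_empty (1 : G) (h0 ▸ Finset.mem_filter.2
      ⟨Finset.mem_univ 1, Commute.one_right x⟩)
  · exact D.e_pos.ne' (Nat.cast_eq_zero.1 h0)

/-- B2: a central element of a Sylow subgroup pairing trivially with it is the identity. -/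
theorem eq_one_of_beta_sylow {p : ℕ} [hp : Fact p.Prime] (P : Sylow p G) {x : G}
    (hx : x ∈ (P : Subgroup G)) (hc : ∀ y ∈ (P : Subgroup G), Commute x y)
    (hb : ∀ y ∈ (P : Subgroup G), D.beta x y = 1) : x = 1 := by
  refine D.eq_one_of_beta_centralizer fun y hy => ?_
  set C := Subgroup.centralizer ({x} : Set G)
  obtain ⟨k, hk⟩ := IsPGroup.iff_orderOf.1 P.2 ⟨x, hx⟩
  rw [Subgroup.orderOf_mk] at hk
  have hPC : (P : Subgroup G) ≤ C := fun z hz =>
    Subgroup.mem_centralizer_singleton_iff.2 (hc z hz).symm.eq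
  have hker : (P : Subgroup G).subgroupOf C ≤ (D.betaHom x).ker := fun z hz =>
    MonoidHom.mem_ker.2 (Units.ext (hb z hz))
  have hidx : ¬ p ∣ ((P : Subgroup G).subgroupOf C).index := fun h =>
    P.not_dvd_index (h.trans (Dvd.intro _ (Subgroup.relIndex_mul_index hPC)))
  have hrange : IsPGroup p (D.betaHom x).range := by
    rintro ⟨_, z, rfl⟩
    refine ⟨k, Subtype.ext (Units.ext ?_)⟩
    show (D.betaHom x z : ℂ) ^ p ^ k = 1
    rw [coe_betaHom, ← hk, D.beta_pow_orderOf_left (commute_of_mem_centralizer z)]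
  haveI : Finite (D.betaHom x).range := Finite.of_surjective _ (D.betaHom x).rangeRestrict_surjective
  obtain ⟨j, hj⟩ := IsPGroup.iff_card.1 hrange
  have hdvd : Nat.card (D.betaHom x).range ∣ ((P : Subgroup G).subgroupOf C).index := by
    rw [← Subgroup.index_ker]
    exact Subgroup.index_dvd_of_le hker
  have hj0 : j = 0 := by
    by_contra hne
    exact hidx ((dvd_pow_self p hne).trans (hj ▸ hdvd))
  rw [hj0, pow_zero, Subgroup.card_eq_one, MonoidHom.range_eq_bot_iff] at hj
  have := DFunLike.congr_fun hj ⟨y, Subgroup.mem_centralizer_singleton_iff.2 hy.symm.eq⟩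
  exact congrArg Units.val this

theorem exists_common_eigen {n : ℕ} (hn : 0 < n) {ι : Type u} (f : ι → Module.End ℂ (Fin n → ℂ))
    (hf : ∀ i j, f i * f j = f j * f i) :
    ∃ v : Fin n → ℂ, v ≠ 0 ∧ ∀ i, ∃ a : ℂ, f i v = a • v := by
  classical
  let P : ℕ → Prop := fun k => ∃ V : Submodule ℂ (Fin n → ℂ),
    V ≠ ⊥ ∧ (∀ i, ∀ v ∈ V, f i v ∈ V) ∧ Module.finrank ℂ V = k
  haveI : Nontrivial (Fin n → ℂ) := Module.nontrivial_of_finrank_pos
    (R := ℂ) (by rw [Module.finrank_fin_fun]; exact hn)
  have hP : ∃ k, P k := ⟨_, ⊤, top_ne_bot, fun _ _ _ => Submodule.mem_top, rfl⟩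
  obtain ⟨V, hV, hinv, hdim⟩ := Nat.find_spec hP
  obtain ⟨v, hv, hv0⟩ := Submodule.exists_mem_ne_zero_of_ne_bot hV
  refine ⟨v, hv0, fun i => ?_⟩
  haveI : Nontrivial V := Submodule.nontrivial_iff_ne_bot.2 hV
  obtain ⟨a, ha⟩ := Module.End.exists_eigenvalue ((f i).restrict (hinv i))
  obtain ⟨w, hw⟩ := ha.exists_hasEigenvector
  let W : Submodule ℂ (Fin n → ℂ) := V ⊓ LinearMap.ker (f i - a • 1)
  have hwW : (w : Fin n → ℂ) ∈ W := by
    refine ⟨w.2, ?_⟩
    have := congrArg Subtype.val hw.apply_eq_smul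
    simp only [SetLike.mem_coe, LinearMap.mem_ker, LinearMap.sub_apply, LinearMap.smul_apply,
      Module.End.one_apply, sub_eq_zero]
    exact this
  have hW0 : W ≠ ⊥ := fun e => hw.2 (Subtype.ext ((Submodule.mem_bot ℂ).1 (e ▸ hwW)))
  have hWinv : ∀ j, ∀ u ∈ W, f j u ∈ W := by
    intro j u hu
    refine ⟨hinv j u hu.1, ?_⟩
    have h1 : f i u = a • u := by
      have := hu.2
      simpa [sub_eq_zero] using this
    simp only [SetLike.mem_coe, LinearMap.mem_ker, LinearMap.sub_apply, LinearMap.smul_apply,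
      Module.End.one_apply, sub_eq_zero]
    calc f i (f j u) = f j (f i u) := LinearMap.congr_fun (hf i j) u
      _ = a • f j u := by rw [h1, map_smul]
  have hWV : W = V := by
    refine Submodule.eq_of_le_of_finrank_le inf_le_left ?_
    rw [hdim]
    exact Nat.find_min' hP ⟨W, hW0, hWinv, rfl⟩
  have := ((hWV ▸ hv : v ∈ W)).2
  exact ⟨a, by simpa [sub_eq_zero] using this⟩

/-- B3: the order of an isotropic abelian subgroup divides the degree. -/
theorem card_dvd_of_isotropic (B : Subgroup G) (hab : ∀ x ∈ B, ∀ y ∈ B, Commute x y)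
    (hiso : ∀ x ∈ B, ∀ y ∈ B, D.beta x y = 1) : Nat.card B ∣ D.e := by
  classical
  haveI := Fintype.ofFinite B
  let f : B → Module.End ℂ (Fin D.e → ℂ) := fun x => Matrix.toLinAlgEquiv' (D.A x)
  have hf : ∀ x y, f x * f y = f y * f x := fun x y => by
    simp only [f, ← map_mul]
    congr 1
    rw [D.beta_spec (hab x x.2 y y.2), hiso x x.2 y y.2, one_smul]
  obtain ⟨v, hv, hev⟩ := exists_common_eigen D.e_pos f hf
  choose a ha using hev
  have hane : ∀ x, a x ≠ 0 := by
    intro x e
    have hu : IsUnit (f x) := (D.isUnit_A (x : G)).map Matrix.toLinAlgEquiv'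
    have h1 : f x v = f x 0 := by rw [ha, e, zero_smul, map_zero]
    exact hv (((Module.End.isUnit_iff _).1 hu).1 h1)
  have hmul : ∀ x y : B, ((a x)⁻¹ • f x) * ((a y)⁻¹ • f y) = (a (x * y))⁻¹ • f (x * y) := by
    intro x y
    obtain ⟨c, hc, hc'⟩ := D.mul x y
    have hfc : f x * f y = c • f (x * y) := by
      simp only [f, ← map_mul, hc', map_smul, Subgroup.coe_mul]
    have hac : a x * a y = c * a (x * y) := by
      have h1 := LinearMap.congr_fun hfc v
      rw [Module.End.mul_apply, ha, map_smul, ha, LinearMap.smul_apply, ha, smul_smul,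
        smul_smul] at h1
      rw [← smul_left_injective ℂ hv h1, mul_comm]
    rw [smul_mul_assoc, mul_smul_comm, hfc, smul_smul, smul_smul]
    congr 1
    rw [← mul_inv, hac, mul_inv, mul_comm, ← mul_assoc, mul_inv_cancel₀ hc, one_mul]
  have h1 : (a 1)⁻¹ • f 1 = 1 := by
    have hf1 : f 1 = 1 := by simp only [f, OneMemClass.coe_one, D.one, map_one]
    have := ha 1
    rw [hf1, Module.End.one_apply] at this
    have h2 : a 1 = 1 := smul_left_injective ℂ hv (by simpa using this.symm)
    rw [h2, inv_one, one_smul, hf1]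
  let ρ : Representation ℂ B (Fin D.e → ℂ) :=
    { toFun := fun x => (a x)⁻¹ • f x
      map_one' := h1
      map_mul' := fun x y => (hmul x y).symm }
  have htr : ∀ x : B, ρ.character x = if x = 1 then (D.e : ℂ) else 0 := by
    intro x
    by_cases hx : x = 1
    · subst hx
      rw [if_pos rfl, Representation.char_one, Module.finrank_fin_fun]
    · rw [if_neg hx]
      show LinearMap.trace ℂ _ ((a x)⁻¹ • Matrix.toLinAlgEquiv' (D.A x)) = 0
      rw [map_smul, show LinearMap.trace ℂ _ (Matrix.toLinAlgEquiv' (D.A (x : G))) = (D.A x).trace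
        from Matrix.trace_toLin'_eq (D.A (x : G)), D.trace_zero _ fun e => hx (Subtype.ext e),
        smul_zero]
  haveI : Invertible (Nat.card B : ℂ) := invertibleOfNonzero (Nat.cast_ne_zero.2 Nat.card_pos.ne')
  have h := Representation.card_inv_mul_sum_char_eq_finrank ρ
  simp only [htr, Finset.sum_ite_eq', Finset.mem_univ, if_true] at h
  rw [inv_mul_eq_iff_eq_mul₀ (Nat.cast_ne_zero.2 Nat.card_pos.ne')] at h
  exact ⟨_, Nat.cast_injective (R := ℂ) (by rw [h, Nat.cast_mul])⟩

end PData

end Cfsg.Agent.Lib.CentralType79
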