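import Cfsg.Agent.Lib.BC78.Parity.Fourier
import Cfsg.Agent.Lib.BC78.Ramified
import Cfsg.Agent.Lib.Clifford.Extension

/-!
# The projective representation of the quotient at a fully ramified character (helper79)
-/

set_option autoImplicit false
set_option linter.style.haveILetI false
set_option linter.unusedSectionVars false
set_option maxSynthPendingDepth 4

namespace Cfsg.Agent.Lib.CentralType79

open Cfsg.Agent.Lib.Clifford Cfsg.Agent.Lib.BC78.Parity

universe u v

/-- A projective representation with traces zero off the identity and degree the square root of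
the order. -/
structure PData (G : Type u) [Group G] where
  e : ℕ
  A : G → Matrix (Fin e) (Fin e) ℂ
  one : A 1 = 1
  mul : ∀ x y, ∃ c : ℂ, c ≠ 0 ∧ A x * A y = c • A (x * y)
  trace_zero : ∀ x, x ≠ 1 → (A x).trace = 0
  card : Nat.card G = e ^ 2

section blocks

variable {W : Type v} [AddCommGroup W] [Module ℂ W] [FiniteDimensional ℂ W] {m : ℕ}

/-- The endomorphism of `m` copies given by a matrix and an endomorphism. -/
def blk (A : Matrix (Fin m) (Fin m) ℂ) (T : Module.End ℂ W) : Module.End ℂ (Fin m → W) :=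
  LinearMap.pi fun i => ∑ j, A i j • (T ∘ₗ LinearMap.proj j)

theorem blk_apply (A : Matrix (Fin m) (Fin m) ℂ) (T : Module.End ℂ W) (f : Fin m → W) (i : Fin m) :
    blk A T f i = ∑ j, A i j • T (f j) := by
  simp [blk]

theorem blk_mul (A B : Matrix (Fin m) (Fin m) ℂ) (T S : Module.End ℂ W) :
    blk A T * blk B S = blk (A * B) (T * S) := by
  refine LinearMap.ext fun f => funext fun i => ?_
  simp only [Module.End.mul_apply, blk_apply, map_sum, map_smul, Finset.smul_sum, smul_smul]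
  rw [Finset.sum_comm]
  refine Finset.sum_congr rfl fun k _ => ?_
  rw [← Finset.sum_smul, Matrix.mul_apply]

theorem blk_one (T : Module.End ℂ W) :
    blk (1 : Matrix (Fin m) (Fin m) ℂ) T = Fourier.pw m T := by
  refine LinearMap.ext fun f => funext fun i => ?_
  simp [blk_apply, Fourier.pw_apply, Matrix.one_apply, ite_smul]

theorem blk_smul_right (A : Matrix (Fin m) (Fin m) ℂ) (c : ℂ) (T : Module.End ℂ W) :
    blk A (c • T) = blk (c • A) T := by
  refine LinearMap.ext fun f => funext fun i => ?_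
  simp only [blk_apply, LinearMap.smul_apply, Matrix.smul_apply, smul_smul, smul_eq_mul, mul_comm c]

theorem blk_injective {A B : Matrix (Fin m) (Fin m) ℂ} {T : Module.End ℂ W} (hT : T ≠ 0)
    (h : blk A T = blk B T) : A = B := by
  obtain ⟨w, hw⟩ : ∃ w, T w ≠ 0 := by
    by_contra hc
    push Not at hc
    exact hT (LinearMap.ext hc)
  refine Matrix.ext fun i j => smul_left_injective ℂ hw ?_
  have := congrFun (LinearMap.congr_fun h (Pi.single j w)) i
  simpa [blk_apply, Pi.single_apply, apply_ite T] using this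

theorem trace_blk (A : Matrix (Fin m) (Fin m) ℂ) (T : Module.End ℂ W) :
    LinearMap.trace ℂ _ (blk A T) = A.trace * LinearMap.trace ℂ W T := by
  classical
  have h : blk A T = ∑ i : Fin m, ∑ j : Fin m, A i j •
      (LinearMap.single ℂ (fun _ => W) i ∘ₗ (T ∘ₗ LinearMap.proj j)) := by
    refine LinearMap.ext fun f => funext fun k => ?_
    simp [blk_apply, LinearMap.sum_apply, Finset.sum_apply, Pi.single_apply, smul_ite]
  have hij : ∀ i j : Fin m, LinearMap.trace ℂ _
      (LinearMap.single ℂ (fun _ => W) i ∘ₗ (T ∘ₗ LinearMap.proj j)) =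
      if i = j then LinearMap.trace ℂ W T else 0 := by
    intro i j
    rw [LinearMap.trace_comp_comm', LinearMap.comp_assoc]
    split_ifs with hij
    · subst hij
      rw [LinearMap.proj_comp_single_same, LinearMap.comp_id]
    · rw [LinearMap.proj_comp_single_ne _ _ _ _ (Ne.symm hij), LinearMap.comp_zero, map_zero]
  rw [h]
  simp only [map_sum, map_smul, hij, smul_eq_mul, mul_ite, mul_zero, Finset.sum_ite_eq,
    Finset.mem_univ, if_true, Matrix.trace, Matrix.diag, Finset.sum_mul]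

theorem exists_blk {Z : Type u} [Group Z] (ρ : Representation ℂ Z W) [ρ.IsIrreducible]
    (y : Module.End ℂ (Fin m → W)) (hy : ∀ z, y * Fourier.pw m (ρ z) = Fourier.pw m (ρ z) * y) :
    ∃ A : Matrix (Fin m) (Fin m) ℂ, y = blk A 1 := by
  classical
  have hblock : ∀ i j : Fin m, ∃ c : ℂ,
      LinearMap.proj i ∘ₗ y ∘ₗ LinearMap.single ℂ (fun _ => W) j = c • (1 : Module.End ℂ W) := by
    intro i j
    refine Rep.schur ρ _ fun z => LinearMap.ext fun w => ?_
    have h2 := congrFun (LinearMap.congr_fun (hy z) (Pi.single j w)) i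
    have h3 : Fourier.pw m (ρ z) (Pi.single j w) = Pi.single j (ρ z w) := by
      funext k
      rcases eq_or_ne k j with rfl | hk
      · simp [Fourier.pw_apply]
      · simp [Fourier.pw_apply, hk]
    simp only [Module.End.mul_apply, h3, Fourier.pw_apply] at h2
    simpa [Module.End.mul_apply] using h2
  choose c hc using hblock
  refine ⟨Matrix.of c, LinearMap.ext fun f => funext fun i => ?_⟩
  conv_lhs => rw [← Finset.univ_sum_single f]
  rw [map_sum, Finset.sum_apply, blk_apply]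
  refine Finset.sum_congr rfl fun j _ => ?_
  have := LinearMap.congr_fun (hc i j) (f j)
  simpa using this

end blocks

variable {H : Type u} [Group H] [Fintype H] (Z : Subgroup H) [hZn : Z.Normal]

/-- The data at a fully ramified character. -/
theorem exists_pdata (χ : Cfsg.IrrCharacter H)
    (hfr : ∃ (θ : Cfsg.IrrCharacter Z) (e : ℕ), e ^ 2 = Z.index ∧
      ∀ z : Z, (χ : H → ℂ) z = (e : ℂ) * (θ : Z → ℂ) z) :
    Nonempty (PData (H ⧸ Z)) := by
  classical
  obtain ⟨θ, e, he, hres⟩ := hfr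
  haveI := Fintype.ofFinite Z
  obtain ⟨n, σ, -, hσχ⟩ := χ.2
  obtain ⟨d, ρ, hρ, hρθ⟩ := θ.2
  haveI := hρ
  haveI := Rep.nontrivial_of_irreducible ρ
  let σZ : Representation ℂ Z (Fin n → ℂ) := σ.comp Z.subtype
  have hσZ : ∀ z, σZ.character z = (e : ℂ) * ρ.character z := fun z => by
    rw [hρθ]
    show σ.character (z : H) = _
    rw [hσχ]
    exact hres z
  obtain ⟨E, hE⟩ := Fourier.exists_copies ρ σZ hσZ
  let S : H → Module.End ℂ (Fin e → Fin d → ℂ) := fun h => E.conj (σ h)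
  have hSmul : ∀ a b, S (a * b) = S a * S b := fun a b => by
    show E.conj (σ (a * b)) = _
    rw [map_mul, Module.End.mul_eq_comp, LinearEquiv.conj_comp]
    rfl
  have hSZ : ∀ z : Z, S z = blk 1 (ρ z) := fun z => by rw [blk_one]; exact hE z
  let Int : H → Module.End ℂ (Fin d → ℂ) → Prop := fun h T =>
    IsUnit T ∧ ∀ z : Z, T * ρ z = ρ ⟨h * z * h⁻¹, hZn.conj_mem (z : H) z.2 h⟩ * T
  have hex : ∀ h : H, ∃ T, Int h T := fun h => by
    have hinv : (Extension.conjRep Z ρ h).character = ρ.character := by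
      funext z
      show ρ.character _ = ρ.character z
      rw [hρθ]
      exact congrFun (congrArg Subtype.val (BC78.Ramified.invariant he hres h)) z
    obtain ⟨T, hT, hT'⟩ := Extension.exists_intertwiner Z ρ h 1 hinv
    exact ⟨T, (LinearMap.isUnit_iff_isUnit_det T).2 (hT ▸ isUnit_one), hT'⟩
  have hIntZ : ∀ z : Z, Int (z : H) (ρ z) := fun z => by
    refine ⟨⟨⟨ρ z, ρ z⁻¹, by rw [← map_mul, mul_inv_cancel, map_one],
      by rw [← map_mul, inv_mul_cancel, map_one]⟩, rfl⟩, fun w => ?_⟩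
    rw [← map_mul, ← map_mul]
    congr 1
    exact Subtype.ext (by simp [mul_assoc])
  have hIntMul : ∀ a b T T', Int a T → Int b T' → Int (a * b) (T * T') := by
    intro a b T T' hT hT'
    refine ⟨hT.1.mul hT'.1, fun z => ?_⟩
    rw [mul_assoc, hT'.2 z, ← mul_assoc, hT.2, mul_assoc]
    congr 2
    exact Subtype.ext (by simp [mul_assoc])
  have hprop : ∀ h T T', Int h T → Int h T' → ∃ c : ℂ, c ≠ 0 ∧ T' = c • T := by
    intro h T T' hT hT'
    obtain ⟨t, rfl⟩ := hT.1
    have hB : ∀ z, (↑t⁻¹ * T') * ρ z = ρ z * (↑t⁻¹ * T') := fun z => by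
      rw [mul_assoc, hT'.2 z, ← mul_assoc, ← mul_assoc]
      congr 1
      calc ↑t⁻¹ * ρ ⟨h * z * h⁻¹, hZn.conj_mem (z : H) z.2 h⟩
          = ↑t⁻¹ * (ρ ⟨h * z * h⁻¹, hZn.conj_mem (z : H) z.2 h⟩ * ↑t) * ↑t⁻¹ := by simp [mul_assoc]
        _ = ↑t⁻¹ * (↑t * ρ z) * ↑t⁻¹ := by rw [hT.2 z]
        _ = ρ z * ↑t⁻¹ := by simp [← mul_assoc]
    obtain ⟨c, hc⟩ := Rep.schur ρ _ hB
    have hT'c : T' = c • (t : Module.End ℂ (Fin d → ℂ)) := by
      calc T' = ↑t * (↑t⁻¹ * T') := by simp [← mul_assoc]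
        _ = _ := by rw [hc, mul_smul_comm, mul_one]
    refine ⟨c, ?_, hT'c⟩
    rintro rfl
    rw [zero_smul] at hT'c
    exact not_isUnit_zero (hT'c ▸ hT'.1)
  have hIne : ∀ h T, Int h T → T ≠ 0 := fun h T hT e0 => not_isUnit_zero (e0 ▸ hT.1)
  -- uniqueness of the matrix
  have huniq : ∀ h T T' (A A' : Matrix (Fin e) (Fin e) ℂ), Int h T → Int h T' →
      S h = blk A T → S h = blk A' T' → ∃ c : ℂ, c ≠ 0 ∧ A = c • A' := by
    intro h T T' A A' hT hT' h1 h2
    obtain ⟨c, hc, rfl⟩ := hprop h T T' hT hT'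
    refine ⟨c, hc, blk_injective (hIne h T hT) ?_⟩
    rw [← h1, h2, blk_smul_right]
  -- existence of the matrix
  have hmat : ∀ h T, Int h T → ∃ A : Matrix (Fin e) (Fin e) ℂ, S h = blk A T := by
    intro h T hT
    obtain ⟨t, rfl⟩ := hT.1
    have hy : ∀ z : Z, (S h * Fourier.pw e (↑t⁻¹)) * Fourier.pw e (ρ z) =
        Fourier.pw e (ρ z) * (S h * Fourier.pw e (↑t⁻¹)) := by
      intro z
      let w : Z := ⟨h⁻¹ * z * h⁻¹⁻¹, hZn.conj_mem (z : H) z.2 h⁻¹⟩
      have hw : ↑t⁻¹ * ρ z = ρ w * ↑t⁻¹ := by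
        have h1 := hT.2 w
        rw [show (⟨h * w * h⁻¹, hZn.conj_mem (w : H) w.2 h⟩ : Z) = z from
          Subtype.ext (by simp [w, mul_assoc])] at h1
        calc ↑t⁻¹ * ρ z = ↑t⁻¹ * (ρ z * ↑t) * ↑t⁻¹ := by simp [mul_assoc]
          _ = ↑t⁻¹ * (↑t * ρ w) * ↑t⁻¹ := by rw [h1]
          _ = _ := by simp [← mul_assoc]
      rw [mul_assoc, ← map_mul, hw, map_mul, ← mul_assoc, ← blk_one (ρ z), ← blk_one (ρ w), ← hSZ,
        ← hSZ, ← hSmul, ← mul_assoc (S (z : H)), ← hSmul]
      congr 2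
      simp [w, mul_assoc]
    obtain ⟨A, hA⟩ := exists_blk ρ _ hy
    refine ⟨A, ?_⟩
    calc S h = (S h * Fourier.pw e (↑t⁻¹)) * Fourier.pw e ↑t := by
          rw [mul_assoc, ← map_mul, Units.inv_mul, map_one, mul_one]
      _ = _ := by rw [hA, ← blk_one, blk_mul, mul_one, one_mul]
  choose T hT using hex
  choose A hA using fun h => hmat h (T h) (hT h)
  let r : H ⧸ Z → H := Quotient.out
  have hr : ∀ g, (QuotientGroup.mk (r g) : H ⧸ Z) = g := fun g => QuotientGroup.out_eq' g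
  -- the product
  have hmul : ∀ g g' : H ⧸ Z, ∃ c : ℂ, c ≠ 0 ∧ A (r g) * A (r g') = c • A (r (g * g')) := by
    intro g g'
    let z : Z := ⟨(r (g * g'))⁻¹ * (r g * r g'), QuotientGroup.eq.1
      (by rw [hr, QuotientGroup.mk_mul, hr, hr])⟩
    have hz : r g * r g' = r (g * g') * (z : H) := by simp [z]
    refine huniq (r g * r g') (T (r g) * T (r g')) (T (r (g * g')) * ρ z) _ _
      (hIntMul _ _ _ _ (hT _) (hT _)) (hz ▸ hIntMul _ _ _ _ (hT _) (hIntZ z)) ?_ ?_
    · rw [hSmul, hA, hA, blk_mul]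
    · rw [hz, hSmul, hA, hSZ, blk_mul, mul_one]
  -- the identity
  obtain ⟨c₁, hc₁, hA1⟩ : ∃ c : ℂ, c ≠ 0 ∧ A (r 1) = c • 1 := by
    let z : Z := ⟨r 1, (QuotientGroup.eq_one_iff _).1 (hr 1)⟩
    refine huniq (r 1) (T (r 1)) (ρ z) _ _ (hT _) (hIntZ z) (hA _) ?_
    exact hSZ z
  -- traces
  have htr : ∀ g : H ⧸ Z, g ≠ 1 → (A (r g)).trace = 0 := by
    intro g hg
    by_contra hne
    have h0 : ∀ z : Z, LinearMap.trace ℂ (Fin d → ℂ) (T (r g) * ρ z) = 0 := fun z => by
      refine (mul_eq_zero.1 ?_).resolve_left hne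
      rw [← trace_blk, show blk (A (r g)) (T (r g) * ρ z) = S (r g * z) from by
        rw [hSmul, hA, hSZ, blk_mul, mul_one]]
      show LinearMap.trace ℂ _ (E.conj (σ (r g * z))) = 0
      rw [LinearMap.trace_conj']
      show σ.character (r g * z) = 0
      rw [hσχ]
      refine BC78.Ramified.vanish he hres fun hmem => hg ?_
      rw [← hr g, QuotientGroup.eq_one_iff]
      exact (Subgroup.mul_mem_cancel_right Z z.2).1 hmem
    refine hIne _ _ (hT (r g)) ?_
    rw [← Fourier.fourier ρ (T (r g))]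
    simp [h0]
  refine ⟨⟨e, fun g => if g = 1 then 1 else A (r g), if_pos rfl, fun x y => ?_, fun x hx => ?_, ?_⟩⟩
  · have hnorm : ∀ g : H ⧸ Z, ∃ c : ℂ, c ≠ 0 ∧
        (if g = 1 then 1 else A (r g)) = c • A (r g) := fun g => by
      by_cases hg : g = 1
      · subst hg
        exact ⟨c₁⁻¹, inv_ne_zero hc₁, by rw [if_pos rfl, hA1, smul_smul, inv_mul_cancel₀ hc₁, one_smul]⟩
      · exact ⟨1, one_ne_zero, by rw [if_neg hg, one_smul]⟩
    obtain ⟨a, ha, ha'⟩ := hnorm x
    obtain ⟨b, hb, hb'⟩ := hnorm y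
    obtain ⟨c, hc, hc'⟩ := hnorm (x * y)
    obtain ⟨k, hk, hk'⟩ := hmul x y
    refine ⟨a * b * k * c⁻¹, by simp [ha, hb, hk, hc], ?_⟩
    rw [ha', hb', hc', smul_mul_assoc, mul_smul_comm, hk', smul_smul, smul_smul, smul_smul,
      mul_assoc (a * b * k), inv_mul_cancel₀ hc, mul_one, mul_assoc]
  · rw [if_neg hx]
    exact htr x hx
  · rw [← Subgroup.index_eq_card, he]

end Cfsg.Agent.Lib.CentralType79
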