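import Cfsg.Agent.Lib.CentralType79.Local
import Cfsg.Agent.Lib.PSolvable.HallHigman
import Cfsg.Agent.S0721
import Mathlib.GroupTheory.Solvable

/-!
# The solvable radical and the local situations (helper79)
-/

set_option autoImplicit false
set_option linter.style.haveILetI false
set_option linter.unusedSectionVars false

namespace Cfsg.Agent.Lib.CentralType79

open Subgroup

universe u

variable {G : Type u} [Group G] [Finite G]

/-- A simple direct factor of a minimal normal subgroup over the solvable radical. -/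
structure Top (R : Subgroup G) [R.Normal] (N S : Subgroup (G ⧸ R)) : Prop where
  sol : Group.IsSolvable R
  Nn : N.Normal
  Nmin : ∀ L : Subgroup (G ⧸ R), L.Normal → L ≤ N → L = ⊥ ∨ L = N
  SN : S ≤ N
  simple : IsSimpleGroup S
  nonab : ¬ IsMulCommutative S
  Snorm : N ≤ normalizer (S : Set (G ⧸ R))

theorem exists_top (hG : ¬ Group.IsSolvable G) :
    ∃ (R : Subgroup G) (_ : R.Normal) (N S : Subgroup (G ⧸ R)), Top R N S := by
  classical
  obtain ⟨R, ⟨hRn, hRs⟩, hRmax⟩ := (wellFounded_gt (α := Subgroup G)).has_min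
    {R | R.Normal ∧ Group.IsSolvable R} ⟨⊥, inferInstance, inferInstance⟩
  haveI := hRn
  haveI := hRs
  refine ⟨R, hRn, ?_⟩
  haveI : Nontrivial (G ⧸ R) := by
    rw [QuotientGroup.nontrivial_iff]
    rintro rfl
    haveI := hRs
    exact hG (Group.isSolvable_of_surjective (f := (Subgroup.topEquiv (G := G)).toMonoidHom)
      (Subgroup.topEquiv (G := G)).surjective)
  obtain ⟨N, ⟨hNn, hNb⟩, hNmin⟩ := (wellFounded_lt (α := Subgroup (G ⧸ R))).has_min
    {N | N.Normal ∧ N ≠ ⊥} ⟨⊤, inferInstance, top_ne_bot⟩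
  haveI := hNn
  have hmin : ∀ L : Subgroup (G ⧸ R), L.Normal → L ≤ N → L = ⊥ ∨ L = N := fun L hL hle =>
    or_iff_not_imp_left.2 fun hb => (lt_or_eq_of_le hle).resolve_left (hNmin L ⟨hL, hb⟩)
  obtain ⟨T, iT, m, hT, hm, ⟨e⟩⟩ := Cfsg.Agent.S0721.result N hNb hmin
  haveI : Finite (Fin m → T) := Finite.of_equiv _ e.toEquiv
  have hTna : ¬ IsMulCommutative T := by
    intro hab
    haveI : IsMulCommutative N := ⟨⟨fun a b => e.injective (by
      rw [map_mul, map_mul]; funext i; exact hab.is_comm.comm _ _)⟩⟩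
    haveI : Group.IsSolvable N := Group.isSolvable_of_comm fun a b => mul_comm' a b
    set K := N.comap (QuotientGroup.mk' R) with hK
    have hRK : R < K := by
      refine lt_of_le_of_ne (fun x hx => ?_) fun h => hNb ?_
      · show QuotientGroup.mk' R x ∈ N
        rw [show QuotientGroup.mk' R x = 1 from (QuotientGroup.eq_one_iff x).2 hx]
        exact one_mem N
      · rw [← map_comap_eq_self_of_surjective (QuotientGroup.mk'_surjective R) N, ← hK, ← h,
          QuotientGroup.map_mk'_self]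
    refine hRmax K ⟨inferInstance, ?_⟩ hRK
    let φ : K →* N := (QuotientGroup.mk' R).subgroupComap N
    refine Group.isSolvable_of_ker_le_range (Subgroup.inclusion hRK.le) φ fun x hx => ?_
    have : (x : G) ∈ R := (QuotientGroup.eq_one_iff _).1 (congrArg Subtype.val (MonoidHom.mem_ker.1 hx))
    exact ⟨⟨x, this⟩, rfl⟩
  let i₀ : Fin m := ⟨0, hm⟩
  let j : T →* (G ⧸ R) :=
    N.subtype.comp (e.symm.toMonoidHom.comp (MonoidHom.mulSingle (fun _ : Fin m => T) i₀))
  have hj : Function.Injective j := N.subtype_injective.comp (e.symm.injective.comp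
    (Pi.mulSingle_injective (M := fun _ : Fin m => T) i₀))
  refine ⟨N, j.range, hRs, hNn, hmin, ?_, ?_, ?_, ?_⟩
  · rintro _ ⟨t, rfl⟩; exact Subtype.prop _
  · haveI := hT
    exact (MonoidHom.ofInjective hj).symm.isSimpleGroup
  · intro hab
    exact hTna ⟨⟨fun a b => hj (by
      rw [map_mul, map_mul]
      exact congrArg Subtype.val (hab.is_comm.comm (⟨j a, a, rfl⟩ : j.range) ⟨j b, b, rfl⟩))⟩⟩
  · intro n hn
    refine mem_normalizer_of_map_eq (eq_of_le_of_card_ge ?_ ?_)
    · rintro _ ⟨_, ⟨t, rfl⟩, rfl⟩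
      refine ⟨e ⟨n, hn⟩ i₀ * t * (e ⟨n, hn⟩ i₀)⁻¹, ?_⟩
      show ((e.symm (Pi.mulSingle i₀ _)) : G ⧸ R) = n * (e.symm (Pi.mulSingle i₀ t) : G ⧸ R) * n⁻¹
      have h1 : Pi.mulSingle (M := fun _ : Fin m => T) i₀ (e ⟨n, hn⟩ i₀ * t * (e ⟨n, hn⟩ i₀)⁻¹) =
          e ⟨n, hn⟩ * Pi.mulSingle i₀ t * (e ⟨n, hn⟩)⁻¹ := by
        funext i
        by_cases hi : i = i₀
        · subst hi; simp
        · simp [hi]
      rw [h1, map_mul, map_mul, map_inv, e.symm_apply_apply]
      rfl
    · rw [Subgroup.card_map_of_injective (MulAut.conj n).injective]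

/-- The local situation at a prime. -/
theorem exists_loc {R : Subgroup G} [R.Normal] {N S : Subgroup (G ⧸ R)} (h : Top R N S) (r : ℕ)
    [hr : Fact r.Prime] :
    ∃ (W : Type u) (_ : Group W) (_ : Finite W) (f : G →* W) (q : W →* G ⧸ R) (Y : Subgroup W),
      Loc r f q Y N S ∧ ∀ g, q (f g) = QuotientGroup.mk' R g := by
  classical
  let O : Subgroup G := (Cfsg.pPrimeCore r R).map R.subtype
  haveI hOn : O.Normal := inferInstance
  have hOR : O ≤ R := map_subtype_le _
  let f := QuotientGroup.mk' O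
  have hf : Function.Surjective f := QuotientGroup.mk'_surjective O
  let q : G ⧸ O →* G ⧸ R := QuotientGroup.map O R (MonoidHom.id G) hOR
  have hqf : ∀ g, q (f g) = QuotientGroup.mk' R g := fun g => rfl
  have hqs : Function.Surjective q := fun x => by
    obtain ⟨g, rfl⟩ := QuotientGroup.mk'_surjective R x
    exact ⟨f g, rfl⟩
  have hker : q.ker = R.map f := by
    rw [← map_comap_eq_self_of_surjective hf q.ker, MonoidHom.comap_ker]
    exact congrArg _ (QuotientGroup.ker_mk' R)
  set Rb := R.map f with hRb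
  haveI : Rb.Normal := Subgroup.Normal.map inferInstance f hf
  haveI : Group.IsSolvable Rb :=
    haveI := h.sol
    Group.isSolvable_of_surjective (f.subgroupMap_surjective R)
  have hcore : Cfsg.pPrimeCore r Rb = ⊥ := by
    set Z := Cfsg.pPrimeCore r Rb
    let φ := f.subgroupMap R
    have hφ : Function.Surjective φ := f.subgroupMap_surjective R
    have hcop : (Nat.card (Z.comap φ)).Coprime r := by
      have h1 : Nat.card (Z.comap φ) ∣ Nat.card φ.ker * Nat.card Z := by
        have hle : φ.ker ≤ Z.comap φ := φ.ker_le_comap Z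
        have := relIndex_mul_relIndex ⊥ φ.ker (Z.comap φ) bot_le hle
        rw [relIndex_bot_left, relIndex_bot_left] at this
        rw [← this]
        refine Nat.mul_dvd_mul_left _ ?_
        rw [← MonoidHom.comap_bot, relIndex_comap, map_comap_eq_self_of_surjective hφ, relIndex_bot_left]
      refine Nat.Coprime.coprime_dvd_left h1 (Nat.Coprime.mul_left ?_ PSolvable.card_pPrimeCore_coprime)
      refine Nat.Coprime.coprime_dvd_left (card_dvd_of_le (K := Cfsg.pPrimeCore r R) ?_)
        PSolvable.card_pPrimeCore_coprime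
      intro x hx
      have h2 : (x : G) ∈ O := (QuotientGroup.eq_one_iff _).1 (congrArg Subtype.val (MonoidHom.mem_ker.1 hx))
      obtain ⟨y, hy, hyx⟩ := h2
      rwa [show x = y from Subtype.ext hyx.symm]
    have h3 := PSolvable.le_pPrimeCore (N := Z.comap φ) inferInstance hcop
    rw [eq_bot_iff, ← map_comap_eq_self_of_surjective hφ Z]
    rintro _ ⟨x, hx, rfl⟩
    refine mem_bot.2 (Subtype.ext ((QuotientGroup.eq_one_iff _).2 ?_))
    exact mem_map_of_mem R.subtype (h3 hx)
  set Y : Subgroup (G ⧸ O) := (Cfsg.pCore r Rb).map Rb.subtype with hY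
  refine ⟨G ⧸ O, inferInstance, inferInstance, f, q, Y, ⟨⟨hf, ?_⟩, hqs, inferInstance,
    (PSolvable.isPGroup_pCore).map _, ?_, ?_, h.Nn, h.Nmin, h.SN, h.simple, h.nonab, h.Snorm⟩, hqf⟩
  · rw [QuotientGroup.ker_mk', Subgroup.card_map_of_injective R.subtype_injective]
    exact (hr.out.coprime_iff_not_dvd).1 PSolvable.card_pPrimeCore_coprime.symm
  · rw [hker]; exact map_subtype_le _
  · rintro x ⟨hx1, hx2⟩
    have hx' : x ∈ Rb := hker ▸ hx1
    refine ⟨⟨x, hx'⟩, PSolvable.centralizer_pCore_le (PSolvable.isPSolvable_of_isSolvable) hcore ?_, rfl⟩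
    exact mem_centralizer_iff.2 fun y hy => Subtype.ext (mem_centralizer_iff.1 hx2 y ⟨y, hy, rfl⟩)

end Cfsg.Agent.Lib.CentralType79
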