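import Cfsg.Agent.Lib.CentralType79.OddCase
import Cfsg.Agent.Lib.CentralType79.Setup
import Cfsg.Agent.Lib.GorensteinWalter.Interface
import Cfsg.Agent.Lib.Walter.Interface
import Cfsg.Agent.Lib.LAEven56.TwoDihedral.Basic
import Cfsg.Agent.Lib.Fusion.U34Sylow
import Mathlib.FieldTheory.Finite.GaloisField

/-!
# The Sylow 2-subgroups of the simple factor (helper79)
-/

set_option autoImplicit false
set_option linter.style.haveILetI false
set_option linter.unusedSectionVars false

namespace Cfsg.Agent.Lib.CentralType79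

open Subgroup

universe u

section recognition

variable {Q : Type*} [Group Q]

/-- The map of the dihedral group of order eight given by its two generators. -/
theorem exists_dihedralHom {x y : Q} (hx : x ^ 4 = 1) (hy : y * y = 1) (hc : y * x * y = x⁻¹) :
    ∃ φ : DihedralGroup 4 →* Q, (∀ i : ZMod 4, φ (.r i) = x ^ i.val) ∧
      ∀ i : ZMod 4, φ (.sr i) = y * x ^ i.val := by
  let rp : ZMod 4 → Q := fun i => x ^ i.val
  have hadd : ∀ i j : ZMod 4, rp (i + j) = rp i * rp j := fun i j => by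
    show x ^ (i + j).val = x ^ i.val * x ^ j.val
    rw [← pow_add, ZMod.val_add]
    exact (pow_eq_pow_mod (i.val + j.val) hx).symm
  have hrp0 : rp 0 = 1 := by show x ^ (0 : ZMod 4).val = 1; rw [ZMod.val_zero, pow_zero]
  have hy' : y⁻¹ = y := inv_eq_of_mul_eq_one_right hy
  have hconj : ∀ i, y * rp i * y = (rp i)⁻¹ := fun i => by
    show y * x ^ i.val * y = (x ^ i.val)⁻¹
    rw [← inv_pow, ← hc]
    conv_rhs => rw [show y * x * y = y * x * y⁻¹ by rw [hy'], conj_pow, hy']
  have hsub : ∀ i j : ZMod 4, rp (j - i) = (rp i)⁻¹ * rp j := fun i j => by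
    rw [eq_inv_mul_iff_mul_eq, ← hadd, add_sub_cancel]
  refine ⟨{ toFun := fun d => match d with
              | .r i => rp i
              | .sr i => y * rp i
            map_one' := hrp0
            map_mul' := ?_ }, fun i => rfl, fun i => rfl⟩
  rintro (i | i) (j | j)
  · exact hadd i j
  · show y * rp (j - i) = rp i * (y * rp j)
    rw [hsub, ← hconj]
    calc y * (y * rp i * y * rp j) = (y * y) * (rp i * (y * rp j)) := by group
      _ = _ := by rw [hy, one_mul]
  · show y * rp (i + j) = y * rp i * rp j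
    rw [hadd, mul_assoc]
  · show rp (j - i) = y * rp i * (y * rp j)
    rw [hsub, ← hconj, mul_assoc (y * rp i)]

variable [Finite Q]

/-- A non-abelian group of order eight is dihedral or has only one involution. -/
theorem eight_cases (hQ : Nat.card Q = 8) (hnc : ¬ IsMulCommutative Q) :
    Nonempty (Q ≃* DihedralGroup 4) ∨
      ∀ a b : Q, a * a = 1 → a ≠ 1 → b * b = 1 → b ≠ 1 → a = b := by
  classical
  haveI : Fact (Nat.Prime 2) := ⟨Nat.prime_two⟩
  have hord : ∀ a : Q, orderOf a ∣ 8 := fun a => hQ ▸ orderOf_dvd_natCard a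
  obtain ⟨x, hx⟩ : ∃ x : Q, orderOf x = 4 := by
    by_contra hno
    push Not at hno
    refine hnc ⟨⟨?_⟩⟩
    by_cases h8 : ∃ a : Q, orderOf a = 8
    · obtain ⟨a, ha⟩ := h8
      haveI := isCyclic_of_orderOf_eq_card a (ha.trans hQ.symm)
      exact (IsCyclic.commGroup (α := Q)).mul_comm
    push Not at h8
    have h2 : ∀ a : Q, a * a = 1 := fun a => by
      obtain ⟨k, hk, hk'⟩ := (Nat.dvd_prime_pow Nat.prime_two).1
        (show orderOf a ∣ 2 ^ 3 from hord a)
      have := hno a
      have := h8 a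
      rw [← sq, ← orderOf_dvd_iff_pow_eq_one, hk']
      interval_cases k <;> simp_all
    intro a b
    have hinv : ∀ c : Q, c⁻¹ = c := fun c => inv_eq_of_mul_eq_one_right (h2 c)
    calc a * b = (a * b)⁻¹ := (hinv _).symm
      _ = b * a := by rw [mul_inv_rev, hinv, hinv]
  by_cases hy : ∃ y : Q, y * y = 1 ∧ y ∉ zpowers x
  · left
    obtain ⟨y, hy, hyx⟩ := hy
    have hidx : (zpowers x).index = 2 := by
      have := (zpowers x).card_mul_index
      rw [Nat.card_zpowers, hx, hQ] at this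
      omega
    haveI := normal_of_index_eq_two hidx
    have hconj : y * x * y ∈ zpowers x := by
      have := (inferInstance : (zpowers x).Normal).conj_mem x (mem_zpowers x) y
      rwa [inv_eq_of_mul_eq_one_right hy] at this
    obtain ⟨k, hk, hk'⟩ : ∃ k < 4, x ^ k = y * x * y := by
      obtain ⟨k, hk⟩ := (isOfFinOrder_of_finite x).mem_powers_iff_mem_zpowers.2 hconj
      exact ⟨k % 4, Nat.mod_lt _ (by norm_num), by rw [← hx, pow_mod_orderOf]; exact hk⟩
    have ho : orderOf (y * x * y) = 4 := by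
      rw [← hx]
      nth_rw 2 [← inv_eq_of_mul_eq_one_right hy]
      exact MulEquiv.orderOf_eq (MulAut.conj y) x
    have hgen : ∀ q : Q, ∃ i : ℕ, q = x ^ i ∨ q = y * x ^ i := fun q => by
      by_cases hq : q ∈ zpowers x
      · obtain ⟨i, hi⟩ := (isOfFinOrder_of_finite x).mem_powers_iff_mem_zpowers.2 hq
        exact ⟨i, Or.inl hi.symm⟩
      · have : y * q ∈ zpowers x := by
          rw [Subgroup.mul_mem_iff_of_index_two hidx]
          simp [hq, hyx]
        obtain ⟨i, hi⟩ := (isOfFinOrder_of_finite x).mem_powers_iff_mem_zpowers.2 this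
        exact ⟨i, Or.inr (by
          show q = y * x ^ i
          rw [show x ^ i = y * q from hi, ← mul_assoc, hy, one_mul])⟩
    have hk3 : k = 3 := by
      rw [← hk', orderOf_pow, hx] at ho
      interval_cases k <;> norm_num at ho
      · exfalso
        refine hnc ⟨⟨?_⟩⟩
        have hyc : Commute y x := by
          show y * x = x * y
          calc y * x = y * x * (y * y) := by rw [hy, mul_one]
            _ = (y * x * y) * y := by group
            _ = x * y := by rw [← hk', pow_one]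
        intro a b
        obtain ⟨i, rfl | rfl⟩ := hgen a <;> obtain ⟨j, rfl | rfl⟩ := hgen b
        · exact (Commute.pow_pow_self x i j).eq
        · exact (((hyc.pow_right i).symm).mul_right (Commute.pow_pow_self x i j)).eq
        · exact ((hyc.pow_right j).mul_left (Commute.pow_pow_self x i j)).eq
        · exact (((Commute.refl y).mul_right (hyc.pow_right j)).mul_left
            (((hyc.pow_right i).symm).mul_right (Commute.pow_pow_self x i j))).eq
      · rfl
    subst hk3
    have hx4 : x ^ 4 = 1 := hx ▸ pow_orderOf_eq_one x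
    have hc : y * x * y = x⁻¹ := by
      rw [← hk']
      exact eq_inv_of_mul_eq_one_left (by rw [← pow_succ]; exact hx4)
    obtain ⟨φ, hr, hs⟩ := exists_dihedralHom hx4 hy hc
    have hsurj : Function.Surjective φ := fun q => by
      obtain ⟨i, rfl | rfl⟩ := hgen q
      · exact ⟨.r (i : ZMod 4), by rw [hr, ZMod.val_natCast, ← hx, pow_mod_orderOf]⟩
      · exact ⟨.sr (i : ZMod 4), by rw [hs, ZMod.val_natCast, ← hx, pow_mod_orderOf]⟩
    exact ⟨(MulEquiv.ofBijective φ ((Nat.bijective_iff_surjective_and_card φ).2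
      ⟨hsurj, by rw [DihedralGroup.nat_card, hQ]⟩)).symm⟩
  · right
    push Not at hy
    intro a b ha ha1 hb hb1
    have key : ∀ c : Q, c * c = 1 → c ≠ 1 → c = x ^ 2 := fun c hc hc1 => by
      obtain ⟨i, rfl⟩ := (isOfFinOrder_of_finite x).mem_powers_iff_mem_zpowers.2 (hy c hc)
      simp only at hc hc1 ⊢
      rw [← pow_add, ← orderOf_dvd_iff_pow_eq_one, hx] at hc
      rw [Ne, ← orderOf_dvd_iff_pow_eq_one, hx] at hc1
      rw [← pow_mod_orderOf x i, hx, show i % 4 = 2 by omega]
    rw [key a ha ha1, key b hb hb1]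

end recognition

variable {G : Type u} [Group G] [Finite G] (D : PData G)

theorem beta_two {x y : G} (h : Commute x y) (hy : y * y = 1) :
    D.beta x y = 1 ∨ D.beta x y = -1 := by
  have := D.beta_mul h h
  rw [hy, D.beta_one_right] at this
  exact mul_self_eq_one_iff.1 this.symm

/-- Three elements generating an elementary abelian group of order eight. -/
theorem gen_three {E : Subgroup G} (hcard : Nat.card E = 8) (hexp : ∀ a ∈ E, a * a = 1)
    (hcomm : ∀ a ∈ E, ∀ b ∈ E, Commute a b) {x y z : G} (hx : x ∈ E) (hy : y ∈ E) (hz : z ∈ E)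
    (hx1 : x ≠ 1) (hy1 : y ≠ 1) (hxy : x ≠ y) (hz1 : z ≠ 1) (hzx : z ≠ x) (hzy : z ≠ y)
    (hzxy : z ≠ x * y) :
    ∀ w : G, (Commute w x ∧ D.beta w x = 1) → (Commute w y ∧ D.beta w y = 1) →
      (Commute w z ∧ D.beta w z = 1) → ∀ a ∈ E, Commute w a ∧ D.beta w a = 1 := by
  have hzp : ∀ {t : G}, t ∈ E → ∀ a ∈ zpowers t, a = 1 ∨ a = t := by
    intro t ht a ha
    obtain ⟨n, rfl⟩ := (isOfFinOrder_of_finite t).mem_powers_iff_mem_zpowers.2 ha
    show t ^ n = 1 ∨ t ^ n = t
    rcases Nat.even_or_odd' n with ⟨m, rfl | rfl⟩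
    · exact Or.inl (by rw [pow_mul, sq, hexp t ht, one_pow])
    · exact Or.inr (by rw [pow_succ, pow_mul, sq, hexp t ht, one_pow, one_mul])
  have hord : ∀ {t : G}, t ∈ E → t ≠ 1 → Nat.card (zpowers t) = 2 := fun ht ht1 => by
    rw [Nat.card_zpowers]
    exact orderOf_eq_prime (by rw [sq]; exact hexp _ ht) ht1
  have hd : zpowers x ⊓ zpowers y = ⊥ := by
    rw [eq_bot_iff]
    intro a ha
    rcases hzp hx a ha.1 with h | h
    · exact mem_bot.2 h
    · rcases hzp hy a ha.2 with h' | h'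
      · exact mem_bot.2 h'
      · exact absurd (h.symm.trans h') hxy
  have hc2 : ∀ a ∈ zpowers x, ∀ b ∈ zpowers y, Commute a b := fun a ha b hb =>
    hcomm a (zpowers_le.2 hx ha) b (zpowers_le.2 hy hb)
  have hAE : zpowers x ⊔ zpowers y ≤ E := sup_le (zpowers_le.2 hx) (zpowers_le.2 hy)
  have hd3 : (zpowers x ⊔ zpowers y) ⊓ zpowers z = ⊥ := by
    rw [eq_bot_iff]
    intro a ha
    obtain ⟨i, hi, j, hj, rfl⟩ := (card_sup hc2 hd).2 a ha.1
    rcases hzp hz _ ha.2 with h | h
    · exact mem_bot.2 h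
    · rcases hzp hx i hi with rfl | rfl <;> rcases hzp hy j hj with rfl | rfl
      · exact absurd ((one_mul (1 : G)).symm.trans h).symm hz1
      · exact absurd ((one_mul j).symm.trans h).symm hzy
      · exact absurd ((mul_one i).symm.trans h).symm hzx
      · exact absurd h.symm hzxy
  have hc3 : ∀ a ∈ zpowers x ⊔ zpowers y, ∀ b ∈ zpowers z, Commute a b := fun a ha b hb =>
    hcomm a (hAE ha) b (zpowers_le.2 hz hb)
  have htop : E ≤ (zpowers x ⊔ zpowers y) ⊔ zpowers z := (eq_of_le_of_card_ge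
    (sup_le hAE (zpowers_le.2 hz)) (by
      rw [(card_sup hc3 hd3).1, (card_sup hc2 hd).1, hord hx hx1, hord hy hy1, hord hz hz1, hcard])).ge
  intro w hwx hwy hwz a ha
  exact beta_sup hc3 hd3 (beta_sup hc2 hd (beta_zpowers hwx.1 hwx.2) (beta_zpowers hwy.1 hwy.2))
    (beta_zpowers hwz.1 hwz.2) a (htop ha)

theorem exists_outside {E : Subgroup G} (hcard : Nat.card E = 8) (a b : G) :
    ∃ c ∈ E, c ≠ 1 ∧ c ≠ a ∧ c ≠ b ∧ c ≠ a * b := by
  classical
  by_contra hno
  push Not at hno
  have hsub : (E : Set G) ⊆ ({1, a, b, a * b} : Finset G) := fun c hc => by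
    simp only [Finset.coe_insert, Finset.coe_singleton, Set.mem_insert_iff, Set.mem_singleton_iff]
    by_cases h1 : c = 1; · exact Or.inl h1
    by_cases h2 : c = a; · exact Or.inr (Or.inl h2)
    by_cases h3 : c = b; · exact Or.inr (Or.inr (Or.inl h3))
    exact Or.inr (Or.inr (Or.inr (hno c hc h1 h2 h3)))
  have := Set.ncard_le_ncard hsub (Finset.finite_toSet _)
  rw [Set.ncard_coe_finset, ← Nat.card_coe_set_eq] at this
  have h4 : ({1, a, b, a * b} : Finset G).card ≤ 4 := Finset.card_le_four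
  have : Nat.card E ≤ 4 := this.trans h4
  omega

/-- The radical of a nontrivial pairing on an elementary abelian group of order eight. -/
theorem exists_radical_of {E : Subgroup G} (hcard : Nat.card E = 8) (hexp : ∀ a ∈ E, a * a = 1)
    (hiso : ¬ ∀ a ∈ E, ∀ b ∈ E, D.beta a b = 1) :
    ∃ ρ ∈ E, ρ ≠ 1 ∧ (∀ a ∈ E, D.beta ρ a = 1) ∧
      ∀ ρ' ∈ E, ρ' ≠ 1 → (∀ a ∈ E, D.beta ρ' a = 1) → ρ' = ρ := by
  haveI : Fact (Nat.Prime 2) := ⟨Nat.prime_two⟩
  have hcomm : ∀ a ∈ E, ∀ b ∈ E, Commute a b := fun a ha b hb => by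
    have h1 := hexp _ (mul_mem ha hb)
    have h2 : (a * b)⁻¹ = a * b := inv_eq_of_mul_eq_one_right h1
    show a * b = b * a
    rw [← h2, mul_inv_rev, inv_eq_of_mul_eq_one_right (hexp a ha),
      inv_eq_of_mul_eq_one_right (hexp b hb)]
  have hself : ∀ {x : G}, Commute x x ∧ D.beta x x = 1 := fun {x} => ⟨Commute.refl x, D.beta_self x⟩
  have hsw : ∀ {x y : G}, x ∈ E → y ∈ E → D.beta x y = 1 → Commute y x ∧ D.beta y x = 1 := by
    intro x y hx hy h
    have := D.beta_swap (hcomm x hx y hy)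
    rw [h, one_mul] at this
    exact ⟨(hcomm x hx y hy).symm, this⟩
  -- uniqueness
  have huniq : ∀ x ∈ E, ∀ y ∈ E, x ≠ 1 → y ≠ 1 → x ≠ y → (∀ a ∈ E, D.beta x a = 1) →
      (∀ a ∈ E, D.beta y a = 1) → False := by
    intro x hx y hy hx1 hy1 hxy hbx hby
    obtain ⟨z, hz, hz1, hzx, hzy, hzxy⟩ := exists_outside hcard x y
    refine hiso fun a ha b hb => ?_
    have key : ∀ a ∈ E, Commute z a ∧ D.beta z a = 1 :=
      gen_three D hcard hexp hcomm hx hy hz hx1 hy1 hxy hz1 hzx hzy hzxy z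
        (hsw hx hz (hbx z hz)) (hsw hy hz (hby z hz)) hself
    exact (gen_three D hcard hexp hcomm hx hy hz hx1 hy1 hxy hz1 hzx hzy hzxy a
      (hsw hx ha (hbx a ha)) (hsw hy ha (hby a ha)) (hsw hz ha (key a ha).2) b hb).2
  suffices hex : ∃ ρ ∈ E, ρ ≠ 1 ∧ ∀ a ∈ E, D.beta ρ a = 1 by
    obtain ⟨ρ, hρ, hρ1, hρb⟩ := hex
    exact ⟨ρ, hρ, hρ1, hρb, fun ρ' h' h1' hb' =>
      by_contra fun hne => huniq ρ' h' ρ hρ h1' hρ1 hne hb' hρb⟩
  obtain ⟨x, hx, z, hz, hxz⟩ : ∃ x ∈ E, ∃ z ∈ E, D.beta x z ≠ 1 := by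
    push Not at hiso
    exact hiso
  have hx1 : x ≠ 1 := fun e => hxz (by rw [e, D.beta_one_left])
  have hz1 : z ≠ 1 := fun e => hxz (by rw [e, D.beta_one_right])
  have hne : x ≠ z := fun e => hxz (by rw [e, D.beta_self])
  have hxz' : D.beta x z = -1 := (beta_two D (hcomm x hx z hz) (hexp z hz)).resolve_left hxz
  have hzx' : D.beta z x = -1 := by
    have := D.beta_swap (hcomm x hx z hz)
    rw [hxz'] at this
    linear_combination -this
  obtain ⟨y, hy, hy1, hyx, hyz, hyxz⟩ := exists_outside hcard x z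
  have hyxz' : y * x ≠ z := fun e => hyxz (by
    rw [← e, ← mul_assoc, (hcomm x hx y hy).eq, mul_assoc, hexp x hx, mul_one])
  -- correct by `x`
  obtain ⟨y₁, hy₁, hb₁, hy₁n⟩ : ∃ y₁ ∈ E, D.beta y₁ z = 1 ∧
      (y₁ ≠ 1 ∧ y₁ ≠ x ∧ y₁ ≠ z ∧ y₁ ≠ x * z) := by
    rcases beta_two D (hcomm y hy z hz) (hexp z hz) with h | h
    · exact ⟨y, hy, h, hy1, hyx, hyz, hyxz⟩
    · refine ⟨y * x, mul_mem hy hx, ?_, fun e => hyx ?_, fun e => hy1 ?_, hyxz', fun e => hyz ?_⟩
      · rw [D.beta_mul_left (hcomm y hy z hz) (hcomm x hx z hz), h, hxz', neg_mul_neg, one_mul]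
      · rw [eq_inv_of_mul_eq_one_left e, inv_eq_of_mul_eq_one_right (hexp x hx)]
      · exact mul_eq_right.1 e
      · rw [(hcomm x hx z hz).eq] at e
        exact mul_right_cancel e
  obtain ⟨hy₁1, hy₁x, hy₁z, hy₁xz⟩ := hy₁n
  -- correct by `z`
  obtain ⟨y₂, hy₂, hb₂, hb₂', hy₂n⟩ : ∃ y₂ ∈ E, D.beta y₂ z = 1 ∧ D.beta y₂ x = 1 ∧
      (y₂ ≠ 1 ∧ y₂ ≠ x ∧ y₂ ≠ z ∧ y₂ ≠ x * z) := by
    rcases beta_two D (hcomm y₁ hy₁ x hx) (hexp x hx) with h | h
    · exact ⟨y₁, hy₁, hb₁, h, hy₁1, hy₁x, hy₁z, hy₁xz⟩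
    · refine ⟨y₁ * z, mul_mem hy₁ hz, ?_, ?_, fun e => hy₁z ?_, fun e => hy₁xz ?_,
        fun e => hy₁1 (mul_eq_right.1 e), fun e => hy₁x (mul_right_cancel e)⟩
      · rw [D.beta_mul_left (hcomm y₁ hy₁ z hz) (Commute.refl z), hb₁, D.beta_self, one_mul]
      · rw [D.beta_mul_left (hcomm y₁ hy₁ x hx) (hcomm z hz x hx), h, hzx', neg_mul_neg, one_mul]
      · rw [eq_inv_of_mul_eq_one_left e, inv_eq_of_mul_eq_one_right (hexp z hz)]
      · rw [← e, mul_assoc, hexp z hz, mul_one]
  obtain ⟨h1, h2, h3, h4⟩ := hy₂n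
  refine ⟨y₂, hy₂, h1, fun a ha => ?_⟩
  exact (gen_three D hcard hexp hcomm hx hz hy₂ hx1 hz1 hne h1 h2 h3 h4 y₂
    ⟨hcomm _ hy₂ _ hx, hb₂'⟩ ⟨hcomm _ hy₂ _ hz, hb₂⟩ hself a ha).2

/-- The radical of the pairing on an elementary abelian group of order eight. -/
theorem exists_radical {P : Sylow 2 G} (hP : Nat.card (P : Subgroup G) = 16) {E : Subgroup G}
    (hcard : Nat.card E = 8) (hexp : ∀ a ∈ E, a * a = 1) :
    ∃ ρ ∈ E, ρ ≠ 1 ∧ (∀ a ∈ E, D.beta ρ a = 1) ∧
      ∀ ρ' ∈ E, ρ' ≠ 1 → (∀ a ∈ E, D.beta ρ' a = 1) → ρ' = ρ := by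
  haveI : Fact (Nat.Prime 2) := ⟨Nat.prime_two⟩
  have hcomm : ∀ a ∈ E, ∀ b ∈ E, Commute a b := fun a ha b hb => by
    have h1 := hexp _ (mul_mem ha hb)
    have h2 : (a * b)⁻¹ = a * b := inv_eq_of_mul_eq_one_right h1
    show a * b = b * a
    rw [← h2, mul_inv_rev, inv_eq_of_mul_eq_one_right (hexp a ha),
      inv_eq_of_mul_eq_one_right (hexp b hb)]
  exact exists_radical_of D hcard hexp fun h => not_cube_dvd D (P := P) (by rw [hP]; norm_num)
    ((dvd_of_eq (by rw [hcard]; norm_num)).trans (D.card_dvd_of_isotropic E hcomm h))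

variable {R : Subgroup G} [R.Normal] {N S : Subgroup (G ⧸ R)}

include D in
/-- The case of a nonabelian Sylow 2-subgroup of order sixteen of the factor is impossible. -/
theorem sixteen_false (h : Top R N S) (hM : Modulo 2 (QuotientGroup.mk' R)) {P : Sylow 2 G}
    (hP : Nat.card (P : Subgroup G) = 16) {Q : Sylow 2 S}
    (hQP : (Q : Subgroup S).map S.subtype = (P : Subgroup G).map (QuotientGroup.mk' R))
    (hQ : ¬ IsMulCommutative (Q : Subgroup S)) : False := by
  classical
  haveI : Fact (Nat.Prime 2) := ⟨Nat.prime_two⟩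
  haveI := h.simple
  have hFT : FTDeps.Basic.OddOrderSolvable.{u} := fun H _ _ ho => Cfsg.Agent.S0205.result ho
  set π := QuotientGroup.mk' R
  -- the lift
  choose ℓ hℓP hℓ using fun x : (Q : Subgroup S) =>
    (hQP ▸ mem_map_of_mem S.subtype x.2 : S.subtype x ∈ (P : Subgroup G).map π)
  have hℓmul : ∀ x y, ℓ (x * y) = ℓ x * ℓ y := fun x y =>
    hM.inj P.2 (hℓP _) (mul_mem (hℓP x) (hℓP y)) (by rw [map_mul, hℓ, hℓ, hℓ, Subgroup.coe_mul, map_mul])
  let lift : (Q : Subgroup S) →* G := MonoidHom.mk' ℓ hℓmul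
  have hinj : Function.Injective lift := fun a b hab => Subtype.ext (Subtype.ext (by
    have h1 := hℓ a
    rw [show ℓ a = ℓ b from hab, hℓ] at h1
    exact h1.symm))
  have hcardQ : Nat.card (Q : Subgroup S) = 16 := by
    rw [← Subgroup.card_map_of_injective S.subtype_injective, hQP, hM.card_map P.2, hP]
  have hP4 : Nat.card (P : Subgroup G) = 2 ^ 4 := by rw [hP]; norm_num
  have hord : ∀ x : (Q : Subgroup S), orderOf x ≠ 8 := by
    intro x hx
    have ho : orderOf (ℓ x) = 8 := (orderOf_injective lift hinj x).trans hx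
    refine not_cube_dvd D hP4 ?_
    have h1 : Nat.card (zpowers (ℓ x)) = 2 ^ 3 := by rw [Nat.card_zpowers, ho]; norm_num
    rw [← h1]
    refine D.card_dvd_of_isotropic _ (fun a ha b hb => ?_) fun a ha b hb => ?_
    · obtain ⟨i, rfl⟩ := mem_zpowers_iff.1 ha
      obtain ⟨j, rfl⟩ := mem_zpowers_iff.1 hb
      exact (Commute.refl (ℓ x)).zpow_zpow i j
    · obtain ⟨i, rfl⟩ := (isOfFinOrder_of_finite (ℓ x)).mem_powers_iff_mem_zpowers.2 ha
      obtain ⟨j, rfl⟩ := (isOfFinOrder_of_finite (ℓ x)).mem_powers_iff_mem_zpowers.2 hb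
      show D.beta (ℓ x ^ i) (ℓ x ^ j) = 1
      have h1 := D.beta_swap (Commute.pow_self (ℓ x) i).symm
      rw [D.beta_pow (Commute.refl (ℓ x)), D.beta_self, one_pow, one_mul] at h1
      rw [D.beta_pow (Commute.pow_self (ℓ x) i), h1, one_pow]
  -- the rank is at least three
  have hrank : ¬ Cfsg.PRankLE 2 2 S := by
    intro h2
    haveI : Fintype (GaloisField 2 4) := Fintype.ofFinite _
    have hF : Fintype.card (GaloisField 2 4) = 16 := by
      rw [← Nat.card_eq_fintype_card, GaloisField.card 2 4 (by norm_num)]; norm_num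
    obtain ⟨P₀⟩ : Nonempty (Sylow 2 (Cfsg.PSU 3 (GaloisField 2 4) 4)) := inferInstance
    rcases FTDeps.Row0516.result hFT h.nonab h2 Q hF P₀ with
      ⟨n, hn, ⟨e⟩⟩ | ⟨n, hn, hc, x, y, hx, -⟩ | ⟨n, hn, hc, -⟩ | ⟨⟨e⟩⟩
    · have h8 : n = 8 := by
        have := Nat.card_congr e.toEquiv
        rw [hcardQ, DihedralGroup.nat_card] at this
        omega
      subst h8
      exact hord (e.symm (.r 1)) (by rw [MulEquiv.orderOf_eq, DihedralGroup.orderOf_r_one])
    · rw [hcardQ] at hc
      have : n + 1 = 4 := (Nat.pow_right_injective le_rfl (hc.symm.trans (by norm_num : (16 : ℕ) = 2 ^ 4)))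
      exact hord x (by rw [hx, show n = 3 by omega]; norm_num)
    · rw [hcardQ] at hc
      have : 2 * n + 1 = 4 := (Nat.pow_right_injective le_rfl (hc.symm.trans (by norm_num : (16 : ℕ) = 2 ^ 4)))
      omega
    · obtain ⟨C⟩ := Fusion.U34Sylow.exists_coords hF P₀
      have h1 := Nat.card_congr C.equiv
      rw [Fusion.U34Sylow.card_pairs hF, ← Nat.card_congr e.toEquiv, hcardQ] at h1
      omega
  obtain ⟨A, hAc, hAe, hA⟩ : ∃ A : Subgroup S, IsMulCommutative A ∧ (∀ a ∈ A, a ^ 2 = 1) ∧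
      4 < Nat.card A := by
    unfold Cfsg.PRankLE at hrank
    push Not at hrank
    obtain ⟨A, h1, h2, h3⟩ := hrank
    exact ⟨A, h1, h2, by simpa using h3⟩
  have hA2 : IsPGroup 2 A := fun a => ⟨1, Subtype.ext (hAe a a.2)⟩
  obtain ⟨Q₁, hQ₁⟩ := hA2.exists_le_sylow
  obtain ⟨c, hc⟩ := MulAction.exists_smul_eq S Q₁ Q
  obtain ⟨E, hEA, hEc⟩ : ∃ E : Subgroup S, E ≤ A.map (MulAut.conj c).toMonoidHom ∧ Nat.card E = 8 := by
    have hA'2 : IsPGroup 2 (A.map (MulAut.conj c).toMonoidHom) := hA2.map _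
    obtain ⟨k, hk⟩ := IsPGroup.iff_card.1 hA'2
    have h3 : 3 ≤ k := by
      by_contra hlt
      have : 2 ^ k ≤ 2 ^ 2 := Nat.pow_le_pow_right (by norm_num) (by omega)
      rw [← hk, card_map_of_injective (MulAut.conj c).injective] at this
      omega
    obtain ⟨E₀, hE₀⟩ := Sylow.exists_subgroup_card_pow_prime 2 (n := 3)
      (G := A.map (MulAut.conj c).toMonoidHom) (hk ▸ pow_dvd_pow 2 h3)
    exact ⟨E₀.map (A.map (MulAut.conj c).toMonoidHom).subtype, map_subtype_le _,
      by rw [card_map_of_injective (Subgroup.subtype_injective _), hE₀]; norm_num⟩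
  have hEQ : E ≤ (Q : Subgroup S) := hEA.trans (by
    rw [← hc, Sylow.coe_subgroup_smul, Subgroup.pointwise_smul_def]
    exact map_mono hQ₁)
  have hEe : ∀ a ∈ E, a * a = 1 := by
    intro a ha
    obtain ⟨b, hb, rfl⟩ := hEA ha
    rw [← map_mul, ← sq, hAe b hb, map_one]
  -- the lifted subgroup
  set E₁ : Subgroup G := (E.subgroupOf Q).map lift with hE₁
  have hE₁c : Nat.card E₁ = 8 := by
    rw [hE₁, card_map_of_injective hinj, Nat.card_congr (Subgroup.subgroupOfEquivOfLe hEQ).toEquiv, hEc]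
  have hE₁e : ∀ a ∈ E₁, a * a = 1 := by
    rintro _ ⟨a, ha, rfl⟩
    rw [← map_mul, show a * a = 1 from Subtype.ext (hEe a ha), map_one]
  obtain ⟨_, ⟨ρ, hρE, rfl⟩, hρ1, hρb, hρu⟩ := exists_radical D hP hE₁c hE₁e
  have hEcomm : ∀ a ∈ E, ∀ b ∈ E, a * b = b * a := fun a ha b hb => by
    obtain ⟨a', ha', rfl⟩ := hEA ha
    obtain ⟨b', hb', rfl⟩ := hEA hb
    rw [← map_mul, ← map_mul]
    exact congrArg _ (congrArg Subtype.val (hAc.is_comm.comm (⟨a', ha'⟩ : A) ⟨b', hb'⟩))
  by_cases hout : ∃ b ∈ (Q : Subgroup S), b * b = 1 ∧ b ∉ E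
  · -- type `C₂ × D₈`
    obtain ⟨b, hbQ, hb2, hbE⟩ := hout
    let E' : Subgroup (Q : Subgroup S) := E.subgroupOf Q
    have hE'c : Nat.card E' = 8 := (Nat.card_congr (Subgroup.subgroupOfEquivOfLe hEQ).toEquiv).trans hEc
    have hidx : E'.index = 2 := by
      have := E'.card_mul_index
      rw [hE'c, hcardQ] at this
      omega
    haveI := normal_of_index_eq_two hidx
    let bq : (Q : Subgroup S) := ⟨b, hbQ⟩
    have hbq : bq * bq = 1 := Subtype.ext hb2
    have hbq' : bq⁻¹ = bq := inv_eq_of_mul_eq_one_right hbq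
    have hbE' : bq ∉ E' := hbE
    have hcE : ∀ x ∈ E', ∀ y ∈ E', Commute x y := fun x hx y hy => Subtype.ext (hEcomm _ hx _ hy)
    have h2E : ∀ x ∈ E', x * x = 1 := fun x hx => Subtype.ext (hEe _ hx)
    have hbconj : ∀ x ∈ E', bq * x * bq ∈ E' := fun x hx => by
      have := (inferInstance : E'.Normal).conj_mem x hx bq
      rwa [hbq'] at this
    have hdec : ∀ q : (Q : Subgroup S), q ∈ E' ∨ ∃ x ∈ E', q = bq * x := fun q => by
      by_cases hq : q ∈ E'
      · exact Or.inl hq
      · refine Or.inr ⟨bq * q, ?_, by rw [← mul_assoc, hbq, one_mul]⟩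
        rw [Subgroup.mul_mem_iff_of_index_two hidx]
        simp [hq, hbE']
    -- the commutator map
    let δ : E' →* E' :=
      { toFun := fun x => ⟨(x : (Q : Subgroup S)) * (bq * x * bq), mul_mem x.2 (hbconj x x.2)⟩
        map_one' := Subtype.ext (by simp [hbq])
        map_mul' := fun x y => Subtype.ext (by
          show (x : (Q : Subgroup S)) * y * (bq * (x * y) * bq) =
            x * (bq * x * bq) * (y * (bq * y * bq))
          have h1 : bq * ((x : (Q : Subgroup S)) * y) * bq = (bq * x * bq) * (bq * y * bq) := by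
            calc bq * ((x : (Q : Subgroup S)) * y) * bq = bq * x * (bq * bq) * y * bq := by
                  rw [hbq, mul_one]; group
              _ = _ := by group
          rw [h1]
          calc (x : (Q : Subgroup S)) * y * (bq * x * bq * (bq * y * bq))
              = x * ((y : (Q : Subgroup S)) * (bq * x * bq)) * (bq * y * bq) := by group
            _ = x * ((bq * x * bq) * y) * (bq * y * bq) := by rw [(hcE y y.2 _ (hbconj x x.2)).eq]
            _ = _ := by group) }
    have hδfix : ∀ x : E', δ x = 1 ↔ bq * (x : (Q : Subgroup S)) * bq = x := fun x => by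
      rw [Subtype.ext_iff]
      show (x : (Q : Subgroup S)) * (bq * x * bq) = 1 ↔ _
      constructor
      · intro h
        rw [← inv_eq_of_mul_eq_one_right h, inv_eq_of_mul_eq_one_right (h2E x x.2)]
      · intro h
        rw [h, h2E x x.2]
    have hrk : δ.range ≤ δ.ker := by
      rintro _ ⟨x, rfl⟩
      rw [MonoidHom.mem_ker, hδfix]
      show bq * ((x : (Q : Subgroup S)) * (bq * x * bq)) * bq = x * (bq * x * bq)
      rw [(hcE x x.2 _ (hbconj x x.2)).eq]
      calc bq * (bq * (x : (Q : Subgroup S)) * bq * x) * bq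
          = (bq * bq) * x * (bq * x * bq) := by group
        _ = x * (bq * x * bq) := by rw [hbq, one_mul]
        _ = _ := (hcE x x.2 _ (hbconj x x.2)).eq
    obtain ⟨a, ha, hac⟩ : ∃ a ∈ E', bq * a * bq ≠ a := by
      by_contra hall
      push Not at hall
      have hbc : ∀ x ∈ E', Commute bq x := fun x hx => by
        show bq * x = x * bq
        calc bq * x = bq * x * (bq * bq) := by rw [hbq, mul_one]
          _ = (bq * x * bq) * bq := by group
          _ = x * bq := by rw [hall x hx]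
      refine hQ ⟨⟨fun u v => ?_⟩⟩
      rcases hdec u with hu | ⟨u', hu, rfl⟩ <;> rcases hdec v with hv | ⟨v', hv, rfl⟩
      · exact (hcE u hu v hv).eq
      · exact ((hbc u hu).symm.mul_right (hcE u hu v' hv)).eq
      · exact ((hbc v hv).mul_left (hcE u' hu v hv)).eq
      · exact (((Commute.refl bq).mul_right (hbc v' hv)).mul_left
          ((hbc u' hu).symm.mul_right (hcE u' hu v' hv))).eq
    set cm : (Q : Subgroup S) := a * (bq * a * bq) with hcm
    have hcm1 : cm ≠ 1 := fun e => hac ((hδfix ⟨a, ha⟩).1 (Subtype.ext e))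
    -- a fixed element outside the commutators
    obtain ⟨z, hzker, hz1, hzc⟩ : ∃ z : E', z ∈ δ.ker ∧ z ≠ 1 ∧ (z : (Q : Subgroup S)) ≠ cm := by
      by_contra hno
      push Not at hno
      have hker : Nat.card δ.ker ≤ 2 := by
        have hsub : (δ.ker : Set E') ⊆ ({1, δ ⟨a, ha⟩} : Finset E') := fun z hz => by
          simp only [Finset.coe_insert, Finset.coe_singleton, Set.mem_insert_iff, Set.mem_singleton_iff]
          by_cases h1 : z = 1
          · exact Or.inl h1
          · exact Or.inr (Subtype.ext (hno z hz h1))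
        have := Set.ncard_le_ncard hsub (Finset.finite_toSet _)
        rw [Set.ncard_coe_finset, ← Nat.card_coe_set_eq] at this
        exact this.trans Finset.card_le_two
      have h1 := δ.ker.card_mul_index
      rw [Subgroup.index_ker, hE'c] at h1
      have h2 := Subgroup.card_le_of_le hrk
      have : Nat.card δ.ker * Nat.card δ.range ≤ 2 * 2 := Nat.mul_le_mul hker (h2.trans hker)
      omega
    have hzb : bq * (z : (Q : Subgroup S)) * bq = z := (hδfix z).1 hzker
    set x := a * bq with hx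
    have hx2 : x * x = cm := by simp only [hx, hcm, mul_assoc]
    have hx4 : x ^ 4 = 1 := by
      rw [show (4 : ℕ) = 2 * 2 from rfl, pow_mul, sq x, hx2, sq, h2E _ (mul_mem ha (hbconj a ha))]
    have hxc : bq * x * bq = x⁻¹ := by
      rw [hx, mul_inv_rev, hbq', inv_eq_of_mul_eq_one_right (h2E a ha)]
      calc bq * (a * bq) * bq = bq * a * (bq * bq) := by group
        _ = bq * a := by rw [hbq, mul_one]
    obtain ⟨φ, hφr, hφs⟩ := exists_dihedralHom hx4 hbq hxc
    let ζ : Multiplicative (ZMod 2) →* (Q : Subgroup S) :=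
      { toFun := fun i => (z : (Q : Subgroup S)) ^ (Multiplicative.toAdd i).val
        map_one' := by simp
        map_mul' := fun i j => by
          rw [toAdd_mul, ZMod.val_add, ← pow_eq_pow_mod _ (by rw [sq]; exact h2E z z.2), pow_add] }
    have hzx : Commute (z : (Q : Subgroup S)) x := by
      have h1 : Commute (z : (Q : Subgroup S)) bq := by
        show (z : (Q : Subgroup S)) * bq = bq * z
        calc (z : (Q : Subgroup S)) * bq = (bq * z * bq) * bq := by rw [hzb]
          _ = bq * z * (bq * bq) := by group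
          _ = bq * z := by rw [hbq, mul_one]
      exact (hcE z z.2 a ha).mul_right h1
    have hzbc : Commute (z : (Q : Subgroup S)) bq := by
      show (z : (Q : Subgroup S)) * bq = bq * z
      calc (z : (Q : Subgroup S)) * bq = (bq * z * bq) * bq := by rw [hzb]
        _ = bq * z * (bq * bq) := by group
        _ = bq * z := by rw [hbq, mul_one]
    have hcommζ : ∀ i d, Commute (ζ i) (φ d) := by
      intro i d
      rcases d with j | j
      · rw [hφr]; exact (hzx.pow_left _).pow_right _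
      · rw [hφs]; exact (hzbc.pow_left _).mul_right ((hzx.pow_left _).pow_right _)
    let Φ : LAEven56.TwoDihedral.W →* (Q : Subgroup S) := ζ.noncommCoprod φ hcommζ
    have hsurj : Function.Surjective Φ := by
      rw [← MonoidHom.range_eq_top]
      have hxr : x ∈ Φ.range := ⟨(1, .r 1), by
        show ζ 1 * φ (.r 1) = x
        rw [map_one, one_mul, hφr, show (1 : ZMod 4).val = 1 from rfl, pow_one]⟩
      have hbr : bq ∈ Φ.range := ⟨(1, .sr 0), by
        show ζ 1 * φ (.sr 0) = bq
        rw [map_one, one_mul, hφs, ZMod.val_zero, pow_zero, mul_one]⟩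
      have hzr : (z : (Q : Subgroup S)) ∈ Φ.range := ⟨(Multiplicative.ofAdd 1, 1), by
        show (z : (Q : Subgroup S)) ^ (1 : ZMod 2).val * φ 1 = _
        rw [map_one, mul_one, show (1 : ZMod 2).val = 1 from rfl, pow_one]⟩
      have har : a ∈ Φ.range := by
        have := mul_mem hxr hbr
        rwa [hx, mul_assoc, hbq, mul_one] at this
      -- the range contains an elementary abelian subgroup of order eight and `bq`
      have hcmr : cm ∈ Φ.range := mul_mem har (mul_mem (mul_mem hbr har) hbr)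
      have hE'r : E' ≤ Φ.range := by
        have hac' : a ≠ cm := fun e => by
          have h1 : bq * a * bq = 1 := mul_eq_left.1 e.symm
          have h2 : a = 1 := by
            calc a = (bq * bq) * a * (bq * bq) := by rw [hbq, one_mul, mul_one]
              _ = bq * (bq * a * bq) * bq := by group
              _ = 1 := by rw [h1, mul_one, hbq]
          exact hac (by rw [h2, mul_one, hbq])
        have hfixcm : bq * cm * bq = cm := (hδfix (δ ⟨a, ha⟩)).1 (hrk ⟨_, rfl⟩)
        have hza : (z : (Q : Subgroup S)) ≠ a := fun e => hac (by rw [← e, hzb])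
        have hzcma : (z : (Q : Subgroup S)) ≠ a * cm := fun e => by
          rw [hcm, ← mul_assoc, h2E a ha, one_mul] at e
          have h3 := hzb
          rw [e, show bq * (bq * a * bq) * bq = (bq * bq) * a * (bq * bq) by group, hbq, one_mul,
            mul_one] at h3
          exact hac h3.symm
        have hzp2 : ∀ {t}, t ∈ E' → t ≠ 1 → Nat.card (zpowers t) = 2 := fun ht ht1 => by
          rw [Nat.card_zpowers]
          exact orderOf_eq_prime (by rw [sq]; exact h2E _ ht) ht1
        have hzp : ∀ {t}, t ∈ E' → ∀ w ∈ zpowers t, w = 1 ∨ w = t := by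
          intro t ht w hw
          obtain ⟨n, rfl⟩ := (isOfFinOrder_of_finite t).mem_powers_iff_mem_zpowers.2 hw
          show t ^ n = 1 ∨ t ^ n = t
          rcases Nat.even_or_odd' n with ⟨m, rfl | rfl⟩
          · exact Or.inl (by rw [pow_mul, sq, h2E t ht, one_pow])
          · exact Or.inr (by rw [pow_succ, pow_mul, sq, h2E t ht, one_pow, one_mul])
        have hcmE : cm ∈ E' := mul_mem ha (hbconj a ha)
        have hd : zpowers a ⊓ zpowers cm = ⊥ := by
          rw [eq_bot_iff]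
          intro w hw
          rcases hzp ha w hw.1 with h | h
          · exact mem_bot.2 h
          · rcases hzp hcmE w hw.2 with h' | h'
            · exact mem_bot.2 h'
            · exact absurd (h.symm.trans h') hac'
        have hc2 : ∀ u ∈ zpowers a, ∀ v ∈ zpowers cm, Commute u v := fun u hu v hv =>
          hcE u (zpowers_le.2 ha hu) v (zpowers_le.2 hcmE hv)
        have hA2 : zpowers a ⊔ zpowers cm ≤ E' := sup_le (zpowers_le.2 ha) (zpowers_le.2 hcmE)
        have hd3 : (zpowers a ⊔ zpowers cm) ⊓ zpowers (z : (Q : Subgroup S)) = ⊥ := by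
          rw [eq_bot_iff]
          intro w hw
          obtain ⟨i, hi, j, hj, rfl⟩ := (card_sup hc2 hd).2 w hw.1
          rcases hzp z.2 _ hw.2 with h | h
          · exact mem_bot.2 h
          · rcases hzp ha i hi with rfl | rfl <;> rcases hzp hcmE j hj with rfl | rfl
            · exact absurd (Subtype.ext ((one_mul _).symm.trans h).symm) hz1
            · exact absurd ((one_mul _).symm.trans h).symm hzc
            · exact absurd ((mul_one _).symm.trans h).symm hza
            · exact absurd h.symm hzcma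
        have hc3 : ∀ u ∈ zpowers a ⊔ zpowers cm, ∀ v ∈ zpowers (z : (Q : Subgroup S)), Commute u v :=
          fun u hu v hv => hcE u (hA2 hu) v (zpowers_le.2 z.2 hv)
        have heq := eq_of_le_of_card_ge (sup_le hA2 (zpowers_le.2 z.2)) (by
          rw [(card_sup hc3 hd3).1, (card_sup hc2 hd).1, hzp2 ha (fun e => hac (by rw [e, mul_one, hbq])),
            hzp2 hcmE hcm1, hzp2 z.2 (fun e => hz1 (Subtype.ext e)), hE'c])
        rw [← heq]
        exact sup_le (sup_le (zpowers_le.2 har) (zpowers_le.2 hcmr)) (zpowers_le.2 hzr)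
      rw [eq_top_iff]
      intro q _
      rcases hdec q with hq | ⟨q', hq', rfl⟩
      · exact hE'r hq
      · exact mul_mem hbr (hE'r hq')
    have hiso : Nonempty ((Q : Subgroup S) ≃* LAEven56.TwoDihedral.W) :=
      ⟨(MulEquiv.ofBijective Φ ((Nat.bijective_iff_surjective_and_card Φ).2 ⟨hsurj, by
        rw [hcardQ, Nat.card_prod, DihedralGroup.nat_card, Nat.card_congr Multiplicative.toAdd,
          Nat.card_zmod]⟩)).symm⟩
    obtain ⟨H, hH⟩ := LAEven56.TwoDihedral.exists_index_two Q hiso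
    exact FTDeps.Row0516.index_ne_two h.nonab H hH
  · -- the radical is isolated
    push Not at hout
    have hinvE : ∀ {K : Subgroup S}, K ≤ (Q : Subgroup S) → (∀ a ∈ K, a * a = 1) → K ≤ E :=
      fun hK hK2 a ha => hout a (hK ha) (hK2 a ha)
    have huE : ∀ {T F₁ F₂ : Subgroup S}, IsPGroup 2 T → F₁ ≤ T → F₂ ≤ T → (∀ a ∈ F₁, a * a = 1) →
        (∀ a ∈ F₂, a * a = 1) → Nat.card F₁ = 8 → Nat.card F₂ = 8 → F₁ = F₂ := by
      intro T F₁ F₂ hT h1 h2 e1 e2 c1 c2
      obtain ⟨Q₂, hQ₂⟩ := hT.exists_le_sylow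
      obtain ⟨d, hd⟩ := MulAction.exists_smul_eq S Q₂ Q
      have key : ∀ {K : Subgroup S}, K ≤ T → (∀ a ∈ K, a * a = 1) → Nat.card K = 8 →
          K.map (MulAut.conj d).toMonoidHom = E := by
        intro K hK hK2 hKc
        refine eq_of_le_of_card_ge (hinvE ?_ ?_) (by
          rw [card_map_of_injective (MulAut.conj d).injective, hKc, hEc])
        · rw [← hd, Sylow.coe_subgroup_smul, Subgroup.pointwise_smul_def]
          exact map_mono (hK.trans hQ₂)
        · rintro _ ⟨a, ha, rfl⟩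
          rw [← map_mul, hK2 a ha, map_one]
      exact Subgroup.map_injective (MulAut.conj d).injective ((key h1 e1 c1).trans (key h2 e2 c2).symm)
    set r₀ : S := (ρ : S) with hr₀
    have hr1 : r₀ ≠ 1 := fun e => hρ1 (by
      rw [show ρ = 1 from Subtype.ext e, map_one])
    have hr2 : orderOf r₀ = 2 := orderOf_eq_prime (by rw [sq]; exact hEe _ hρE) hr1
    -- a conjugate of the radical in `E` is the radical
    have hfix : ∀ s : S, s * r₀ * s⁻¹ ∈ E → s * r₀ * s⁻¹ = r₀ := by
      intro s hs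
      set t := s * r₀ * s⁻¹ with ht
      set C := centralizer ({t} : Set S)
      set Es := E.map (MulAut.conj s).toMonoidHom
      have hEC : E ≤ C := fun a ha => mem_centralizer_singleton_iff.2 (hEcomm a ha t hs)
      have hEsC : Es ≤ C := by
        rintro _ ⟨a, ha, rfl⟩
        refine mem_centralizer_singleton_iff.2 ?_
        show s * a * s⁻¹ * (s * r₀ * s⁻¹) = s * r₀ * s⁻¹ * (s * a * s⁻¹)
        calc s * a * s⁻¹ * (s * r₀ * s⁻¹) = s * (a * r₀) * s⁻¹ := by group
          _ = s * (r₀ * a) * s⁻¹ := by rw [hEcomm a ha r₀ hρE]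
          _ = _ := by group
      have hE2 : IsPGroup 2 E := IsPGroup.of_card (n := 3) (by rw [hEc]; norm_num)
      obtain ⟨T₁, hT₁⟩ := (hE2.comap_subtype (K := C)).exists_le_sylow
      obtain ⟨T₂, hT₂⟩ := ((hE2.map (MulAut.conj s).toMonoidHom).comap_subtype (K := C)).exists_le_sylow
      obtain ⟨k, hk⟩ := MulAction.exists_smul_eq C T₂ T₁
      set n := (k : S) * s with hn
      have hEn : E.map (MulAut.conj n).toMonoidHom = E := by
        refine huE ((T₁.2).map C.subtype) ?_ ?_ ?_ hEe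
          (by rw [card_map_of_injective (MulAut.conj n).injective, hEc]) hEc
        · rintro _ ⟨a, ha, rfl⟩
          have h1 : (⟨_, hEsC ⟨a, ha, rfl⟩⟩ : C) ∈ (T₂ : Subgroup C) := hT₂ ⟨a, ha, rfl⟩
          have h2 : k * ⟨_, hEsC ⟨a, ha, rfl⟩⟩ * k⁻¹ ∈ ((k • T₂ : Sylow 2 C) : Subgroup C) :=
            Subgroup.smul_mem_pointwise_smul _ (MulAut.conj k) _ h1
          rw [hk] at h2
          exact ⟨_, h2, by simp [hn, mul_assoc]⟩
        · exact fun a ha => ⟨⟨a, hEC ha⟩, hT₁ ha, rfl⟩
        · rintro _ ⟨a, ha, rfl⟩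
          rw [← map_mul, hEe a ha, map_one]
      have hnt : n * r₀ * n⁻¹ = t := by
        have hk' := mem_centralizer_singleton_iff.1 k.2
        calc n * r₀ * n⁻¹ = (k : S) * t * (k : S)⁻¹ := by rw [hn, ht]; group
          _ = t := by rw [hk', mul_inv_cancel_right]
      -- invariance of the pairing
      have hrad : ∀ a ∈ E₁, D.beta (ℓ ⟨t, hEQ hs⟩) a = 1 := by
        rintro _ ⟨a, ha, rfl⟩
        obtain ⟨a', ha', haa⟩ := (hEn.symm ▸ ha : (a : S) ∈ E.map (MulAut.conj n).toMonoidHom)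
        show D.beta (ℓ ⟨t, hEQ hs⟩) (ℓ a) = 1
        rw [hM.beta_fused D P.2 (hℓP ρ) (hℓP ⟨a', hEQ ha'⟩) (hℓP _) (hℓP _)
          (show ℓ ρ * ℓ ⟨a', hEQ ha'⟩ = ℓ ⟨a', hEQ ha'⟩ * ℓ ρ by
            rw [← hℓmul, ← hℓmul, show ρ * ⟨a', hEQ ha'⟩ = ⟨a', hEQ ha'⟩ * ρ from
              Subtype.ext (hEcomm _ hρE _ ha')])
          (w := S.subtype n)
          (by rw [hℓ, hℓ]; exact congrArg S.subtype hnt)
          (by rw [hℓ, hℓ]; exact congrArg S.subtype haa)]
        exact hρb _ ⟨⟨a', hEQ ha'⟩, ha', rfl⟩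
      have hne : ℓ ⟨t, hEQ hs⟩ ≠ 1 := fun e => by
        have h1 := hinj (e.trans (map_one lift).symm)
        exact hr1 (conj_eq_one_iff.1 (congrArg Subtype.val h1))
      have := hinj (hρu _ ⟨⟨t, hEQ hs⟩, hs, rfl⟩ hne hrad)
      exact congrArg Subtype.val this
    refine FTDeps.Row0516.not_isolated hFT h.nonab r₀ ⟨hr2, fun g hg => ?_⟩
    set w := g * r₀ * g⁻¹ with hw
    have hr00 : r₀ * r₀ = 1 := hEe _ hρE
    have hT : IsPGroup 2 (closure ({r₀, w} : Set S)) := by
      haveI : IsMulCommutative (closure ({r₀, w} : Set S)) := Subgroup.isMulCommutative_closure (by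
        rintro a (rfl | rfl) b (rfl | rfl)
        exacts [rfl, hg.eq, hg.eq.symm, rfl])
      intro x
      refine ⟨1, Subtype.ext ?_⟩
      have hwo : w * w = 1 := by
        rw [hw, show g * r₀ * g⁻¹ * (g * r₀ * g⁻¹) = g * (r₀ * r₀) * g⁻¹ by group, hr00, mul_one,
          mul_inv_cancel]
      show (x : S) ^ (2 ^ 1) = 1
      rw [pow_one, sq]
      obtain ⟨x, hx⟩ := x
      simp only
      induction hx using Subgroup.closure_induction with
      | mem a ha => rcases ha with rfl | rfl; exacts [hEe _ hρE, hwo]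
      | one => rw [one_mul]
      | mul a b ha hb iha ihb =>
        have hab : Commute a b := congrArg Subtype.val
          ((inferInstance : IsMulCommutative (closure ({r₀, w} : Set S))).is_comm.comm ⟨a, ha⟩ ⟨b, hb⟩)
        rw [← sq, hab.mul_pow, sq, sq, iha, ihb, one_mul]
      | inv a _ iha => rw [← mul_inv_rev, iha, inv_one]
    obtain ⟨Q₂, hQ₂⟩ := hT.exists_le_sylow
    obtain ⟨d, hd⟩ := MulAction.exists_smul_eq S Q₂ Q
    have hconjQ : ∀ {x : S}, x ∈ closure ({r₀, w} : Set S) → d * x * d⁻¹ ∈ (Q : Subgroup S) := by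
      intro x hx
      rw [← hd, Sylow.coe_subgroup_smul]
      exact Subgroup.smul_mem_pointwise_smul _ (MulAut.conj d) _ (hQ₂ hx)
    have hinv2 : ∀ {x : S}, x * x = 1 → d * x * d⁻¹ * (d * x * d⁻¹) = 1 := fun {x} hx => by
      rw [show d * x * d⁻¹ * (d * x * d⁻¹) = d * (x * x) * d⁻¹ by group, hx, mul_one, mul_inv_cancel]
    have hw2 : w * w = 1 := by
      rw [hw, show g * r₀ * g⁻¹ * (g * r₀ * g⁻¹) = g * (r₀ * r₀) * g⁻¹ by group, hr00, mul_one,
        mul_inv_cancel]
    have e1 := hfix d (hout _ (hconjQ (subset_closure (Set.mem_insert _ _))) (hinv2 (hEe _ hρE)))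
    have hwE : d * w * d⁻¹ ∈ E :=
      hout _ (hconjQ (subset_closure (Set.mem_insert_of_mem _ rfl))) (hinv2 hw2)
    have hdg : d * g * r₀ * (d * g)⁻¹ = d * w * d⁻¹ := by rw [hw]; group
    have e2 := hfix (d * g) (hdg ▸ hwE)
    rw [hdg] at e2
    exact mul_left_cancel (mul_right_cancel (e2.trans e1.symm))

include D in
/-- The Sylow 2-subgroups of the simple factor are abelian or dihedral. -/
theorem sylow_two_cases (hG : SmallSylows G) (h : Top R N S) :
    Walter.AbelianSylow S ∨ GorensteinWalter.HasDihedralSylow S := by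
  classical
  haveI : Fact (Nat.Prime 2) := ⟨Nat.prime_two⟩
  haveI := h.simple
  have hFT : FTDeps.Basic.OddOrderSolvable.{u} := fun H _ _ ho => Cfsg.Agent.S0205.result ho
  set π := QuotientGroup.mk' R with hπ
  have hπs : Function.Surjective π := QuotientGroup.mk'_surjective R
  -- every 2-subgroup of the quotient lifts into a Sylow subgroup
  have hlift : ∀ {U : Subgroup (G ⧸ R)}, IsPGroup 2 U →
      ∃ P : Sylow 2 G, U ≤ (P : Subgroup G).map π := by
    intro U hU
    obtain ⟨P'', hP''⟩ := hU.exists_le_sylow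
    obtain ⟨P₀⟩ : Nonempty (Sylow 2 G) := inferInstance
    obtain ⟨g, hg⟩ := MulAction.exists_smul_eq (G ⧸ R) (P₀.mapSurjective hπs) P''
    obtain ⟨g₀, rfl⟩ := hπs g
    refine ⟨g₀ • P₀, hP''.trans (le_of_eq ?_)⟩
    rw [← hg, Sylow.coe_subgroup_smul, Sylow.coe_subgroup_smul, Subgroup.pointwise_smul_def,
      Subgroup.pointwise_smul_def]
    show ((P₀ : Subgroup G).map π).map _ = _
    refine Eq.trans (Subgroup.map_map _ _ _) (Eq.trans ?_ (Subgroup.map_map _ _ _).symm)
    congr 1
  obtain ⟨Q₀⟩ : Nonempty (Sylow 2 S) := inferInstance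
  obtain ⟨P, hQP⟩ := hlift (Q₀.2.map S.subtype)
  have hall : IsMulCommutative (Q₀ : Subgroup S) → Walter.AbelianSylow S := fun hc Q => by
    exact ⟨⟨fun a b => (Sylow.equiv Q Q₀).injective (by
      rw [map_mul, map_mul, hc.is_comm.comm])⟩⟩
  by_cases hQc : IsMulCommutative (Q₀ : Subgroup S)
  · exact Or.inl (hall hQc)
  have h16 : Nat.card (P : Subgroup G) = 16 := by
    refine ((comm_or_card D hG P).resolve_left fun hab => hQc ⟨⟨fun a b => ?_⟩⟩).trans (by norm_num)
    obtain ⟨a', ha', ha''⟩ := hQP (mem_map_of_mem S.subtype a.2)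
    obtain ⟨b', hb', hb''⟩ := hQP (mem_map_of_mem S.subtype b.2)
    refine Subtype.ext (S.subtype_injective ?_)
    rw [Subgroup.coe_mul, Subgroup.coe_mul, map_mul, map_mul, ← ha'', ← hb'', ← map_mul, ← map_mul,
      hab a' ha' b' hb']
  have hdvd16 : Nat.card (Q₀ : Subgroup S) ∣ 16 := by
    rw [← card_map_of_injective S.subtype_injective, ← h16]
    exact (Subgroup.card_dvd_of_le hQP).trans (card_map_dvd _ _)
  obtain ⟨k, hk, hk'⟩ := (Nat.dvd_prime_pow Nat.prime_two).1 (show _ ∣ 2 ^ 4 from hdvd16)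
  have hk3 : 3 ≤ k := by
    by_contra hlt
    refine hQc ⟨⟨?_⟩⟩
    rcases (show k ≤ 1 ∨ k = 2 by omega) with hk1 | rfl
    · haveI : IsCyclic (Q₀ : Subgroup S) := by
        rcases (show k = 0 ∨ k = 1 by omega) with rfl | rfl
        · haveI : Subsingleton (Q₀ : Subgroup S) := (Nat.card_eq_one_iff_unique.1 hk').1
          exact isCyclic_of_subsingleton
        · exact isCyclic_of_prime_card (p := 2) hk'
      exact (IsCyclic.commGroup (α := (Q₀ : Subgroup S))).mul_comm
    · exact IsPGroup.commutative_of_card_eq_prime_sq hk'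
  rcases (show k = 3 ∨ k = 4 by omega) with rfl | rfl
  · right
    intro Q
    refine ⟨4, by norm_num, ?_⟩
    rcases eight_cases (Q := (Q₀ : Subgroup S)) (hk'.trans (by norm_num)) hQc with he | huniq
    · obtain ⟨e⟩ := he
      exact ⟨(Sylow.equiv Q Q₀).trans e⟩
    exfalso
    refine FTDeps.Row0516.not_rank_one hFT h.nonab fun A _ hA2 => ?_
    have hA : IsPGroup 2 A := fun a => ⟨1, Subtype.ext (hA2 a a.2)⟩
    obtain ⟨Q₁, hQ₁⟩ := hA.exists_le_sylow
    let ψ : A → (Q₀ : Subgroup S) := fun a => Sylow.equiv Q₁ Q₀ ⟨a, hQ₁ a.2⟩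
    have hψ : Function.Injective ψ := fun a b hab => Subtype.ext
      (congrArg Subtype.val ((Sylow.equiv Q₁ Q₀).injective hab) : _)
    have hψ2 : ∀ a, ψ a * ψ a = 1 := fun a => by
      rw [← map_mul, show (⟨(a : S), hQ₁ a.2⟩ * ⟨(a : S), hQ₁ a.2⟩ : (Q₁ : Subgroup S)) = 1 from
        Subtype.ext (by show (a : S) * a = 1; rw [← sq]; exact hA2 a a.2), map_one]
    by_contra hgt
    rw [pow_one] at hgt
    haveI := Fintype.ofFinite A
    rw [not_le, Nat.card_eq_fintype_card, Fintype.two_lt_card_iff] at hgt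
    obtain ⟨a, b, c, hab, hac, hbc⟩ := hgt
    have hone : ∀ x : A, ψ x = 1 → x = 1 := fun x hx => hψ (hx.trans
      (map_one (Sylow.equiv Q₁ Q₀)).symm)
    by_cases ha : a = 1
    · have hb1 : ψ b ≠ 1 := fun e => hab (ha.trans (hone b e).symm)
      have hc1 : ψ c ≠ 1 := fun e => hac (ha.trans (hone c e).symm)
      exact hbc (hψ (huniq _ _ (hψ2 b) hb1 (hψ2 c) hc1))
    · have ha1 : ψ a ≠ 1 := fun e => ha (hone a e)
      by_cases hb : b = 1
      · have hc1 : ψ c ≠ 1 := fun e => hbc (hb.trans (hone c e).symm)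
        exact hac (hψ (huniq _ _ (hψ2 a) ha1 (hψ2 c) hc1))
      · exact hab (hψ (huniq _ _ (hψ2 a) ha1 (hψ2 b) fun e => hb (hone b e)))
  · exfalso
    have hPc : Nat.card ((P : Subgroup G).map π) = 16 := by
      refine le_antisymm (h16 ▸ Nat.le_of_dvd Nat.card_pos (card_map_dvd _ _)) ?_
      calc 16 = Nat.card ((Q₀ : Subgroup S).map S.subtype) := by
            rw [card_map_of_injective S.subtype_injective, hk']; norm_num
        _ ≤ _ := card_le_of_le hQP
    have hM : Modulo 2 π := by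
      refine ⟨hπs, fun hd => ?_⟩
      rw [hπ, QuotientGroup.ker_mk'] at hd
      have hPR : (P : Subgroup G) ⊓ R = ⊥ := by
        rw [eq_bot_iff]
        intro x hx
        have hinj : Function.Bijective (π.subgroupMap (P : Subgroup G)) :=
          (Nat.bijective_iff_surjective_and_card _).2
            ⟨π.subgroupMap_surjective _, by rw [h16, hPc]⟩
        have := @hinj.1 ⟨x, hx.1⟩ 1 (Subtype.ext (by
          show π x = π 1
          rw [map_one]
          exact (QuotientGroup.eq_one_iff x).2 hx.2))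
        exact mem_bot.2 (congrArg Subtype.val this)
      have h1 : ¬ 2 ∣ (P : Subgroup G).relIndex R := fun hd' =>
        P.not_dvd_index (hd'.trans (relIndex_dvd_index _ _))
      apply h1
      rw [← inf_relIndex_right, hPR, relIndex_bot_left]
      exact hd
    exact sixteen_false D h hM h16 (eq_of_le_of_card_ge hQP (by
      rw [hPc, card_map_of_injective S.subtype_injective, hk']; norm_num)) hQc

end Cfsg.Agent.Lib.CentralType79
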